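import Cfsg.Agent.Lib.Known.SmallSquare.Two

/-!
# Symmetric matrices moving an invertible matrix onto a factorisable one
-/

set_option autoImplicit false

namespace CfsgLib.Known.SmallSquare

open Matrix

universe u

variable {F : Type u} [Field F]

theorem sym_entry {S : Matrix (Fin 2) (Fin 2) F} (hS : Sᵀ = S) : S 1 0 = S 0 1 := congrFun (congrFun hS 0) 1

theorem two_ext {A B : Matrix (Fin 2) (Fin 2) F} (h1 : A 0 0 = B 0 0) (h2 : A 0 1 = B 0 1) (h3 : A 1 0 = B 1 0)
    (h4 : A 1 1 = B 1 1) : A = B := by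
  ext i j
  fin_cases i <;> fin_cases j <;> assumption

/-- for an invertible `K` some symmetric `S` makes `S * K` factorisable -/
theorem exists_target [Fintype F] {d : F} (hd : d ≠ 0) (K : Matrix (Fin 2) (Fin 2) F) (hK : K.det ≠ 0) :
    ∃ S : Matrix (Fin 2) (Fin 2) F, Sᵀ = S ∧ S.det ≠ 0 ∧ (S * K).det = d ^ 2 ∧
      (S * K = d • 1 ∨ ((¬ ∃ c : F, S * K = c • 1) ∧ (S * K).trace ≠ 2 * d)) := by
  obtain ⟨Kg, hKg⟩ : ∃ Kg : GL (Fin 2) F, Kg.1 = K := ⟨GeneralLinearGroup.mkOfDetNeZero K hK, rfl⟩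
  by_cases hsym : Kᵀ = K
  · have hinv : ((Kg⁻¹).1)ᵀ = (Kg⁻¹).1 := by
      have h : ((Kg⁻¹).1)ᵀ * Kg.1 = 1 := by
        rw [show Kg.1 = Kg.1ᵀ by rw [hKg, hsym], ← transpose_mul, ← Units.val_mul, mul_inv_cancel, Units.val_one,
          transpose_one]
      calc ((Kg⁻¹).1)ᵀ = ((Kg⁻¹).1)ᵀ * (Kg.1 * (Kg⁻¹).1) := by
            rw [← Units.val_mul, mul_inv_cancel, Units.val_one, mul_one]
        _ = _ := by rw [← mul_assoc, h, one_mul]
    have e : d • (Kg⁻¹).1 * K = d • 1 := by
      rw [Matrix.smul_mul, ← hKg, ← Units.val_mul, inv_mul_cancel, Units.val_one]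
    refine ⟨d • (Kg⁻¹).1, by rw [transpose_smul, hinv], fun z => ?_, by rw [e]; simp [det_smul], Or.inl e⟩
    have h := congrArg Matrix.det e
    rw [det_mul, z, zero_mul, det_smul, det_one, mul_one, Fintype.card_fin] at h
    exact pow_ne_zero 2 hd h.symm
  have hne : K 0 1 ≠ K 1 0 := fun e => hsym (two_ext rfl e.symm e rfl)
  set e := d ^ 2 / K.det
  have he : e ≠ 0 := div_ne_zero (pow_ne_zero 2 hd) hK
  have suff : ∀ S : Matrix (Fin 2) (Fin 2) F, Sᵀ = S → S.det = e → (S * K).trace ≠ 2 * d →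
      ∃ S : Matrix (Fin 2) (Fin 2) F, Sᵀ = S ∧ S.det ≠ 0 ∧ (S * K).det = d ^ 2 ∧
        (S * K = d • 1 ∨ ((¬ ∃ c : F, S * K = c • 1) ∧ (S * K).trace ≠ 2 * d)) := by
    intro S hS hdet htr
    refine ⟨S, hS, hdet ▸ he, by rw [det_mul, hdet]; exact div_mul_cancel₀ _ hK, Or.inr ⟨?_, htr⟩⟩
    rintro ⟨c, hc⟩
    have hc0 : c ≠ 0 := fun z => by
      have := congrArg Matrix.det hc
      rw [det_mul, hdet, z, zero_smul, det_zero] at this
      exact (mul_ne_zero he hK) this
    have h1 : K * S = c • 1 := by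
      have : (c⁻¹ • S) * K = 1 := by rw [Matrix.smul_mul, hc, smul_smul, inv_mul_cancel₀ hc0, one_smul]
      have h2 := mul_eq_one_comm.1 this
      rw [Matrix.mul_smul] at h2
      rw [← h2, smul_smul, mul_inv_cancel₀ hc0, one_smul]
    apply hsym
    have h3 := congrArg Matrix.transpose h1
    rw [transpose_mul, hS, transpose_smul, transpose_one] at h3
    calc Kᵀ = c⁻¹ • (K * S * Kᵀ) := by rw [h1, Matrix.smul_mul, one_mul, smul_smul, inv_mul_cancel₀ hc0, one_smul]
      _ = K := by rw [mul_assoc, h3, Matrix.mul_smul, mul_one, smul_smul, inv_mul_cancel₀ hc0, one_smul]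
  by_cases h2 : ringChar F = 2
  · have : CharP F 2 := ringChar.of_eq h2
    have e2 : (2 : F) = 0 := CharP.cast_eq_zero F 2
    obtain ⟨r, hr⟩ := FiniteField.isSquare_of_char_two h2 e
    have hr0 : r ≠ 0 := fun z => he (by rw [hr, z, mul_zero])
    refine suff !![0, r; r, 0] (by ext i j; fin_cases i <;> fin_cases j <;> rfl) ?_ ?_
    · simp [det_fin_two]; linear_combination -hr - r * r * e2
    · rw [e2, zero_mul]
      simp [trace_fin_two, Matrix.vecMul, dotProduct, Fin.sum_univ_two]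
      intro z
      have : r * (K 1 0 + K 0 1) = 0 := by linear_combination z
      rcases mul_eq_zero.1 this with z | z
      · exact hr0 z
      · exact hne (by linear_combination z - K 1 0 * e2)
  have h20 : (2 : F) ≠ 0 := Ring.two_ne_zero h2
  have hS₀ : (!![e, 0; 0, 1] : Matrix (Fin 2) (Fin 2) F)ᵀ = !![e, 0; 0, 1] := by
    ext i j; fin_cases i <;> fin_cases j <;> rfl
  by_cases ht : ((!![e, 0; 0, 1] : Matrix (Fin 2) (Fin 2) F) * K).trace = 2 * d
  · refine suff (-!![e, 0; 0, 1]) (by rw [transpose_neg, hS₀]) (by simp [det_fin_two]) ?_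
    rw [Matrix.neg_mul, trace_neg, ht]
    intro z
    have : (2 * 2) * d = 0 := by linear_combination -z
    simp [h20, hd] at this
  · exact suff _ hS₀ (by simp [det_fin_two]) ht

/-- an invertible symmetric matrix is congruent to a diagonal one with a prescribed entry up to squares, or it is
alternating in characteristic two -/
theorem sym_congr [Fintype F] {y0 : F} (hy : y0 ≠ 0) (S : Matrix (Fin 2) (Fin 2) F) (hS : Sᵀ = S) (hdet : S.det ≠ 0) :
    (∃ (P : GL (Fin 2) F) (x σ : F), x ≠ 0 ∧ σ ≠ 0 ∧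
        S = (P : Matrix (Fin 2) (Fin 2) F) * diagonal ![x, y0 * σ ^ 2] * (P : Matrix (Fin 2) (Fin 2) F)ᵀ) ∨
      ((2 : F) = 0 ∧ ∃ r : F, r ≠ 0 ∧ S = !![0, r; r, 0]) := by
  have s10 := sym_entry hS
  rw [det_fin_two, s10] at hdet
  set a := S 0 0
  set b := S 0 1
  set c := S 1 1
  -- diagonalise along a vector
  have main : ∀ u w σ : F, σ ≠ 0 → a * u ^ 2 + 2 * b * u * w + c * w ^ 2 = y0 * σ ^ 2 →
      ∃ (P : GL (Fin 2) F) (x σ : F), x ≠ 0 ∧ σ ≠ 0 ∧
        S = (P : Matrix (Fin 2) (Fin 2) F) * diagonal ![x, y0 * σ ^ 2] * (P : Matrix (Fin 2) (Fin 2) F)ᵀ := by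
    intro u w σ hσ hv
    set y := y0 * σ ^ 2
    have hy' : y ≠ 0 := mul_ne_zero hy (pow_ne_zero 2 hσ)
    -- the orthogonal vector
    set p := -(b * u + c * w)
    set q := a * u + b * w
    have hQ : (!![p, q; u, w] : Matrix (Fin 2) (Fin 2) F).det ≠ 0 := by
      simp [det_fin_two, p, q]
      intro z
      exact hy' (by rw [← hv]; linear_combination -z)
    let Q := GeneralLinearGroup.mkOfDetNeZero _ hQ
    have key : Q.1 * S * Q.1ᵀ = diagonal ![(a * c - b * b) * y, y] := by
      show !![p, q; u, w] * S * (!![p, q; u, w] : Matrix (Fin 2) (Fin 2) F)ᵀ = _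
      refine two_ext ?_ ?_ ?_ ?_ <;> simp [mul_apply, Fin.sum_univ_two, Matrix.vecMul, dotProduct, p, q, s10] <;>
        simp only [show S 0 0 = a from rfl, show S 0 1 = b from rfl, show S 1 1 = c from rfl]
      · linear_combination (a * c - b * b) * hv
      · ring
      · ring
      · linear_combination hv
    refine ⟨Q⁻¹, (a * c - b * b) * y, σ, mul_ne_zero hdet hy', hσ, ?_⟩
    rw [show y0 * σ ^ 2 = y from rfl, ← key, ← mul_assoc, ← mul_assoc, ← Units.val_mul, inv_mul_cancel,
      Units.val_one, one_mul, mul_assoc, ← transpose_mul, ← Units.val_mul, inv_mul_cancel, Units.val_one,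
      transpose_one, mul_one]
  by_cases h2 : ringChar F = 2
  · have : CharP F 2 := ringChar.of_eq h2
    have e2 : (2 : F) = 0 := CharP.cast_eq_zero F 2
    by_cases ha : a = 0
    · by_cases hc : c = 0
      · refine Or.inr ⟨e2, b, fun z => hdet (by rw [ha, z]; ring), ?_⟩
        exact two_ext ha rfl s10 hc
      · obtain ⟨σ, hσ⟩ := FiniteField.isSquare_of_char_two h2 (c / y0)
        refine Or.inl (main 0 1 σ (fun z => hc ?_) ?_)
        · rw [z, mul_zero, div_eq_zero_iff] at hσ; exact hσ.resolve_right hy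
        · field_simp at hσ
          linear_combination hσ
    · obtain ⟨σ, hσ⟩ := FiniteField.isSquare_of_char_two h2 (a / y0)
      refine Or.inl (main 1 0 σ (fun z => ha ?_) ?_)
      · rw [z, mul_zero, div_eq_zero_iff] at hσ; exact hσ.resolve_right hy
      · field_simp at hσ
        linear_combination hσ
  have h20 : (2 : F) ≠ 0 := Ring.two_ne_zero h2
  by_cases ha : a = 0
  · have hb : b ≠ 0 := fun z => hdet (by rw [ha, z]; ring)
    refine Or.inl (main ((y0 - c) / (2 * b)) 1 1 one_ne_zero ?_)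
    rw [ha]
    field_simp
    ring
  · obtain ⟨u, w, huw⟩ := FiniteField.exists_root_sum_quadratic
      (f := Polynomial.C a * Polynomial.X ^ 2 + Polynomial.C 0 * Polynomial.X + Polynomial.C (-y0))
      (g := Polynomial.C ((a * c - b * b) / a) * Polynomial.X ^ 2 + Polynomial.C 0 * Polynomial.X + Polynomial.C 0)
      (Polynomial.degree_quadratic ha) (Polynomial.degree_quadratic (div_ne_zero hdet ha))
      (FiniteField.odd_card_of_char_ne_two h2)
    simp only [Polynomial.eval_add, Polynomial.eval_mul, Polynomial.eval_C, Polynomial.eval_pow,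
      Polynomial.eval_X, zero_mul, add_zero] at huw
    refine Or.inl (main (u - b * w / a) w 1 one_ne_zero ?_)
    field_simp at huw ⊢
    linear_combination huw

end CfsgLib.Known.SmallSquare
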