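import Cfsg.Agent.Lib.Known.SmallSquare.TriBase
import Cfsg.Agent.Lib.Known.SmallSquare.Target

/-!
# The class in the triality twisted group and the cell it covers
-/

set_option autoImplicit false

namespace CfsgLib.Known.SmallSquare.Tri

open Cfsg.Lie (ChevalleyDatum chevG2 chevD4 twistedD4)
open CfsgLib.Lie.Chev CfsgLib.Lie.Chev.TwGroups CfsgLib.Known.G2Singer
open Matrix
open scoped MatrixGroups

universe u

variable {K : Type u} [Field K] [Fintype K] {q : ℕ} (hq : IsPrimePow q) (hK : Fintype.card K = q ^ 3)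
variable {F : Type u} [Field F] (j : F →+* K) (hj : ∀ a : K, a ^ q = a ↔ a ∈ j.range)

omit [Fintype K] in
theorem map_dg (a b : Fˣ) :
    GeneralLinearGroup.map j (G2.dg a b) = G2.dg (Units.map (j : F →* K) a) (Units.map (j : F →* K) b) := by
  refine Units.ext ?_
  show (G2.dg a b).1.map j = _
  rw [G2.dg_val, G2.dg_val]
  ext i k; fin_cases i <;> fin_cases k <;> simp

/-- the map from the subfield `G₂` -/
noncomputable def psi : GG F →* GD K := (iota K).comp (ChevFixed.groupMap chevG2 j)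

theorem psi_lev (A : GL (Fin 2) F) : psi j (G2.lev A) = phiF j A := (phiF_lev j A).symm

theorem psi_n0 : psi j (G2.n0 F) = n4 K := by
  show iota K (ChevFixed.groupMap chevG2 j (G2.n0 F)) = _
  rw [n4, G2.n0, G2.n0, map_mul, groupMap_ne_g2, groupMap_ne_g2, map_one]

theorem phiF_T01 (t : F) : phiF j (G2.T01 t) = (RD K).xe 14 (j t) := by
  rw [phiF_def, ← phi_T01]
  refine congrArg phi (Units.ext ?_)
  show (G2.T01 t).1.map j = _
  rw [G2.T01_val, G2.T01_val]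
  ext i k; fin_cases i <;> fin_cases k <;> simp

theorem phiF_T10 (t : F) : phiF j (G2.T10 t) = (RD K).xe 9 (j t) := by
  rw [phiF_def, ← phi_T10]
  refine congrArg phi (Units.ext ?_)
  show (G2.T10 t).1.map j = _
  rw [G2.T10_val, G2.T10_val]
  ext i k; fin_cases i <;> fin_cases k <;> simp

include hq hK hj

theorem psi_mem (g : GG F) : psi j g ∈ P1 hq hK := iota_mem_P1 hq hK j hj g

theorem psi_U5 {g : GG F} (hg : g ∈ G2.U5 F) : psi j g ∈ U4 K ⊓ P1 hq hK :=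
  Subgroup.mem_inf.2 ⟨iota_U5 (G2.groupMap_US j hg), psi_mem hq hK j hj g⟩

theorem psi_V5 {g : GG F} (hg : g ∈ G2.V5 F) : psi j g ∈ V4 K ⊓ P1 hq hK :=
  Subgroup.mem_inf.2 ⟨iota_V5 (G2.groupMap_US j hg), psi_mem hq hK j hj g⟩

theorem n4_P1 : n4 K ∈ P1 hq hK := psi_n0 j ▸ psi_mem hq hK j hj _

theorem exists_nm (x : Kˣ) : ∃ a : Fˣ, nm q x = Units.map (j : F →* K) a := by
  have h : ((nm q x : Kˣ) : K) ^ q = (nm q x : Kˣ) := by
    simp only [nm, Units.val_mul, Units.val_pow_eq_pow_val, mul_pow, pow_qqq hK]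
    ring
  obtain ⟨b, hb⟩ := (hj _).1 h
  have hb0 : b ≠ 0 := fun z => (nm q x).ne_zero (by rw [← hb, z, map_zero])
  exact ⟨Units.mk0 b hb0, Units.ext hb.symm⟩

theorem ht_phiF (x : Kˣ) {a : Fˣ} (ha : nm q x = Units.map (j : F →* K) a) (A : GL (Fin 2) F) :
    ht q x * phiF j A = phiF j (G2.dg 1 a * A * (G2.dg 1 a)⁻¹) * ht q x := by
  rw [← mul_inv_eq_iff_eq_mul, phiF_def, phiF_def, phi_ht, ha, map_mul (GeneralLinearGroup.map j),
    map_mul (GeneralLinearGroup.map j), map_inv (GeneralLinearGroup.map j), map_dg, map_one]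

theorem ht_F (f : Fˣ) : ht q (Units.map (j : F →* K) f) = phiF j (G2.dg f⁻¹ (f * f)) := by
  have hf : Units.map (j : F →* K) f ^ q = Units.map (j : F →* K) f :=
    Units.ext ((hj _).2 ⟨(f : F), rfl⟩)
  rw [phiF_def, map_dg, phi_dg, ht_val, hf, hf]
  congr 2
  funext i
  obtain ⟨i, hi⟩ := i
  have hi4 : i < 4 := hi
  interval_cases i <;> simp [tupD4]

/-- the Levi elements inside the twisted group -/
theorem lev_mem (A : GL (Fin 2) F) (x : Kˣ) : phiF j A * ht q x ∈ P1 hq hK :=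
  mul_mem (phiF_mem hq hK j hj A) (ht_mem_P1 hq hK x)

omit hq hK hj in
theorem lev_norm (A : GL (Fin 2) F) (x : Kˣ) : phiF j A * ht q x ∈
    Subgroup.normalizer (U4 K : Set (GD K)) ⊓ Subgroup.normalizer (V4 K : Set (GD K)) := lv_normalizer q _ x

theorem conj_inf {l : GD K} (hl : l ∈ Subgroup.normalizer (U4 K : Set (GD K)) ⊓ Subgroup.normalizer (V4 K : Set (GD K)))
    (hl1 : l ∈ P1 hq hK) :
    (∀ u ∈ U4 K ⊓ P1 hq hK, l * u * l⁻¹ ∈ U4 K ⊓ P1 hq hK ∧ l⁻¹ * u * l ∈ U4 K ⊓ P1 hq hK) ∧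
    (∀ u ∈ V4 K ⊓ P1 hq hK, l * u * l⁻¹ ∈ V4 K ⊓ P1 hq hK ∧ l⁻¹ * u * l ∈ V4 K ⊓ P1 hq hK) := by
  refine ⟨fun u hu => ?_, fun u hu => ?_⟩ <;> obtain ⟨h1, h2⟩ := Subgroup.mem_inf.1 hu
  · exact ⟨Subgroup.mem_inf.2 ⟨(conj_U4 hl h1).1, mul_mem (mul_mem hl1 h2) (inv_mem hl1)⟩,
      Subgroup.mem_inf.2 ⟨(conj_U4 hl h1).2, mul_mem (mul_mem (inv_mem hl1) h2) hl1⟩⟩
  · exact ⟨Subgroup.mem_inf.2 ⟨(conj_V4 hl h1).1, mul_mem (mul_mem hl1 h2) (inv_mem hl1)⟩,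
      Subgroup.mem_inf.2 ⟨(conj_V4 hl h1).2, mul_mem (mul_mem (inv_mem hl1) h2) hl1⟩⟩

end CfsgLib.Known.SmallSquare.Tri

namespace CfsgLib.Known.SmallSquare

open Matrix

universe u

variable {F : Type u} [Field F]

/-- the companion element -/
noncomputable def Pre.yel {t d : F} (h : Pre t d) : GL (Fin 2) F :=
  G2.T01 0 * GeneralLinearGroup.mkOfDetNeZero (comp2 t d) (by rw [Good.det_comp2]; exact h.d_ne)

theorem Pre.yel_val {t d : F} (h : Pre t d) : h.yel.1 = comp2 t d := by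
  show (G2.T01 (0 : F)).1 * comp2 t d = _
  rw [G2.T01_val, show (!![1, 0; 0, 1] : Matrix (Fin 2) (Fin 2) F) = 1 by
    ext i j; fin_cases i <;> fin_cases j <;> simp, one_mul]

theorem Pre.inv_pre {t d : F} (h : Pre t d) : Pre (t / d) (1 / d) := by
  have hd := h.d_ne
  refine ⟨fun a e => ?_, div_ne_zero h.t_ne hd⟩
  by_cases ha : a = 0
  · subst ha
    simp [hd] at e
  refine h.irr a⁻¹ ?_
  field_simp at e ⊢
  linear_combination e

/-- the transpose inverse, twisted by any element, is conjugate to the inverse -/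
theorem Pre.conj_inv {t d : F} (h : Pre t d) (c : Fˣ) :
    ∃ P : GL (Fin 2) F, G2.emat c * G2.tinv h.yel * (G2.emat c)⁻¹ = P * h.yel⁻¹ * P⁻¹ := by
  have hd := h.d_ne
  have hy : (h.yel⁻¹ : GL (Fin 2) F).1 = !![t / d, 1; -(1 / d), 0] := by
    rw [coe_units_inv, h.yel_val]
    refine inv_eq_left_inv ?_
    ext i j
    fin_cases i <;> fin_cases j <;> simp [comp2, mul_apply, Fin.sum_univ_two] <;> field_simp
    ring
  obtain ⟨R, hR⟩ := h.inv_pre.conj_comp2 (h.yel⁻¹).1 (by simp [hy, trace_fin_two]) (by simp [hy, det_fin_two])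
  obtain ⟨S, hS⟩ := h.inv_pre.conj_comp2 (G2.emat c * G2.tinv h.yel * (G2.emat c)⁻¹).1
    (by rw [Units.val_mul, Units.val_mul, trace_units_conj, G2.tinv_val, trace_transpose, hy]; simp [trace_fin_two])
    (by rw [Units.val_mul, Units.val_mul, det_units_conj, G2.tinv_val, det_transpose, hy]; simp [det_fin_two])
  refine ⟨S * R⁻¹, Units.ext ?_⟩
  obtain ⟨C, hC⟩ : ∃ C : GL (Fin 2) F, C.1 = comp2 (t / d) (1 / d) :=
    ⟨GeneralLinearGroup.mkOfDetNeZero (comp2 (t / d) (1 / d)) (by rw [Good.det_comp2]; exact h.inv_pre.d_ne), rfl⟩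
  have e : h.yel⁻¹ = R * C * R⁻¹ := Units.ext (by rw [Units.val_mul, Units.val_mul, hC]; exact hR)
  rw [hS, e, ← hC, ← Units.val_mul, ← Units.val_mul]
  congr 1
  group

/-- products of a conjugate and a conjugate of the inverse -/
theorem Pre.exists_quot [Fintype F] {t d : F} (h : Pre t d) (M : GL (Fin 2) F) (hM : G2.OKMat 1 M.1) :
    ∃ P Q : GL (Fin 2) F, M = P * h.yel * P⁻¹ * (Q * h.yel⁻¹ * Q⁻¹) := by
  obtain ⟨hdet, hgood⟩ := hM
  rw [one_pow] at hdet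
  have hd := h.d_ne
  obtain ⟨P, Q, e⟩ := h.exists_factor (d • M.1) (by simp [det_smul, hdet]) (by
    rcases hgood with z | ⟨z1, z2⟩
    · exact Or.inl (by rw [z, one_smul])
    · refine Or.inr ⟨fun ⟨c, hc⟩ => z1 ⟨d⁻¹ * c, ?_⟩, fun z => z2 ?_⟩
      · rw [← smul_smul, ← hc, smul_smul, inv_mul_cancel₀ hd, one_smul]
      · rw [trace_smul, smul_eq_mul] at z
        exact mul_left_cancel₀ hd (by linear_combination z))
  have hy : d • (h.yel⁻¹ : GL (Fin 2) F).1 = !![t, d; -1, 0] := by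
    rw [coe_units_inv, h.yel_val, inv_eq_left_inv (B := !![t / d, 1; -(1 / d), 0]) ?_]
    · ext i j
      fin_cases i <;> fin_cases j <;> simp <;> field_simp
    · ext i j
      fin_cases i <;> fin_cases j <;> simp [comp2, mul_apply, Fin.sum_univ_two] <;> field_simp
      ring
  obtain ⟨R, hR⟩ := h.conj_comp2 (d • (h.yel⁻¹ : GL (Fin 2) F).1) (by rw [hy]; simp [trace_fin_two])
    (by rw [hy]; simp [det_fin_two])
  refine ⟨P, Q * R⁻¹, Units.ext (smul_right_injective _ hd ?_)⟩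
  simp only [Units.val_mul, _root_.mul_inv_rev, inv_inv, h.yel_val, ← Matrix.mul_smul]
  rw [e]
  congr 1
  calc (Q : Matrix (Fin 2) (Fin 2) F) * comp2 t d * ((Q⁻¹ : GL (Fin 2) F) : Matrix _ _ F)
      = (Q : Matrix (Fin 2) (Fin 2) F) * (((R⁻¹ : GL (Fin 2) F) : Matrix _ _ F) *
          (d • ((h.yel⁻¹ : GL (Fin 2) F) : Matrix _ _ F)) * (R : Matrix (Fin 2) (Fin 2) F)) *
          ((Q⁻¹ : GL (Fin 2) F) : Matrix _ _ F) := by
        rw [hR]
        simp only [mul_assoc, Units.inv_mul, mul_one, Units.inv_mul_cancel_left]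
    _ = _ := by simp only [Matrix.smul_mul, Matrix.mul_smul, mul_assoc]

end CfsgLib.Known.SmallSquare

namespace CfsgLib.Known.SmallSquare.Tri

open Cfsg.Lie (ChevalleyDatum chevG2 chevD4 twistedD4)
open CfsgLib.Lie.Chev CfsgLib.Lie.Chev.TwGroups CfsgLib.Known.G2Singer
open Matrix
open scoped MatrixGroups

universe u

variable {K : Type u} [Field K] [Fintype K] {q : ℕ} (hq : IsPrimePow q) (hK : Fintype.card K = q ^ 3)
variable {F : Type u} [Field F] [Fintype F] (j : F →+* K) (hj : ∀ a : K, a ^ q = a ↔ a ∈ j.range)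
variable {t d : F} (h : Pre t d) (ρ : Kˣ) (hN : nm q ρ = 1) (hρ : (ρ : K) ^ 2 ≠ j d)

/-- the element -/
noncomputable def xEl : GD K := phiF j h.yel * ht q ρ

/-- products of two conjugates -/
def IsSq (g : GD K) : Prop :=
  ∃ u ∈ P1 hq hK, ∃ v ∈ P1 hq hK,
    g = (u * xEl (q := q) j h ρ * u⁻¹) * (v * xEl (q := q) j h ρ * v⁻¹)

omit [Fintype F] in
theorem IsSq.conj {g : GD K} {z : GD K} (hz : z ∈ P1 hq hK) (hg : IsSq hq hK j h ρ (z * g * z⁻¹)) :
    IsSq hq hK j h ρ g := by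
  obtain ⟨u, hu, v, hv, e⟩ := hg
  refine ⟨z⁻¹ * u, mul_mem (inv_mem hz) hu, z⁻¹ * v, mul_mem (inv_mem hz) hv, ?_⟩
  calc g = z⁻¹ * (z * g * z⁻¹) * z := by group
    _ = _ := by rw [e]; group

include hq hK hj hN

omit [Fintype F] in
theorem ht_comm (A : GL (Fin 2) F) : ht q ρ * phiF j A = phiF j A * ht q ρ := by
  rw [ht_phiF hq hK j hj ρ (a := 1) (by rw [hN, map_one]), show G2.dg (1 : Fˣ) 1 = 1 from
    Units.ext (by rw [G2.dg_val]; ext i k; fin_cases i <;> fin_cases k <;> simp), inv_one, one_mul, mul_one]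

omit [Fintype F] in
theorem real : ∃ w ∈ P1 hq hK, w * xEl (q := q) j h ρ * w⁻¹ = (xEl (q := q) j h ρ)⁻¹ := by
  obtain ⟨c, hc, -⟩ := G2.exists_twist (F := F)
  obtain ⟨P, hP⟩ := h.conj_inv c
  refine ⟨(phiF j P)⁻¹ * (n4 K)⁻¹, mul_mem (inv_mem (phiF_mem hq hK j hj P)) (inv_mem (n4_P1 hq hK j hj)), ?_⟩
  have e1 : (n4 K)⁻¹ * phiF j h.yel * n4 K = phiF j (P * h.yel⁻¹ * P⁻¹) := by
    rw [← hP, ← psi_lev, ← psi_lev, ← psi_n0 j, ← map_inv, ← map_mul, ← map_mul, hc]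
  have e2 : (n4 K)⁻¹ * xEl (q := q) j h ρ * n4 K =
      phiF j P * (phiF j h.yel)⁻¹ * (phiF j P)⁻¹ * (ht q ρ)⁻¹ := by
    rw [xEl, show (n4 K)⁻¹ * (phiF j h.yel * ht q ρ) * n4 K =
      ((n4 K)⁻¹ * phiF j h.yel * n4 K) * ((n4 K)⁻¹ * ht q ρ * n4 K) by group, e1, n4_ht, map_mul, map_mul, map_inv,
      map_inv]
  have k : (ht q ρ)⁻¹ * phiF j P = phiF j P * (ht q ρ)⁻¹ :=
    (Commute.inv_left (ht_comm hq hK j hj ρ hN P)).eq
  calc (phiF j P)⁻¹ * (n4 K)⁻¹ * xEl (q := q) j h ρ * ((phiF j P)⁻¹ * (n4 K)⁻¹)⁻¹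
      = (phiF j P)⁻¹ * ((n4 K)⁻¹ * xEl (q := q) j h ρ * n4 K) * phiF j P := by group
    _ = (phiF j h.yel)⁻¹ * (phiF j P)⁻¹ * ((ht q ρ)⁻¹ * phiF j P) := by rw [e2]; group
    _ = (phiF j h.yel)⁻¹ * (ht q ρ)⁻¹ := by rw [k]; group
    _ = _ := by
        rw [xEl, ← _root_.mul_inv_rev, ht_comm hq hK j hj ρ hN h.yel]

include hρ

theorem absorb : (∀ v ∈ V4 K ⊓ P1 hq hK, ∃ z ∈ P1 hq hK,
      z * xEl (q := q) j h ρ * z⁻¹ = v * xEl (q := q) j h ρ) ∧
    ∀ u ∈ U4 K ⊓ P1 hq hK, ∃ z ∈ P1 hq hK,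
      z * xEl (q := q) j h ρ * z⁻¹ = (xEl (q := q) j h ρ)⁻¹ * u := by
  have : Finite (GD K) := (RD K).Finite_of_field
  obtain ⟨x, hx⟩ : ∃ x, x = xEl (q := q) j h ρ := ⟨_, rfl⟩
  have hfix : ∀ g : GD K, g ∈ U4 K ∨ g ∈ V4 K → x * g * x⁻¹ = g → g = 1 := by
    rw [hx]
    exact fixed_trivial hK j hj (frD4 hq hK) (frD4_apply hq hK) h hN hρ
  have hx1 : x ∈ P1 hq hK := hx ▸ lev_mem hq hK j hj _ ρ
  obtain ⟨hU, hV⟩ := conj_inf hq hK j hj (lev_norm j h.yel ρ) (lev_mem hq hK j hj _ ρ)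
  rw [show phiF j h.yel * ht q ρ = x from hx.symm] at hU hV
  have nV : x ∈ Subgroup.normalizer ((V4 K ⊓ P1 hq hK : Subgroup (GD K)) : Set (GD K)) :=
    Subgroup.mem_normalizer_iff.2 fun g => ⟨fun hg => (hV g hg).1, fun hg => by
      have := (hV _ hg).2
      rwa [show x⁻¹ * (x * g * x⁻¹) * x = g by group] at this⟩
  have nU : x⁻¹ ∈ Subgroup.normalizer ((U4 K ⊓ P1 hq hK : Subgroup (GD K)) : Set (GD K)) :=
    inv_mem (Subgroup.mem_normalizer_iff.2 fun g => ⟨fun hg => (hU g hg).1, fun hg => by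
      have := (hU _ hg).2
      rwa [show x⁻¹ * (x * g * x⁻¹) * x = g by group] at this⟩)
  rw [← hx]
  refine ⟨fun v hv => ?_, fun u hu => ?_⟩
  · obtain ⟨z, hz, e⟩ := (conj_absorb nV (fun g hg => hfix g (Or.inr (Subgroup.mem_inf.1 hg).1)) hv).2
    exact ⟨z, (Subgroup.mem_inf.1 hz).2, e⟩
  · obtain ⟨z, hz, e⟩ := (conj_absorb nU (fun g hg e => hfix g (Or.inl (Subgroup.mem_inf.1 hg).1) (by
      rw [inv_inv] at e; nth_rewrite 1 [← e]; group)) hu).1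
    obtain ⟨w, hw, ew⟩ := real hq hK j hj h ρ hN
    rw [← hx] at ew
    refine ⟨z * w, mul_mem (Subgroup.mem_inf.1 hz).2 hw, ?_⟩
    rw [← e, ← ew]
    group

theorem isSq_cell {M : GL (Fin 2) F} (hM : G2.OKMat 1 M.1) {v u : GD K} (hv : v ∈ V4 K ⊓ P1 hq hK)
    (hu : u ∈ U4 K ⊓ P1 hq hK) : IsSq hq hK j h ρ (v * phiF j M * u) := by
  obtain ⟨P, Q, e⟩ := h.exists_quot M hM
  obtain ⟨hA, hB⟩ := absorb hq hK j hj h ρ hN hρ
  have hP : ∀ R : GL (Fin 2) F, phiF j R ∈ Subgroup.normalizer (U4 K : Set (GD K)) ⊓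
      Subgroup.normalizer (V4 K : Set (GD K)) := fun R => phi_normalizer _
  obtain ⟨z, hz, ez⟩ := hA _ ((conj_inf hq hK j hj (hP P) (phiF_mem hq hK j hj P)).2 v hv).2
  obtain ⟨w, hw, ew⟩ := hB _ ((conj_inf hq hK j hj (hP Q) (phiF_mem hq hK j hj Q)).1 u hu).2
  refine ⟨phiF j P * z, mul_mem (phiF_mem hq hK j hj P) hz, phiF j Q * w,
    mul_mem (phiF_mem hq hK j hj Q) hw, ?_⟩
  rw [show phiF j P * z * xEl (q := q) j h ρ * (phiF j P * z)⁻¹ =
      phiF j P * (z * xEl (q := q) j h ρ * z⁻¹) * (phiF j P)⁻¹ by group,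
    show phiF j Q * w * xEl (q := q) j h ρ * (phiF j Q * w)⁻¹ =
      phiF j Q * (w * xEl (q := q) j h ρ * w⁻¹) * (phiF j Q)⁻¹ by group, ez, ew, e]
  have c := fun R => ht_comm hq hK j hj ρ hN R
  have c1 : Commute (phiF j P) (ht q ρ) := (c P).symm
  have c2 : Commute (phiF j Q) (ht q ρ) := (c Q).symm
  have c3 : Commute (phiF j h.yel) (ht q ρ) := (c _).symm
  have hc : Commute ((phiF j P)⁻¹ * phiF j Q * (phiF j h.yel)⁻¹) (ht q ρ) :=
    ((c1.inv_left).mul_left c2).mul_left c3.inv_left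
  simp only [xEl, map_mul, map_inv, _root_.mul_inv_rev]
  calc v * (phiF j P * phiF j h.yel * (phiF j P)⁻¹ * (phiF j Q * (phiF j h.yel)⁻¹ * (phiF j Q)⁻¹)) * u
      = v * phiF j P * phiF j h.yel * ((phiF j P)⁻¹ * phiF j Q * (phiF j h.yel)⁻¹ * ht q ρ) * (ht q ρ)⁻¹ *
          (phiF j Q)⁻¹ * u := by group
    _ = v * phiF j P * phiF j h.yel * ht q ρ * ((phiF j P)⁻¹ * phiF j Q * (phiF j h.yel)⁻¹) * (ht q ρ)⁻¹ *
          (phiF j Q)⁻¹ * u := by rw [hc.eq]; group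
    _ = v * phiF j P * phiF j h.yel * ht q ρ * (phiF j P)⁻¹ * (phiF j Q * ((phiF j h.yel)⁻¹ * (ht q ρ)⁻¹)) *
          (phiF j Q)⁻¹ * u := by group
    _ = _ := by
        rw [(c3.inv_left.inv_right).eq]
        group

omit hρ [Fintype F] in
theorem not_dvd (p : ℕ) [Fact p.Prime] [CharP K p] :
    ¬ p ∣ orderOf (xEl (q := q) j h ρ) := by
  have : CharP F p := RingHom.charP j j.injective p
  haveI : Finite F := Finite.of_injective j j.injective
  haveI := Fintype.ofFinite F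
  intro hp
  have hp' : p.Prime := Fact.out
  have h1 := hp.trans ((show Commute (phiF j h.yel) (ht q ρ) from
    (ht_comm hq hK j hj ρ hN _).symm).orderOf_mul_dvd_lcm)
  rcases (Nat.Prime.dvd_mul hp').1 (h1.trans (Nat.lcm_dvd_mul _ _)) with h2 | h2
  · exact h.not_dvd_orderOf p h.yel h.yel_val (h2.trans (orderOf_map_dvd _ _))
  · classical
    have h3 := h2.trans ((orderOf_map_dvd _ _).trans (orderOf_dvd_card (x := ρ)))
    rw [Fintype.card_units] at h3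
    have h4 : p ∣ Fintype.card K := (CharP.cast_eq_zero_iff K p _).1 (FiniteField.cast_card_eq_zero K)
    have h5 : Fintype.card K - (Fintype.card K - 1) = 1 := by have := Fintype.card_pos (α := K); omega
    exact hp'.one_lt.ne' (Nat.dvd_one.1 (h5 ▸ Nat.dvd_sub h4 h3))

end CfsgLib.Known.SmallSquare.Tri
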