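import Cfsg.Agent.Lib.Known.SmallSquare.G2Levi

/-!
# The Levi factors reached from the opposite element

Conjugation by the opposite element acts on the Levi subgroup by inverse transpose, and the Levi factors of the
products `z * n0` with `z` in the radical are, up to a fixed factor, all invertible symmetric matrices.
-/

set_option autoImplicit false

namespace CfsgLib.Known.SmallSquare.G2

open Cfsg.Lie (ChevalleyDatum chevG2)
open CfsgLib.Lie.Chev CfsgLib.Known.G2Singer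
open Matrix
open scoped MatrixGroups

universe u

variable {F : Type u} [Field F]

theorem opp_eq (r : Fin chevG2.nroots) {c : F} (hc : c ≠ 0) :
    (RR F).xe r c = (RR F).xe ((RR F).negF r) c⁻¹ * (RR F).ne r c * (RR F).xe ((RR F).negF r) c⁻¹ := by
  let lo : SL(2, F) := ⟨!![1, 0; c⁻¹, 1], by simp [det_fin_two]⟩
  let w : SL(2, F) := ⟨!![0, c; -c⁻¹, 0], by simp [det_fin_two, hc]⟩
  have e1 : (RR F).slHom r lo = (RR F).xe ((RR F).negF r) c⁻¹ := (RR F).slHom_lower r c⁻¹ lo rfl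
  have e2 : (RR F).slHom r w = (RR F).ne r c := by
    show (RR F).slMap r w = _
    simp [Rel.slMap, Rel.slEval, w, hc, (RR F).xe_zero]
  rw [← (RR F).slMap_slX r c, ← e1, ← e2, ← map_mul, ← map_mul]
  refine congrArg ((RR F).slHom r) (Subtype.ext ?_)
  show (Rel.slX c).1 = !![1, 0; c⁻¹, 1] * !![0, c; -c⁻¹, 0] * !![1, 0; c⁻¹, 1]
  rw [Rel.slX_val]
  ext i j
  fin_cases i <;> fin_cases j <;> simp [mul_apply, Fin.sum_univ_two, hc]

theorem simple_mon {c : F} (hc : c ≠ 0) :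
    (∃ a, (RR F).IsMon ((RR F).ne 7 c) ((RR F).wperm i0) a) ∧ ∃ a, (RR F).IsMon ((RR F).ne 6 c) ((RR F).wperm i1) a := by
  refine ⟨⟨fun s => (auxG2.eta i0 s : F) * c ^ (-(chevG2.cartan i0 s)), ?_⟩,
    ⟨fun s => (auxG2.eta i1 s : F) * c ^ (-(chevG2.cartan i1 s)), ?_⟩⟩
  · have h := (RR F).isMon_ne_simple i0 hc
    rwa [show chevG2.simple (i0 : ℕ) = 7 from simple_one.2.2.1] at h
  · have h := (RR F).isMon_ne_simple i1 hc
    rwa [show chevG2.simple (i1 : ℕ) = 6 from simple_one.1] at h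

theorem he_seven (s : Fˣ) : (RR F).he 7 (s : F) = lev (dg s⁻¹ (s * s)) := by
  refine HS_ext ((RR F).he_mem_HS i0 s.ne_zero) (lev_dg_mem _ _) ((RR F).isMon_he_simple i0 s.ne_zero) ?_
  refine (congrArg ((RR F).IsMon _ 1) (funext fun r => ?_)).mp (lev_dg_mon _ _)
  have hs := s.ne_zero
  have hd : ∀ i, wd s⁻¹ (s * s) i ≠ (0 : F) := by intro i; fin_cases i <;> simp [wd]
  show rootWt _ r = (s : F) ^ (chevG2.cartan 0 r)
  rw [rootWt_zpow hd r]
  have e0 := exp_facts r 0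
  simp only [Fin.val_zero] at e0
  rw [← e0]
  simp only [expC, Matrix.cons_val_zero]
  have h0 : wd s⁻¹ (s * s) 0 = (s : F) ^ (-1 : ℤ) := by simp [wd]
  have h1 : wd s⁻¹ (s * s) 1 = (s : F) ^ (2 : ℤ) := by simp [wd, sq]
  have h2 : wd s⁻¹ (s * s) 2 = (s : F) ^ (-1 : ℤ) := by simp [wd]
  rw [h0, h1, h2, ← _root_.zpow_mul, ← _root_.zpow_mul, ← _root_.zpow_mul, ← zpow_add₀ hs, ← zpow_add₀ hs]
  congr 1
  simp
  ring

theorem ne_eleven (c : Fˣ) : ∃ g : SL(3, F), (RR F).ne 11 (c : F) = emb F g ∧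
    (g : Matrix (Fin 3) (Fin 3) F) = !![0, 0, (c : F); 0, 1, 0; -(c : F)⁻¹, 0, 0] := by
  have h02 : (0 : Fin 3) ≠ 2 := by decide
  have h20 : (2 : Fin 3) ≠ 0 := by decide
  refine ⟨Matrix.SpecialLinearGroup.transvection h02 (c : F) * Matrix.SpecialLinearGroup.transvection h20 (-(c : F)⁻¹) *
    Matrix.SpecialLinearGroup.transvection h02 (c : F), ?_, ?_⟩
  · rw [map_mul, map_mul, emb_tv, emb_tv]
    rfl
  · show Matrix.transvection 0 2 (c : F) * Matrix.transvection 2 0 (-(c : F)⁻¹) * Matrix.transvection 0 2 (c : F) = _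
    ext i j
    fin_cases i <;> fin_cases j <;>
      simp [Matrix.transvection, Matrix.single, mul_apply, Fin.sum_univ_three]

theorem he_eleven (s : Fˣ) : (RR F).he 11 (s : F) = lev (dg s 1) := by
  obtain ⟨g, hg, hgv⟩ := ne_eleven s
  obtain ⟨g', hg', hgv'⟩ := ne_eleven (-1 : Fˣ)
  show (RR F).ne 11 (s : F) * (RR F).ne 11 (-1) = _
  rw [show (-1 : F) = ((-1 : Fˣ) : F) by simp, hg, hg', lev_def, ← map_mul]
  refine congrArg (emb F) (Subtype.ext ?_)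
  show g.1 * g'.1 = _
  rw [hgv, hgv', blk_dg]
  ext i j
  fin_cases i <;> fin_cases j <;> simp [mul_apply, Fin.sum_univ_three, wd]

theorem n0_sq : ∃ a b : Fˣ, n0 F * n0 F = lev (dg a b) := by
  obtain ⟨σ, a, h1, h2⟩ := n0_mon (F := F)
  obtain ⟨g, hg⟩ : ∃ g : (RR F).NS, (g : GG F) = n0 F * n0 F := ⟨⟨_, mul_mem n0_mem n0_mem⟩, rfl⟩
  have hm := (RR F).isMon_mul h1 h1
  rw [← hg] at hm
  rw [← hg]
  refine exists_dg ((RR F).mem_HS_of_nsPerm ?_)
  rw [(RR F).nsPerm_eq hm]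
  ext r
  rw [Equiv.Perm.mul_apply, h2, h2, Equiv.Perm.one_apply]
  have : (r : ℕ) < 12 := r.2
  omega

/-- the inverse transpose -/
def tinv : GL (Fin 2) F →* GL (Fin 2) F where
  toFun A := ⟨(A⁻¹).1ᵀ, A.1ᵀ, by rw [← transpose_mul, ← Units.val_mul, mul_inv_cancel, Units.val_one, transpose_one],
    by rw [← transpose_mul, ← Units.val_mul, inv_mul_cancel, Units.val_one, transpose_one]⟩
  map_one' := Units.ext (by simp)
  map_mul' A B := Units.ext (by simp [transpose_mul])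

theorem tinv_val (A : GL (Fin 2) F) : (tinv A).1 = (A⁻¹).1ᵀ := rfl

/-- the twist -/
def emat (c : Fˣ) : GL (Fin 2) F := dg 1 (-c)

/-- the action of the opposite element on the Levi subgroup -/
def IsTwist (c : Fˣ) : Prop :=
  ∀ A : GL (Fin 2) F, (n0 F)⁻¹ * lev A * n0 F = lev (emat c * tinv A * (emat c)⁻¹)

theorem exists_twist : ∃ c : Fˣ, IsTwist (F := F) c ∧ (n0 F)⁻¹ * (RR F).xe 6 1 * n0 F = (RR F).xe 5 (c : F) := by
  obtain ⟨σ, a, h1, h2⟩ := n0_inv_mon (F := F)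
  have h6 : σ (rt 6) = rt 5 := Fin.ext (by rw [h2]; rfl)
  have h5 : σ (rt 5) = rt 6 := Fin.ext (by rw [h2]; rfl)
  have hneg : (RR F).negF (rt 6) = rt 5 := Fin.ext (by rw [neg_val]; rfl)
  obtain ⟨ha, hai, -, k6⟩ := h1 (rt 6)
  have k5 := (h1 (rt 5)).2.2.2
  rw [h6] at k6
  rw [h5, ← hneg, hai] at k5
  rw [inv_inv] at k6 k5
  rw [hneg] at k5
  refine ⟨Units.mk0 _ ha, fun A => ?_, by simpa using k6 1⟩
  induction A using gl_induction with
  | hm A B hA hB =>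
    rw [map_mul lev A B, show (n0 F)⁻¹ * (lev A * lev B) * n0 F =
      ((n0 F)⁻¹ * lev A * n0 F) * ((n0 F)⁻¹ * lev B * n0 F) by group, hA, hB, ← map_mul lev, map_mul tinv A B]
    congr 1; group
  | h01 t =>
    rw [lev_T01, k6 t, ← lev_T10]
    congr 1
    rw [eq_mul_inv_iff_mul_eq]
    refine Units.ext ?_
    show (T10 _).1 * (emat _).1 = (emat _).1 * (tinv (T01 t)).1
    rw [tinv_val, show (T01 t)⁻¹ = T01 (-t) from inv_eq_of_mul_eq_one_right (Units.ext (by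
      show !![1, t; 0, 1] * !![1, -t; 0, 1] = (1 : M2 F)
      ext i j; fin_cases i <;> fin_cases j <;> simp [mul_apply, Fin.sum_univ_two]))]
    rw [T10_val, T01_val, emat, dg_val]
    ext i j; fin_cases i <;> fin_cases j <;> simp [mul_apply, Fin.sum_univ_two]
  | h10 t =>
    rw [lev_T10, k5 t, ← lev_T01]
    congr 1
    rw [eq_mul_inv_iff_mul_eq]
    refine Units.ext ?_
    show (T01 _).1 * (emat _).1 = (emat _).1 * (tinv (T10 t)).1
    rw [tinv_val, show (T10 t)⁻¹ = T10 (-t) from inv_eq_of_mul_eq_one_right (Units.ext (by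
      show !![1, 0; t, 1] * !![1, 0; -t, 1] = (1 : M2 F)
      ext i j; fin_cases i <;> fin_cases j <;> simp [mul_apply, Fin.sum_univ_two]))]
    rw [T10_val, T01_val, emat, dg_val]
    ext i j; fin_cases i <;> fin_cases j <;> simp [mul_apply, Fin.sum_univ_two] <;> field_simp
  | hd x y =>
    obtain ⟨τ, b, hb1, hb2⟩ := n0_inv_mon (F := F)
    have hmem : (n0 F)⁻¹ * lev (dg x y) * n0 F ∈ (RR F).HS := by
      have := (RR F).HS_conj (inv_mem (n0_mem (F := F))) (lev_dg_mem x y)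
      rwa [inv_inv] at this
    have e : emat (Units.mk0 _ ha) * tinv (dg x y) * (emat (Units.mk0 _ ha))⁻¹ = dg x⁻¹ y⁻¹ := by
      rw [mul_inv_eq_iff_eq_mul]
      refine Units.ext ?_
      show (emat _).1 * (tinv _).1 = _ * (emat _).1
      rw [tinv_val, show (dg x y)⁻¹ = dg x⁻¹ y⁻¹ from inv_eq_of_mul_eq_one_right (Units.ext (by
        show !![(x : F), 0; 0, (y : F)] * !![((x⁻¹ : Fˣ) : F), 0; 0, ((y⁻¹ : Fˣ) : F)] = (1 : M2 F)
        ext i j; fin_cases i <;> fin_cases j <;> simp [mul_apply, Fin.sum_univ_two]))]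
      simp only [emat, dg_val]
      ext i j; fin_cases i <;> fin_cases j <;> simp [mul_apply, Fin.sum_univ_two, mul_comm]
    rw [e]
    have hm := (RR F).isMon_mul ((RR F).isMon_mul hb1 (lev_dg_mon x y)) ((RR F).isMon_inv hb1)
    rw [inv_inv] at hm
    have hp : τ * 1 * τ⁻¹ = 1 := by rw [mul_one, mul_inv_cancel]
    rw [hp] at hm
    refine HS_ext hmem (lev_dg_mem _ _) hm ?_
    refine (congrArg ((RR F).IsMon _ 1) (funext fun r => ?_)).mp (lev_dg_mon x⁻¹ y⁻¹)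
    simp only [Equiv.Perm.one_apply]
    have hr : τ⁻¹ r = (RR F).negF r := by
      apply τ.injective
      rw [show τ (τ⁻¹ r) = r from τ.apply_symm_apply r]
      refine Fin.ext ?_
      rw [hb2, neg_val]
      have : (r : ℕ) < 12 := r.2
      omega
    rw [hr, (lev_dg_mon x y r).2.1]
    have hb0 := (hb1 ((RR F).negF r)).1
    rw [show rootWt (wd x⁻¹ y⁻¹) r = (rootWt (wd x y) r)⁻¹ from ?_]
    · field_simp
    have hd : ∀ i, wd x y i ≠ (0 : F) := by intro i; fin_cases i <;> simp [wd]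
    have hd' : ∀ i, wd x⁻¹ y⁻¹ i ≠ (0 : F) := by intro i; fin_cases i <;> simp [wd]
    rw [rootWt_zpow hd' r, rootWt_zpow hd r, mul_inv, mul_inv, ← _root_.inv_zpow, ← _root_.inv_zpow, ← _root_.inv_zpow]
    simp [wd, mul_comm]

/-- the Levi factors of `z * n0` -/
def InSig (Q : GL (Fin 2) F) : Prop := ∃ z ∈ U5 F, ∃ v ∈ V5 F, ∃ u ∈ U5 F, z * n0 F = v * lev Q * u

theorem InSig.congr {c : Fˣ} (hc : IsTwist (F := F) c) {Q : GL (Fin 2) F} (h : InSig Q) (P : GL (Fin 2) F) :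
    InSig (P * Q * (emat c * tinv P⁻¹ * (emat c)⁻¹)) := by
  obtain ⟨z, hz, v, hv, u, hu, e⟩ := h
  refine ⟨_, lev_U5 P hz, _, lev_V5 P hv, _, lev_U5' (emat c * tinv P⁻¹ * (emat c)⁻¹) hu, ?_⟩
  have h1 := hc P⁻¹
  rw [map_inv] at h1
  calc lev P * z * (lev P)⁻¹ * n0 F = lev P * (z * n0 F) * ((n0 F)⁻¹ * (lev P)⁻¹ * n0 F) := by group
    _ = lev P * (v * lev Q * u) * lev (emat c * tinv P⁻¹ * (emat c)⁻¹) := by rw [e, h1]
    _ = _ := by rw [map_mul (lev (F := F)) (P * Q), map_mul (lev (F := F)) P Q]; group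

theorem commTerms_four_zero : chevG2.commTerms 4 0 = [] := by decide +kernel

theorem sig_diag : ∃ b0 : Fˣ, ∀ x s : Fˣ, InSig (F := F) (dg x (s * s * b0)) := by
  obtain ⟨a0, b0, h0⟩ := n0_sq (F := F)
  refine ⟨b0, fun x s => ?_⟩
  obtain ⟨e, he⟩ : ∃ e : Fˣ, s⁻¹ * e * a0 = x := ⟨s * x * a0⁻¹, by
    rw [mul_assoc s x, inv_mul_cancel_left, inv_mul_cancel_right]⟩
  refine ⟨(RR F).xe 7 (s : F) * (RR F).xe 11 (e : F), mul_mem (xe_U5 7 (by decide) le_rfl _)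
    (xe_U5 11 (by decide) (by decide) _), ?_⟩
  -- monomial facts
  obtain ⟨σ, b, hb1, hb2⟩ := ne_mon_num [i1, i0] i1 (r := rt 11) num_facts.1 (Units.ne_zero e)
  have hσ4 : σ (rt 4) = rt 4 := Fin.ext (by rw [hb2]; decide +kernel)
  have hσ4' : σ⁻¹ (rt 4) = rt 4 := σ.injective (by
    rw [show σ (σ⁻¹ (rt 4)) = rt 4 from σ.apply_symm_apply _, hσ4])
  obtain ⟨t4, ht4⟩ : ∃ t, (RR F).xe 4 (s : F)⁻¹ * (RR F).ne 11 (e : F) = (RR F).ne 11 (e : F) * (RR F).xe 4 t := by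
    have h := ((RR F).isMon_inv hb1 (rt 4)).2.2.2 (s : F)⁻¹
    rw [hσ4', inv_inv] at h
    refine ⟨(b (rt 4))⁻¹ * (s : F)⁻¹, ?_⟩
    simp only [hσ4'] at h
    rw [← h]; group
  obtain ⟨t0, ht0⟩ : ∃ t, (RR F).ne 7 (s : F) * (RR F).xe 0 (e : F)⁻¹ = (RR F).xe 0 t * (RR F).ne 7 (s : F) := by
    obtain ⟨a, ha⟩ := (simple_mon s.ne_zero).1
    have h := (ha (rt 0)).2.2.2 (e : F)⁻¹
    rw [show (RR F).wperm i0 (rt 0) = rt 0 from Fin.ext (by rw [Rel.wperm_apply]; exact num_facts.2.2.2.2.2.1)] at h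
    exact ⟨_, mul_inv_eq_iff_eq_mul.1 h⟩
  have hc40 : Commute ((RR F).xe 4 (s : F)⁻¹) ((RR F).xe 0 (e : F)⁻¹) := by
    have h := (RR F).xe_comm 4 0 (s : F)⁻¹ (e : F)⁻¹ (by decide) (by decide) (by decide) (by decide +kernel)
    rw [ChevalleyDatum.commWord, commTerms_four_zero, List.map_nil, List.map_nil, List.prod_nil, mul_one] at h
    exact h.symm
  -- the torus part
  have hh : (RR F).ne 7 (s : F) * (RR F).ne 11 (e : F) = lev (dg (s⁻¹ * e) (s * s)) * n0 F := by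
    obtain ⟨a, ha⟩ := (simple_mon (one_ne_zero (α := F))).1
    have k := (RR F).he_conj ha (rt 11) e.ne_zero
    rw [show (RR F).wperm i0 (rt 11) = rt 11 from Fin.ext (by rw [Rel.wperm_apply]; exact num_facts.2.2.2.2.1)] at k
    have k' : (RR F).ne 7 1 * (RR F).he 11 (e : F) = (RR F).he 11 (e : F) * (RR F).ne 7 1 :=
      mul_inv_eq_iff_eq_mul.1 k
    rw [(RR F).ne_eq_he_mul 7, (RR F).ne_eq_he_mul 11 (e : F), mul_assoc, ← mul_assoc ((RR F).ne 7 1), k',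
      he_seven, he_eleven, mul_assoc, ← mul_assoc, ← map_mul]
    refine congrArg₂ (· * ·) (congrArg lev (Units.ext ?_)) rfl
    rw [Units.val_mul, dg_val, dg_val, dg_val]
    ext i j; fin_cases i <;> fin_cases j <;> simp [mul_apply, Fin.sum_univ_two]
  have e7 := opp_eq (rt 7) s.ne_zero
  have e11 := opp_eq (rt 11) e.ne_zero
  rw [neg_val] at e7 e11
  refine ⟨(RR F).xe 4 (s : F)⁻¹ * (RR F).xe 0 t0, mul_mem (xe_V5 4 le_rfl _) (xe_V5 0 (by decide) _),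
    _, n0_V5 (mul_mem (xe_V5 4 le_rfl t4) (xe_V5 0 (by decide) (e : F)⁻¹)), ?_⟩
  have hp : lev (dg x (s * s * b0)) = lev (dg (s⁻¹ * e) (s * s)) * lev (dg a0 b0) := by
    rw [← map_mul]
    refine congrArg lev (Units.ext ?_)
    rw [Units.val_mul, dg_val, dg_val, dg_val, ← he]
    ext i j; fin_cases i <;> fin_cases j <;> simp [mul_apply, Fin.sum_univ_two]
  rw [hp, ← h0]
  simp only [show ((rt 7 : Fin _) : ℕ) = 7 from rfl, show ((rt 11 : Fin _) : ℕ) = 11 from rfl, Nat.sub_self,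
    show 11 - 7 = 4 from rfl] at e7 e11
  rw [e7, e11]
  calc (RR F).xe 4 (s : F)⁻¹ * (RR F).ne 7 (s : F) * (RR F).xe 4 (s : F)⁻¹ *
        ((RR F).xe 0 (e : F)⁻¹ * (RR F).ne 11 (e : F) * (RR F).xe 0 (e : F)⁻¹) * n0 F
      = (RR F).xe 4 (s : F)⁻¹ * ((RR F).ne 7 (s : F) * (RR F).xe 0 (e : F)⁻¹) *
          ((RR F).xe 4 (s : F)⁻¹ * (RR F).ne 11 (e : F)) * (RR F).xe 0 (e : F)⁻¹ * n0 F := by
        simp only [mul_assoc]
        rw [← mul_assoc ((RR F).xe 4 (s : F)⁻¹) ((RR F).xe 0 (e : F)⁻¹), hc40.eq]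
        simp only [mul_assoc]
    _ = (RR F).xe 4 (s : F)⁻¹ * (RR F).xe 0 t0 * ((RR F).ne 7 (s : F) * (RR F).ne 11 (e : F)) *
          ((RR F).xe 4 t4 * (RR F).xe 0 (e : F)⁻¹) * n0 F := by
        rw [ht4, ht0]; simp only [mul_assoc]
    _ = _ := by rw [hh]; group

/-! ### the field with two elements -/

theorem groupMap_ne {K : Type*} [Field K] (j : K →+* F) (r : ℕ) (c : K) :
    ChevFixed.groupMap chevG2 j ((RR K).ne r c) = (RR F).ne r (j c) := by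
  show ChevFixed.groupMap chevG2 j ((RR K).xe r c * (RR K).xe (chevG2.neg r) (-c⁻¹) * (RR K).xe r c) = _
  rw [map_mul, map_mul, ChevFixed.groupMap_xe, ChevFixed.groupMap_xe, map_neg, map_inv₀]
  rfl

theorem two_facts (h2 : (2 : F) = 0) :
    (n0 F)⁻¹ * (RR F).xe 6 1 * n0 F = (RR F).xe 5 1 ∧ (RR F).ne 9 1 * n0 F = (RR F).ne 6 1 := by
  have : CharP F 2 := CharTwo.of_one_ne_zero_of_two_eq_zero one_ne_zero h2
  let j : ZMod 2 →+* F := ZMod.castHom dvd_rfl F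
  have hn : ChevFixed.groupMap chevG2 j (n0 (ZMod 2)) = n0 F := by
    rw [n0, map_mul, groupMap_ne, groupMap_ne, map_one]; rfl
  have one_of : ∀ c : ZMod 2, c ≠ 0 → c = 1 := by decide
  constructor
  · obtain ⟨c, -, e⟩ := exists_twist (F := ZMod 2)
    rw [one_of _ c.ne_zero] at e
    have := congrArg (ChevFixed.groupMap chevG2 j) e
    rwa [map_mul, map_mul, map_inv, hn, ChevFixed.groupMap_xe, ChevFixed.groupMap_xe, map_one] at this
  · have key : (RR (ZMod 2)).ne 9 1 * n0 (ZMod 2) * ((RR (ZMod 2)).ne 6 1)⁻¹ = 1 := by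
      have hHS : (RR (ZMod 2)).HS = ⊥ := by
        rw [eq_bot_iff]
        refine (Subgroup.closure_le _).2 ?_
        rintro _ ⟨i, c, hc, rfl⟩
        rw [one_of c hc, Rel.he_one]
        exact one_mem _
      rw [← Subgroup.mem_bot, ← hHS]
      obtain ⟨σ, b, hb1, hb2⟩ := ne_mon_num (F := ZMod 2) [i0, i1] i0 (r := rt 9) num_facts.2.1 (one_ne_zero)
      obtain ⟨τ, a, ha1, ha2⟩ := n0_mon (F := ZMod 2)
      obtain ⟨a6, hm6⟩ := (simple_mon (one_ne_zero (α := ZMod 2))).2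
      have hb1' : (RR (ZMod 2)).IsMon ((RR (ZMod 2)).ne 9 1) σ b := hb1
      have h9 : (RR (ZMod 2)).ne 9 1 ∈ (RR (ZMod 2)).NS := (RR (ZMod 2)).ne_mem (rt 9) one_ne_zero
      have h6 : (RR (ZMod 2)).ne 6 1 ∈ (RR (ZMod 2)).NS := (RR (ZMod 2)).ne_mem (rt 6) one_ne_zero
      have hm := (RR (ZMod 2)).isMon_mul ((RR (ZMod 2)).isMon_mul hb1' ha1) ((RR (ZMod 2)).isMon_inv hm6)
      obtain ⟨g, hg⟩ : ∃ g : (RR (ZMod 2)).NS,
          (g : GG (ZMod 2)) = (RR (ZMod 2)).ne 9 1 * n0 (ZMod 2) * ((RR (ZMod 2)).ne 6 1)⁻¹ :=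
        ⟨⟨_, mul_mem (mul_mem h9 n0_mem) (inv_mem h6)⟩, rfl⟩
      rw [← hg] at hm
      rw [← hg]
      refine (RR (ZMod 2)).mem_HS_of_nsPerm ?_
      rw [(RR (ZMod 2)).nsPerm_eq hm]
      rw [mul_inv_eq_one]
      refine Equiv.ext fun r => Fin.ext ?_
      rw [Equiv.Perm.mul_apply, hb2, ha2, Rel.wperm_apply]
      exact (by decide +kernel :
        ∀ r : Fin 12, wNum [0, 1, 0, 1, 0] (11 - (r : ℕ)) = auxG2.w 1 r) r
    have := congrArg (ChevFixed.groupMap chevG2 j) key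
    rwa [map_mul, map_mul, map_inv, hn, groupMap_ne, groupMap_ne, map_one, map_one, mul_inv_eq_one] at this

theorem sig_anti (h2 : (2 : F) = 0) : ∃ Q : GL (Fin 2) F, InSig Q ∧ Q.1 = !![0, 1; 1, 0] := by
  obtain ⟨-, k⟩ := two_facts h2
  have hm : (-1 : F) = 1 := by linear_combination -h2
  refine ⟨T01 1 * T10 (-1) * T01 1, ?_, ?_⟩
  swap
  · rw [Units.val_mul, Units.val_mul, T01_val, T10_val]
    ext i j; fin_cases i <;> fin_cases j <;> simp [mul_apply, Fin.sum_univ_two, hm] <;> linear_combination h2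
  refine ⟨_, xe_U5 9 (by decide) (by decide) (1 : F), _, xe_V5 2 (by decide) 1, _, n0_V5 (xe_V5 2 (by decide) 1), ?_⟩
  have e9 := opp_eq (rt 9) (one_ne_zero (α := F))
  rw [neg_val] at e9
  simp only [show ((rt 9 : Fin _) : ℕ) = 9 from rfl, show 11 - 9 = 2 from rfl, inv_one] at e9
  have h6 : lev (T01 1 * T10 (-1) * T01 1) = (RR F).ne 6 (1 : F) := by
    rw [map_mul, map_mul, lev_T01, lev_T10]
    show _ = (RR F).xe 6 1 * (RR F).xe (chevG2.neg 6) (-1⁻¹) * (RR F).xe 6 1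
    rw [simple_one.2.1, inv_one]
  rw [h6, ← k, e9]
  group

/-- every invertible symmetric matrix is reached -/
theorem sigma_all [Fintype F] : ∃ E : GL (Fin 2) F, ∀ S : M2 F, Sᵀ = S → S.det ≠ 0 →
    ∃ Q : GL (Fin 2) F, InSig Q ∧ Q.1 * E.1 = S := by
  obtain ⟨c, hc, hc6⟩ := exists_twist (F := F)
  refine ⟨emat c, fun S hS hdet => ?_⟩
  -- congruent matrices
  have move : ∀ (Q : GL (Fin 2) F) (P : GL (Fin 2) F), InSig Q →
      ∃ Q' : GL (Fin 2) F, InSig Q' ∧ Q'.1 * (emat c).1 = P.1 * (Q.1 * (emat c).1) * P.1ᵀ := by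
    intro Q P hQ
    refine ⟨_, hQ.congr hc P, ?_⟩
    rw [← Units.val_mul, show P * Q * (emat c * tinv P⁻¹ * (emat c)⁻¹) * emat c = P * (Q * emat c) * tinv P⁻¹ by group,
      Units.val_mul, Units.val_mul, Units.val_mul, tinv_val, inv_inv]
  obtain ⟨b0, hb0⟩ := sig_diag (F := F)
  rcases sym_congr (y0 := -(c : F) * b0) (mul_ne_zero (neg_ne_zero.2 c.ne_zero) b0.ne_zero) S hS hdet with
    ⟨P, x, σ, hx, hσ, rfl⟩ | ⟨h2, r, hr, rfl⟩
  · obtain ⟨Q', h1, h3⟩ := move _ P (hb0 (Units.mk0 x hx) (Units.mk0 σ hσ))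
    refine ⟨Q', h1, h3.trans ?_⟩
    congr 2
    rw [dg_val, emat, dg_val]
    ext i j; fin_cases i <;> fin_cases j <;> simp [mul_apply, Fin.sum_univ_two]
    ring
  · obtain ⟨Q, hQ, hQv⟩ := sig_anti h2
    obtain ⟨k, -⟩ := two_facts h2
    have hc1 : (c : F) = 1 := (RR F).xe_inj_param (r := rt 5) (hc6.symm.trans k)
    have hm : (-1 : F) = 1 := by linear_combination -h2
    obtain ⟨Q', h1, h3⟩ := move Q (dg (Units.mk0 r hr) 1) hQ
    refine ⟨Q', h1, h3.trans ?_⟩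
    rw [hQv, emat, dg_val, dg_val]
    ext i j; fin_cases i <;> fin_cases j <;> simp [mul_apply, Fin.sum_univ_two, hc1, hm]

end CfsgLib.Known.SmallSquare.G2
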