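import Cfsg.Agent.Lib.Lie.Rel.Bruhat
import Cfsg.Agent.Lib.Lie.Rel.SL2

/-!
# Raising the length in a cell by conjugation with commuting simple reflections
-/

set_option autoImplicit false

namespace CfsgLib.Known.SmallSquare.CellPush

open Cfsg.Lie (ChevalleyDatum)
open CfsgLib.Lie.Chev
open scoped MatrixGroups

variable {D : ChevalleyDatum} {X : Aux} {F : Type*} [Field F] {G : Type*} [Group G] (R : Rel D X F G)

/-- in the cell of the monomial elements with permutation `τ` -/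
def InCell (g : G) (τ : Equiv.Perm (Fin D.nroots)) : Prop :=
  ∃ b ∈ R.BS, ∃ b' ∈ R.BS, ∃ m ∈ R.NS, (∃ a, R.IsMon m τ a) ∧ g = b * m * b'

include R

theorem opp (r : Fin D.nroots) {c : F} (hc : c ≠ 0) :
    R.xe r c = R.xe (R.negF r) c⁻¹ * R.ne r c * R.xe (R.negF r) c⁻¹ := by
  let lo : SL(2, F) := ⟨!![1, 0; c⁻¹, 1], by simp [Matrix.det_fin_two]⟩
  let w : SL(2, F) := ⟨!![0, c; -c⁻¹, 0], by simp [Matrix.det_fin_two, hc]⟩
  have e1 : R.slHom r lo = R.xe (R.negF r) c⁻¹ := R.slHom_lower r c⁻¹ lo rfl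
  have e2 : R.slHom r w = R.ne r c := by
    show R.slMap r w = _
    simp [Rel.slMap, Rel.slEval, w, hc, R.xe_zero]
  rw [← R.slMap_slX r c, ← e1, ← e2, ← map_mul, ← map_mul]
  refine congrArg (R.slHom r) (Subtype.ext ?_)
  show (Rel.slX c).1 = !![1, 0; c⁻¹, 1] * !![0, c; -c⁻¹, 0] * !![1, 0; c⁻¹, 1]
  rw [Rel.slX_val]
  ext i j
  fin_cases i <;> fin_cases j <;> simp [Matrix.mul_apply, Fin.sum_univ_two, hc]

theorem neg_root_split (i : Fin D.rank) {y : F} (hy : y ≠ 0) :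
    R.xe (R.negF (R.sroot i)) y =
      R.xe (R.sroot i) y⁻¹ * R.ne (D.simple i) (-y⁻¹) * R.xe (R.sroot i) y⁻¹ := by
  have h0 := opp R (R.negF (R.sroot i)) hy
  rw [Rel.negF_negF] at h0
  have h1 := opp R (R.sroot i) (neg_ne_zero.2 (inv_ne_zero hy))
  rw [inv_neg, inv_inv, R.xe_neg] at h1
  have hny : R.ne (R.negF (R.sroot i)) y = R.ne (D.simple i) (-y⁻¹) := by
    show R.xe (R.negF (R.sroot i)) y * R.xe (D.neg (R.negF (R.sroot i) : ℕ)) (-y⁻¹) *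
      R.xe (R.negF (R.sroot i)) y = _
    rw [show D.neg (R.negF (R.sroot i) : ℕ) = (R.sroot i : ℕ) from
      congrArg Fin.val (R.negF_negF _), R.xe_neg, h1]
    simp only [Rel.sroot, R.xe_neg]
    group
  rw [← hny]
  exact h0

/-- a simple reflection multiplies onto a cell when the length goes up -/
theorem cell_simple (i : Fin D.rank) {m : G} (hmN : m ∈ R.NS) {π : Equiv.Perm (Fin D.nroots)}
    {a : Fin D.nroots → F} (hm : R.IsMon m π a) (hpos : half D ≤ (π (R.sroot i) : ℕ)) {b : G} (hb : b ∈ R.BS)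
    {c : F} (hc : c ≠ 0) :
    ∃ b1 ∈ R.BS, ∃ b2 ∈ R.BS,
      m * b * R.ne (D.simple i) c = b1 * (m * R.ne (D.simple i) c) * b2 := by
  obtain ⟨p, hp, h, hh, rfl⟩ := R.exists_of_mem_BS hb
  have hp' : h⁻¹ * p * h ∈ R.UP := by
    have := (Subgroup.mem_normalizer_iff.1 (R.HS_le_normalizer_US _ (inv_mem hh)) p).1 hp
    rwa [inv_inv] at this
  obtain ⟨v, hv, t, e⟩ := R.exists_UP_split i (inv_mem hp')
  have h1 := (hm (R.sroot i)).2.2.2 (-t)
  have h2 := Rel.IsMon.conj_mem_US R (R.isMon_inv (R.isMon_ne_simple i hc))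
    (T := R.restSet i) (fun r hr => by
      rw [show (R.wperm i)⁻¹ = R.wperm i from inv_eq_of_mul_eq_one_right (R.wperm_mul_self i)]
      refine ⟨R.wperm_pos i r hr.1 hr.2, fun e => ?_⟩
      have := congrArg (R.wperm i) e
      rw [← Equiv.Perm.mul_apply, R.wperm_mul_self, Equiv.Perm.one_apply, R.wperm_sroot] at this
      exact (R.negF_pos_iff (R.sroot i)).1 (this ▸ hr.1) (R.sroot_pos i)) (inv_mem hv)
  refine ⟨(m * h * m⁻¹) * R.xe (π (R.sroot i)) (a (R.sroot i) * -t),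
    mul_mem (R.HS_le_BS (R.HS_conj hmN hh)) (R.UP_le_BS (R.xe_mem_US (S := posSet D) hpos _)), _,
    R.UP_le_BS (R.US_mono (R.restSet_subset i) h2), ?_⟩
  have e' : h⁻¹ * p * h = R.xe (D.simple i) (-t) * v⁻¹ := by
    rw [R.xe_neg, ← _root_.mul_inv_rev, ← e, inv_inv]
  calc m * (p * h) * R.ne (D.simple i) c = (m * h * m⁻¹) * m * (h⁻¹ * p * h) * R.ne (D.simple i) c := by group
    _ = _ := by
      rw [e', ← h1]
      simp only [Rel.sroot]
      group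

theorem push : ∀ (L : List (Fin D.rank × F)), (∀ p ∈ L, p.2 ≠ 0) →
    L.Pairwise (fun p r => R.wperm p.1 (R.sroot r.1) = R.sroot r.1) →
    ∀ {m : G}, m ∈ R.NS → ∀ {π : Equiv.Perm (Fin D.nroots)} {a : Fin D.nroots → F}, R.IsMon m π a →
    (∀ p ∈ L, half D ≤ (π (R.sroot p.1) : ℕ)) → ∀ {b : G}, b ∈ R.BS →
    InCell R (m * b * (L.map fun p => R.xe (R.negF (R.sroot p.1)) p.2).prod)
      (π * (L.map fun p => R.wperm p.1).prod) := by
  intro L
  induction L with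
  | nil =>
    intro _ _ m hmN π a hm _ b hb
    exact ⟨1, one_mem _, b, hb, m, hmN, ⟨a, by simpa using hm⟩, by simp⟩
  | cons p L ih =>
    intro hne hpw m hmN π a hm hpos b hb
    rw [List.pairwise_cons] at hpw
    have hy := hne p (List.mem_cons_self ..)
    have hx : R.xe (R.sroot p.1) p.2⁻¹ ∈ R.BS := R.UP_le_BS (R.xe_mem_US (S := posSet D) (R.sroot_pos p.1) _)
    have hc : -p.2⁻¹ ≠ 0 := neg_ne_zero.2 (inv_ne_zero hy)
    obtain ⟨c1, hc1, c2, hc2, e⟩ :=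
      cell_simple R p.1 hmN hm (hpos p (List.mem_cons_self ..)) (mul_mem hb hx) hc
    have hm2 := R.isMon_mul hm (R.isMon_ne_simple p.1 hc)
    obtain ⟨d1, hd1, d2, hd2, m', hm', ⟨a', ha'⟩, e2⟩ :=
      ih (fun r hr => hne r (List.mem_cons_of_mem _ hr)) hpw.2
        (mul_mem hmN (R.ne_simple_mem_NS p.1 hc)) hm2 (fun r hr => by
          rw [Equiv.Perm.mul_apply, hpw.1 r hr]
          exact hpos r (List.mem_cons_of_mem _ hr)) (mul_mem hc2 hx)
    refine ⟨c1 * d1, mul_mem hc1 hd1, d2, hd2, m', hm', ⟨a', ?_⟩, ?_⟩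
    · rw [List.map_cons, List.prod_cons, ← mul_assoc]
      exact ha'
    rw [List.map_cons, List.prod_cons, neg_root_split R p.1 hy]
    calc m * b * (R.xe (R.sroot p.1) p.2⁻¹ * R.ne (D.simple p.1) (-p.2⁻¹) * R.xe (R.sroot p.1) p.2⁻¹ *
          (L.map fun p => R.xe (R.negF (R.sroot p.1)) p.2).prod)
        = (m * (b * R.xe (R.sroot p.1) p.2⁻¹) * R.ne (D.simple p.1) (-p.2⁻¹)) * R.xe (R.sroot p.1) p.2⁻¹ *
            (L.map fun p => R.xe (R.negF (R.sroot p.1)) p.2).prod := by simp only [mul_assoc]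
      _ = c1 * (m * R.ne (D.simple p.1) (-p.2⁻¹) * (c2 * R.xe (R.sroot p.1) p.2⁻¹) *
            (L.map fun p => R.xe (R.negF (R.sroot p.1)) p.2).prod) := by rw [e]; simp only [mul_assoc]
      _ = _ := by rw [e2]; simp only [mul_assoc]

/-- conjugating `b * n` by a monomial element -/
theorem conj_split (s n : R.NS) {b : G} (hb : b ∈ R.BS)
    (hpos : ∀ r ∈ invSet (R.nsPerm s), half D ≤ ((R.nsPerm (s * n * s⁻¹))⁻¹ (R.nsPerm s r) : ℕ)) :
    ∃ c ∈ R.BS, ∃ m : R.NS, ∃ u ∈ R.BS, R.nsPerm m = R.nsPerm (s * n * s⁻¹) ∧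
      (s : G) * (b * n) * (s : G)⁻¹ = c * m * u := by
  obtain ⟨v, hv, h, hh, rfl⟩ := R.exists_of_mem_BS hb
  obtain ⟨p, hp, w, hw, rfl⟩ := R.exists_UP_factor (R.nsPerm s) hv
  obtain ⟨h', hh'⟩ : ∃ h' : R.NS, (h' : G) = h := ⟨⟨h, R.HS_le_NS hh⟩, rfl⟩
  obtain ⟨m, hm⟩ : ∃ m : R.NS, m = s * (h' * n) * s⁻¹ := ⟨_, rfl⟩
  have hperm : R.nsPerm m = R.nsPerm (s * n * s⁻¹) := by
    rw [hm, map_mul, map_mul, map_mul, R.nsPerm_of_mem_HS h' (hh' ▸ hh), one_mul, ← map_mul, ← map_mul]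
  obtain ⟨as, has⟩ := R.isMon_nsPerm s
  obtain ⟨am, ham⟩ := R.isMon_nsPerm m
  have hinv := R.isMon_inv ham
  have hw1 : (s : G) * w * (s : G)⁻¹ ∈ R.US (R.nsPerm s '' invSet (R.nsPerm s)) :=
    Rel.IsMon.conj_mem_US R has (T := R.nsPerm s '' invSet (R.nsPerm s)) (fun r hr => ⟨r, hr, rfl⟩) hw
  have hw2 : (m : G)⁻¹ * ((s : G) * w * (s : G)⁻¹) * (m : G)⁻¹⁻¹ ∈ R.US (posSet D) := by
    refine Rel.IsMon.conj_mem_US R hinv (T := posSet D) ?_ hw1
    rintro _ ⟨r, hr, rfl⟩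
    show half D ≤ _
    rw [hperm]
    exact hpos r hr
  refine ⟨(s : G) * p * (s : G)⁻¹, R.UP_le_BS (R.conj_keep hp), m, _, R.UP_le_BS hw2, hperm, ?_⟩
  rw [hm]
  simp only [Subgroup.coe_mul, Subgroup.coe_inv, hh']
  group

end CfsgLib.Known.SmallSquare.CellPush
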