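import Cfsg.Agent.Lib.Known.SmallSquare.G2Cell

/-!
# A semisimple class of `G₂(q)` whose square covers every nontrivial element

Every nontrivial element is conjugate into a Bruhat cell that is either in the big cell of the long root
parabolic or in the cell of the reflection in the highest root; both meet the square of the class.
-/

set_option autoImplicit false

namespace CfsgLib.Known.SmallSquare.G2

open Cfsg.Lie (ChevalleyDatum chevG2)
open CfsgLib.Lie.Chev CfsgLib.Known.G2Singer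
open Matrix
open scoped MatrixGroups

universe u

variable {F : Type u} [Field F]

/-- conjugate into the cell of a permutation -/
def Form (g : GG F) (σ : Equiv.Perm (Fin chevG2.nroots)) : Prop :=
  ∃ b ∈ (RR F).BS, ∃ n : (RR F).NS, (RR F).nsPerm n = σ ∧ ∃ z : GG F, z * g * z⁻¹ = b * n

theorem form_of {g z b b' m : GG F} (hb : b ∈ (RR F).BS) (hb' : b' ∈ (RR F).BS) (hm : m ∈ (RR F).NS)
    {σ : Equiv.Perm (Fin chevG2.nroots)} {a : Fin chevG2.nroots → F} (ha : (RR F).IsMon m σ a)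
    (e : z * g * z⁻¹ = b * m * b') : Form g σ := by
  refine ⟨b' * b, mul_mem hb' hb, ⟨m, hm⟩, (RR F).nsPerm_eq (g := ⟨m, hm⟩) ha, b' * z, ?_⟩
  show b' * z * g * (b' * z)⁻¹ = b' * b * m
  rw [show b' * z * g * (b' * z)⁻¹ = b' * (z * g * z⁻¹) * b'⁻¹ by group, e]
  group

theorem exists_form {g : GG F} (hg : g ≠ 1) :
    ∃ σ, σ ≠ 1 ∧ Form g σ := by
  by_cases hall : ∀ z : GG F, z * g * z⁻¹ ∈ (RR F).BS
  · exfalso
    have h := ((RR F).core_le (show g ∈ (RR F).BS.normalCore from hall)).1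
    exact hg (chevRel_injective certG2 F (h.trans (map_one _).symm))
  · push Not at hall
    obtain ⟨z, hz⟩ := hall
    obtain ⟨b, hb, n, u, hu, e⟩ := (RR F).exists_bnu (z * g * z⁻¹)
    have hu' : u ∈ (RR F).BS := (RR F).UP_le_BS ((RR F).US_mono (Rel.invSet_subset _) hu)
    obtain ⟨a, ha⟩ := (RR F).isMon_nsPerm n
    refine ⟨_, fun h1 => hz ?_, form_of hb hu' n.2 ha e⟩
    rw [e]
    exact mul_mem (mul_mem hb ((RR F).HS_le_BS ((RR F).mem_HS_of_nsPerm h1))) hu'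

theorem UP_split_left (i : Fin chevG2.rank) {g : GG F} (hg : g ∈ (RR F).UP) :
    ∃ v ∈ (RR F).US ((RR F).restSet i), ∃ t, g = (RR F).xe (chevG2.simple i) t * v := by
  obtain ⟨v, hv, t, e⟩ := (RR F).exists_UP_split i (inv_mem hg)
  refine ⟨v⁻¹, inv_mem hv, -t, ?_⟩
  rw [(RR F).xe_neg, ← _root_.mul_inv_rev, ← e, inv_inv]

/-- the product of two cells -/
theorem cell_mul (i : Fin chevG2.rank) {m : GG F} {π : Equiv.Perm (Fin chevG2.nroots)} {a : Fin chevG2.nroots → F}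
    (hm : (RR F).IsMon m π a) (hpos : 6 ≤ (π ((RR F).sroot i) : ℕ)) {u : GG F} (hu : u ∈ (RR F).UP) {c : F}
    (hc : c ≠ 0) :
    ∃ b ∈ (RR F).BS, ∃ b' ∈ (RR F).BS,
      m * u * (RR F).ne (chevG2.simple i) c = b * (m * (RR F).ne (chevG2.simple i) c) * b' := by
  obtain ⟨v, hv, t, rfl⟩ := UP_split_left i hu
  have h1 := (hm ((RR F).sroot i)).2.2.2 t
  have h2 := Rel.IsMon.conj_mem_US (RR F) ((RR F).isMon_inv ((RR F).isMon_ne_simple i hc))
    (T := (RR F).restSet i) (fun r hr => by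
      rw [wperm_inv]
      refine ⟨(RR F).wperm_pos i r hr.1 hr.2, fun e => ?_⟩
      have := congrArg ((RR F).wperm i) e
      rw [← Equiv.Perm.mul_apply, (RR F).wperm_mul_self, Equiv.Perm.one_apply, (RR F).wperm_sroot] at this
      exact ((RR F).negF_pos_iff ((RR F).sroot i)).1 (this ▸ hr.1) ((RR F).sroot_pos i)) hv
  refine ⟨_, (RR F).xe_pos_mem_BS (r := π ((RR F).sroot i)) (by rw [simple_one.2.2.2.1]; exact hpos)
    (a ((RR F).sroot i) * t), _, (RR F).UP_le_BS ((RR F).US_mono ((RR F).restSet_subset i) h2), ?_⟩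
  rw [← h1]
  simp only [Rel.sroot]
  group

theorem pos_iff {r : Fin chevG2.nroots} : half chevG2 ≤ (r : ℕ) ↔ 6 ≤ (r : ℕ) := by rw [simple_one.2.2.2.1]

/-- raise the length by conjugating with a simple reflection -/
theorem climb {g : GG F} {σ : Equiv.Perm (Fin chevG2.nroots)} (hF : Form g σ) (i : Fin chevG2.rank)
    (hA : 6 ≤ (σ ((RR F).sroot i) : ℕ)) (hB : 6 ≤ (σ⁻¹ ((RR F).sroot i) : ℕ))
    (hne : σ ((RR F).sroot i) ≠ (RR F).sroot i) :
    Form g ((RR F).wperm i * σ * (RR F).wperm i) := by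
  obtain ⟨b, hb, n, hn, z, e⟩ := hF
  obtain ⟨a, ha⟩ := (RR F).isMon_nsPerm n
  rw [hn] at ha
  obtain ⟨p, hp, h, hh, rfl⟩ := (RR F).exists_of_mem_BS hb
  obtain ⟨v, hv, t, rfl⟩ := (RR F).exists_UP_split i hp
  obtain ⟨ah, hah⟩ := (RR F).isMon_of_mem_HS hh
  have hs := (RR F).isMon_ne_simple i (one_ne_zero (α := F))
  have hsm : (RR F).ne (chevG2.simple i) 1 ∈ (RR F).NS := (RR F).ne_simple_mem_NS i one_ne_zero
  set s := (RR F).ne (chevG2.simple i) 1 with hsdef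
  have hm := (RR F).isMon_mul ((RR F).isMon_mul hs ((RR F).isMon_mul hah ha)) ((RR F).isMon_inv hs)
  rw [one_mul, wperm_inv] at hm
  set π := (RR F).wperm i * σ * (RR F).wperm i with hπ
  have hmN : s * (h * (n : GG F)) * s⁻¹ ∈ (RR F).NS :=
    mul_mem (mul_mem hsm (mul_mem ((RR F).HS_le_NS hh) n.2)) (inv_mem hsm)
  set m := s * (h * (n : GG F)) * s⁻¹ with hmdef
  obtain ⟨x, hx⟩ : ∃ x, s * (RR F).xe (chevG2.simple i) t * s⁻¹ = (RR F).xe ((RR F).negF ((RR F).sroot i)) x := by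
    have h' := (hs ((RR F).sroot i)).2.2.2 t
    rw [(RR F).wperm_sroot] at h'
    exact ⟨_, h'⟩
  have hβ : 6 ≤ (π⁻¹ ((RR F).negF ((RR F).sroot i)) : ℕ) := by
    rw [hπ, show ((RR F).wperm i * σ * (RR F).wperm i)⁻¹ = (RR F).wperm i * σ⁻¹ * (RR F).wperm i by
      rw [_root_.mul_inv_rev, _root_.mul_inv_rev, wperm_inv, mul_assoc], Equiv.Perm.mul_apply, Equiv.Perm.mul_apply,
      ← (RR F).wperm_sroot, ← Equiv.Perm.mul_apply ((RR F).wperm i) ((RR F).wperm i), (RR F).wperm_mul_self,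
      Equiv.Perm.one_apply]
    refine pos_iff.1 ((RR F).wperm_pos i _ (pos_iff.2 hB) fun e => hne ?_)
    calc σ ((RR F).sroot i) = σ (σ⁻¹ ((RR F).sroot i)) := by rw [e]
      _ = _ := σ.apply_symm_apply _
  have hx' := ((RR F).isMon_inv hm ((RR F).negF ((RR F).sroot i))).2.2.2 x
  have hv' := (RR F).ne_conj_rest i hv
  rw [← hsdef] at hv'
  obtain ⟨c, hc⟩ : ∃ c, m⁻¹ * (RR F).xe ((RR F).negF ((RR F).sroot i)) x * m⁻¹⁻¹ =
      (RR F).xe (π⁻¹ ((RR F).negF ((RR F).sroot i))) c := ⟨_, hx'⟩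
  refine form_of ((RR F).UP_le_BS ((RR F).US_mono ((RR F).restSet_subset i) hv'))
    ((RR F).xe_pos_mem_BS (pos_iff.2 hβ) c) hmN hm (z := s * z) ?_
  rw [show s * z * g * (s * z)⁻¹ = s * (z * g * z⁻¹) * s⁻¹ by group, e, ← hc, ← hx, hmdef]
  group

/-- raise the length by a product of cells -/
theorem climb' {g : GG F} {σ : Equiv.Perm (Fin chevG2.nroots)} (hF : Form g σ) (i : Fin chevG2.rank)
    (hA : (σ ((RR F).sroot i) : ℕ) < 6) (hB : 6 ≤ (σ⁻¹ ((RR F).sroot i) : ℕ))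
    (hne : σ ((RR F).sroot i) ≠ (RR F).negF ((RR F).sroot i)) :
    Form g ((RR F).wperm i * σ) := by
  obtain ⟨b₀, hb₀, n, hn, z, e⟩ := hF
  obtain ⟨a, ha⟩ := (RR F).isMon_nsPerm n
  rw [hn] at ha
  have hx1 : (RR F).xe (chevG2.simple i) 1 ∈ (RR F).BS := (RR F).xe_pos_mem_BS (r := (RR F).sroot i) ((RR F).sroot_pos i) 1
  obtain ⟨p, hp, h, hh, hb⟩ := (RR F).exists_of_mem_BS (mul_mem hx1 hb₀)
  obtain ⟨v, hv, t, rfl⟩ := (RR F).exists_UP_split i hp
  obtain ⟨ah, hah⟩ := (RR F).isMon_of_mem_HS hh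
  have hs := (RR F).isMon_ne_simple i (one_ne_zero (α := F))
  have hsm : (RR F).ne (chevG2.simple i) 1 ∈ (RR F).NS := (RR F).ne_simple_mem_NS i one_ne_zero
  set s := (RR F).ne (chevG2.simple i) 1 with hsdef
  have hm := (RR F).isMon_mul ((RR F).isMon_mul hs ((RR F).isMon_mul hah ha)) ((RR F).isMon_inv hs)
  rw [one_mul, wperm_inv] at hm
  set π := (RR F).wperm i * σ * (RR F).wperm i with hπ
  have hmN : s * (h * (n : GG F)) * s⁻¹ ∈ (RR F).NS :=
    mul_mem (mul_mem hsm (mul_mem ((RR F).HS_le_NS hh) n.2)) (inv_mem hsm)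
  set m := s * (h * (n : GG F)) * s⁻¹ with hmdef
  obtain ⟨x, hx⟩ : ∃ x, s * (RR F).xe (chevG2.simple i) t * s⁻¹ = (RR F).xe ((RR F).negF ((RR F).sroot i)) x := by
    have h' := (hs ((RR F).sroot i)).2.2.2 t
    rw [(RR F).wperm_sroot] at h'
    exact ⟨_, h'⟩
  obtain ⟨y, hy0, hy⟩ : ∃ y, y ≠ 0 ∧
      s * (RR F).xe (chevG2.simple i) (-1) * s⁻¹ = (RR F).xe ((RR F).negF ((RR F).sroot i)) y := by
    have h' := (hs ((RR F).sroot i)).2.2.2 (-1)
    rw [(RR F).wperm_sroot] at h'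
    exact ⟨_, mul_ne_zero (hs ((RR F).sroot i)).1 (by norm_num), h'⟩
  have hβ : 6 ≤ (π⁻¹ ((RR F).negF ((RR F).sroot i)) : ℕ) := by
    rw [hπ, show ((RR F).wperm i * σ * (RR F).wperm i)⁻¹ = (RR F).wperm i * σ⁻¹ * (RR F).wperm i by
      rw [_root_.mul_inv_rev, _root_.mul_inv_rev, wperm_inv, mul_assoc], Equiv.Perm.mul_apply, Equiv.Perm.mul_apply,
      ← (RR F).wperm_sroot, ← Equiv.Perm.mul_apply ((RR F).wperm i) ((RR F).wperm i), (RR F).wperm_mul_self,
      Equiv.Perm.one_apply]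
    refine pos_iff.1 ((RR F).wperm_pos i _ (pos_iff.2 hB) fun e => ?_)
    have h' : σ ((RR F).sroot i) = (RR F).sroot i := by
      calc σ ((RR F).sroot i) = σ (σ⁻¹ ((RR F).sroot i)) := by rw [e]
        _ = _ := σ.apply_symm_apply _
    exact absurd (pos_iff.1 ((RR F).sroot_pos i)) (by rw [h'] at hA; omega)
  have hγ : 6 ≤ (π ((RR F).sroot i) : ℕ) := by
    rw [hπ, Equiv.Perm.mul_apply, Equiv.Perm.mul_apply, (RR F).wperm_sroot]
    have hlin : σ ((RR F).negF ((RR F).sroot i)) = (RR F).negF (σ ((RR F).sroot i)) := (ha _).2.2.1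
    rw [hlin]
    refine pos_iff.1 ((RR F).wperm_pos i _ (((RR F).negF_pos_iff _).2 fun c => ?_) fun e => hne ?_)
    · rw [pos_iff] at c; omega
    · exact ((RR F).negF_negF _).symm.trans (congrArg (RR F).negF e)
  have hx' := ((RR F).isMon_inv hm ((RR F).negF ((RR F).sroot i))).2.2.2 x
  have hv' := (RR F).ne_conj_rest i hv
  rw [← hsdef] at hv'
  -- split the opposite element
  have hopp := opp_eq ((RR F).negF ((RR F).sroot i)) hy0
  rw [Rel.negF_negF] at hopp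
  have hny : (RR F).ne ((RR F).negF ((RR F).sroot i)) y =
      (RR F).ne (chevG2.simple i) (-y⁻¹) := by
    have h1 := opp_eq ((RR F).sroot i) (neg_ne_zero.2 (inv_ne_zero hy0))
    rw [inv_neg, inv_inv, (RR F).xe_neg] at h1
    show (RR F).xe ((RR F).negF ((RR F).sroot i)) y * (RR F).xe (chevG2.neg ((RR F).negF ((RR F).sroot i) : ℕ)) (-y⁻¹) *
      (RR F).xe ((RR F).negF ((RR F).sroot i)) y = _
    rw [show chevG2.neg ((RR F).negF ((RR F).sroot i) : ℕ) = ((RR F).sroot i : ℕ) from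
      congrArg Fin.val ((RR F).negF_negF _), (RR F).xe_neg, h1]
    simp only [Rel.sroot, (RR F).xe_neg]
    group
  obtain ⟨β, hβdef⟩ : ∃ β, β = π⁻¹ ((RR F).negF ((RR F).sroot i)) := ⟨_, rfl⟩
  rw [← hβdef] at hβ hx'
  obtain ⟨c, hc⟩ : ∃ c, m⁻¹ * (RR F).xe ((RR F).negF ((RR F).sroot i)) x * m⁻¹⁻¹ = (RR F).xe β c := ⟨_, hx'⟩
  have hu : (RR F).xe β c * (RR F).xe ((RR F).sroot i) y⁻¹ ∈ (RR F).UP :=
    mul_mem ((RR F).xe_mem_US (S := posSet chevG2) (pos_iff.2 hβ) _)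
      ((RR F).xe_mem_US (S := posSet chevG2) ((RR F).sroot_pos i) _)
  obtain ⟨c1, hc1, c2, hc2, ecell⟩ := cell_mul i hm hγ hu (neg_ne_zero.2 (inv_ne_zero hy0))
  have hN2 : m * (RR F).ne (chevG2.simple i) (-y⁻¹) ∈ (RR F).NS :=
    mul_mem hmN ((RR F).ne_simple_mem_NS i (neg_ne_zero.2 (inv_ne_zero hy0)))
  have hperm : π * (RR F).wperm i = (RR F).wperm i * σ := by
    rw [hπ, mul_assoc, (RR F).wperm_mul_self, mul_one]
  rw [← hperm]
  refine form_of (mul_mem ((RR F).UP_le_BS ((RR F).US_mono ((RR F).restSet_subset i) hv')) hc1)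
    (mul_mem hc2 ((RR F).xe_pos_mem_BS ((RR F).sroot_pos i) y⁻¹)) hN2
    ((RR F).isMon_mul hm ((RR F).isMon_ne_simple i (neg_ne_zero.2 (inv_ne_zero hy0))))
    (z := s * ((RR F).xe (chevG2.simple i) 1 * z)) ?_
  calc s * ((RR F).xe (chevG2.simple i) 1 * z) * g * (s * ((RR F).xe (chevG2.simple i) 1 * z))⁻¹
      = s * ((RR F).xe (chevG2.simple i) 1 * (z * g * z⁻¹) * ((RR F).xe (chevG2.simple i) 1)⁻¹) * s⁻¹ := by group
    _ = s * (((RR F).xe (chevG2.simple i) 1 * b₀) * (n : GG F) * (RR F).xe (chevG2.simple i) (-1)) * s⁻¹ := by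
        rw [e, (RR F).xe_neg]; group
    _ = (s * v * s⁻¹) * ((s * (RR F).xe (chevG2.simple i) t * s⁻¹) * m) *
          (s * (RR F).xe (chevG2.simple i) (-1) * s⁻¹) := by rw [hb, hmdef]; group
    _ = (s * v * s⁻¹) * (m * (RR F).xe β c) * (RR F).xe ((RR F).negF ((RR F).sroot i)) y := by
        rw [hx, hy, ← hc]; group
    _ = (s * v * s⁻¹) * (m * ((RR F).xe β c * (RR F).xe ((RR F).sroot i) y⁻¹) *
          (RR F).ne (chevG2.simple i) (-y⁻¹)) * (RR F).xe ((RR F).sroot i) y⁻¹ := by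
        rw [hopp, hny]; simp only [mul_assoc]
    _ = _ := by rw [ecell]; simp only [mul_assoc]

/-- reduced words -/
def words : List (List ℕ) :=
  [[], [0], [1], [0, 1], [1, 0], [0, 1, 0], [1, 0, 1], [0, 1, 0, 1], [1, 0, 1, 0], [0, 1, 0, 1, 0], [1, 0, 1, 0, 1],
    [0, 1, 0, 1, 0, 1]]

/-- the permutation has the given word -/
def HasWord (σ : Equiv.Perm (Fin chevG2.nroots)) (l : List ℕ) : Prop := ∀ r, (σ r : ℕ) = wNum l r

theorem words_closed : ∀ l ∈ words, ∀ i : Fin 2, ∃ l' ∈ words, ∀ r : Fin 12, wNum ((i : ℕ) :: l) r = wNum l' r := by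
  decide +kernel

/-- what happens at a word: a goal, the stuck reflection, or a way up -/
def Move (l : List ℕ) : Prop :=
  (∀ r : Fin 12, wNum l r = 11 - r) ∨ (∀ r : Fin 12, wNum l r = auxG2.w 1 (11 - r)) ∨
  (∀ r : Fin 12, wNum l r = wNum [1, 0, 1, 0, 1] r) ∨
  ∃ i : Fin 2, (∀ r : Fin 12, wNum l r = chevG2.simple i → 6 ≤ (r : ℕ)) ∧
    ((6 ≤ wNum l (chevG2.simple i) ∧ wNum l (chevG2.simple i) ≠ chevG2.simple i ∧
        ∃ l' ∈ words, l.length < l'.length ∧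
          ∀ r : Fin 12, wNum l' r = auxG2.w i (wNum l (auxG2.w i r))) ∨
      (wNum l (chevG2.simple i) < 6 ∧ wNum l (chevG2.simple i) ≠ 11 - chevG2.simple i ∧
        ∃ l' ∈ words, l.length < l'.length ∧ ∀ r : Fin 12, wNum l' r = auxG2.w i (wNum l r)))

theorem words_move : ∀ l ∈ words, l = [] ∨ Move l := by
  unfold Move
  decide +kernel

theorem exists_hasWord (n : (RR F).NS) : ∃ l ∈ words, HasWord ((RR F).nsPerm n) l := by
  obtain ⟨w, hw⟩ := (RR F).exists_word n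
  rw [← (RR F).qact_qmk, hw]
  clear hw
  induction w with
  | nil => exact ⟨[], by simp [words], fun r => by simp [CfsgLib.Lie.Exchange.wprod, wNum]⟩
  | cons i w ih =>
    obtain ⟨l, hl, hlw⟩ := ih
    obtain ⟨l', hl', e⟩ := words_closed l hl i
    refine ⟨l', hl', fun r => ?_⟩
    have hcons : CfsgLib.Lie.Exchange.wprod (RR F).qgen (i :: w) = (RR F).qgen i * CfsgLib.Lie.Exchange.wprod (RR F).qgen w := by simp [CfsgLib.Lie.Exchange.wprod]
    rw [hcons, map_mul, Equiv.Perm.mul_apply, (RR F).qact_qgen, Rel.wperm_apply, hlw]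
    exact e r

theorem descend {g : GG F} : ∀ (k : ℕ) {σ : Equiv.Perm (Fin chevG2.nroots)} {l : List ℕ}, l ∈ words → HasWord σ l →
    l ≠ [] → 6 ≤ l.length + k → Form g σ →
    ∃ τ, Form g τ ∧ ((∀ r, (τ r : ℕ) = 11 - (r : ℕ)) ∨ (∀ r : Fin chevG2.nroots, (τ r : ℕ) = auxG2.w 1 (11 - r)) ∨
      (∀ r, (τ r : ℕ) = wNum [1, 0, 1, 0, 1] r)) := by
  intro k
  induction k with
  | zero =>
    intro σ l hl hw hne hlen hF
    have : ∀ l ∈ words, 6 ≤ l.length → ∀ r : Fin 12, wNum l r = 11 - r := by decide +kernel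
    exact ⟨σ, hF, Or.inl fun r => (hw r).trans (this l hl (by omega) r)⟩
  | succ k ih =>
    intro σ l hl hw hne hlen hF
    rcases (words_move l hl).resolve_left hne with h | h | h | ⟨i, hB, h⟩
    · exact ⟨σ, hF, Or.inl fun r => (hw r).trans (h r)⟩
    · exact ⟨σ, hF, Or.inr (Or.inl fun r => (hw r).trans (h r))⟩
    · exact ⟨σ, hF, Or.inr (Or.inr fun r => (hw r).trans (h r))⟩
    have hB' : 6 ≤ (σ⁻¹ ((RR F).sroot i) : ℕ) := hB (σ⁻¹ ((RR F).sroot i)) (by
      rw [← hw, show σ (σ⁻¹ ((RR F).sroot i)) = (RR F).sroot i from σ.apply_symm_apply _]; rfl)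
    rcases h with ⟨hA, hne', l', hl', hlt, e⟩ | ⟨hA, hne', l', hl', hlt, e⟩
    · refine ih hl' (fun r => ?_) (fun z => by rw [z] at hlt; simp at hlt) (by omega)
        (climb hF i (by rw [hw]; exact hA) hB' fun z => hne' ?_)
      · rw [Equiv.Perm.mul_apply, Equiv.Perm.mul_apply]
        show auxG2.w (i : ℕ) (σ ((RR F).wperm i r) : ℕ) = _
        rw [hw]
        show auxG2.w (i : ℕ) (wNum l (auxG2.w (i : ℕ) r)) = _
        exact (e r).symm
      · have := congrArg Fin.val z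
        rw [hw] at this
        exact this
    · refine ih hl' (fun r => ?_) (fun z => by rw [z] at hlt; simp at hlt) (by omega)
        (climb' hF i (by rw [hw]; exact hA) hB' fun z => hne' ?_)
      · rw [Equiv.Perm.mul_apply]
        show auxG2.w (i : ℕ) (σ r : ℕ) = _
        rw [hw]
        exact (e r).symm
      · have := congrArg Fin.val z
        rw [hw, neg_val] at this
        exact this

end CfsgLib.Known.SmallSquare.G2
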