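import Cfsg.Agent.Lib.Known.SmallSquare.G2Sigma

/-!
# Absorbing the radicals

A regular element of the Levi subgroup with irreducible characteristic polynomial fixes nothing in the two
radicals, so its class squared contains every `v * A * u` with a factorisable Levi part `A`.
-/

set_option autoImplicit false

namespace CfsgLib.Known.SmallSquare.G2

open Cfsg.Lie (ChevalleyDatum chevG2)
open CfsgLib.Lie.Chev CfsgLib.Known.G2Singer
open Matrix
open scoped MatrixGroups

universe u

variable {F : Type u} [Field F]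

/-- the companion element -/
noncomputable def yEl {t d : F} (h : Good t d) : GL (Fin 2) F :=
  GeneralLinearGroup.mkOfDetNeZero (comp2 t d) (by rw [Good.det_comp2]; exact h.d_ne)

theorem yEl_val {t d : F} (h : Good t d) : (yEl h).1 = comp2 t d := rfl

theorem eq_one_of_fixed {h : GG F} {a : Fin chevG2.nroots → F} (hm : (RR F).IsMon h 1 a)
    (hne : ∀ r : Fin chevG2.nroots, 6 ≤ (r : ℕ) → a r ≠ 1) {u : GG F} (hu : u ∈ (RR F).UP)
    (e : h * u * h⁻¹ = u) : u = 1 := by
  obtain ⟨t, ht⟩ := (RR F).exists_oprod_UP hu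
  have hn : chevG2.nroots = 12 := rfl
  have hhalf : half chevG2 = 6 := simple_one.2.2.2.1
  rw [hhalf] at ht
  subst ht
  let a' : ℕ → F := fun r => if hr : r < chevG2.nroots then a ⟨r, hr⟩ else 1
  have conj : h * (RR F).oprod 6 6 t * h⁻¹ = (RR F).oprod 6 6 fun r => a' r * t r := by
    show MulAut.conj h ((RR F).oprod 6 6 t) = _
    simp only [Rel.oprod, map_list_prod, List.map_map]
    refine congrArg List.prod (List.map_congr_left fun r hr => ?_)
    rw [List.mem_range'_1] at hr
    have hr' : r < chevG2.nroots := by omega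
    show h * (RR F).xe r (t r) * h⁻¹ = (RR F).xe r (a' r * t r)
    rw [show a' r = a ⟨r, hr'⟩ from dif_pos hr']
    exact (hm ⟨r, hr'⟩).2.2.2 (t r)
  rw [conj] at e
  have hz : ∀ r, 6 ≤ r → r < 6 + 6 → t r = 0 := by
    intro r h1 h2
    have k := (RR F).oprod_inj 6 6 _ t (le_of_eq hhalf) (le_of_eq hn.symm) (congrArg (RR F).θ e) r h1 h2
    have hr' : r < chevG2.nroots := by omega
    simp only [show a' r = a ⟨r, hr'⟩ from dif_pos hr'] at k
    by_contra h0
    exact hne ⟨r, hr'⟩ h1 (mul_right_cancel₀ h0 (k.trans (one_mul _).symm))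
  rw [(RR F).oprod_congr (t' := fun _ => 0) hz, Rel.oprod]
  refine List.prod_eq_one fun x hx => ?_
  obtain ⟨r, -, rfl⟩ := List.mem_map.1 hx
  exact (RR F).xe_zero r

theorem groupMap_US {K : Type*} [Field K] (j : F →+* K) {S : Set (Fin chevG2.nroots)} {g : GG F}
    (hg : g ∈ (RR F).US S) : ChevFixed.groupMap chevG2 j g ∈ (RR K).US S := by
  suffices h : (RR F).US S ≤ ((RR K).US S).comap (ChevFixed.groupMap chevG2 j) from h hg
  refine (RR F).US_le fun r hr s => ?_
  show ChevFixed.groupMap chevG2 j ((RR F).xe r s) ∈ (RR K).US S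
  rw [ChevFixed.groupMap_xe]
  exact (RR K).xe_mem_US hr _

theorem groupMap_lev {K : Type u} [Field K] (j : F →+* K) (A : GL (Fin 2) F) :
    ChevFixed.groupMap chevG2 j (lev A) = lev (GeneralLinearGroup.map j A) := by
  rw [lev_def, emb_map, lev_def]
  refine congrArg (emb K) (Subtype.ext ?_)
  show (blkMat A).map j = blkMat (GeneralLinearGroup.map j A)
  ext a b
  fin_cases a <;> fin_cases b <;> simp [blkMat, det_fin_two]

/-- no fixed points in the radicals -/
theorem fixed_trivial {t d : F} (h : Good t d) :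
    (∀ u ∈ U5 F, lev (yEl h) * u * (lev (yEl h))⁻¹ = u → u = 1) ∧
      ∀ v ∈ V5 F, lev (yEl h) * v * (lev (yEl h))⁻¹ = v → v = 1 := by
  let f : Polynomial F := Polynomial.X ^ 2 + Polynomial.C (-t) * Polynomial.X + Polynomial.C d
  have hdeg : f.natDegree = 2 := by
    simpa [f] using Polynomial.natDegree_quadratic (R := F) (a := 1) (b := -t) (c := d) one_ne_zero
  have hirr : Irreducible f := by
    refine Polynomial.irreducible_of_degree_le_three_of_not_isRoot (by rw [hdeg]; simp) fun a ha => h.irr a ?_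
    simp [f, Polynomial.IsRoot] at ha
    linear_combination ha
  have : Fact (Irreducible f) := ⟨hirr⟩
  let K := AdjoinRoot f
  let j : F →+* K := AdjoinRoot.of f
  let l : K := AdjoinRoot.root f
  let m : K := j t - l
  have hrel : l * m = j d := by
    have := AdjoinRoot.eval₂_root f
    simp [f] at this
    simp only [l, m, j]
    linear_combination -this
  have hnotin : ∀ a : F, j a ≠ l := by
    intro a ha
    refine h.irr a (j.injective ?_)
    rw [map_zero, map_add, map_sub, map_mul, map_pow, ← hrel, ha]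
    (try simp only [m]); ring
  have hnotin' : ∀ a : F, j a ≠ m := fun a ha => hnotin (t - a) (by rw [map_sub, ha]; (try simp only [m]); ring)
  have hlm : l ≠ m := by
    intro e
    have e2 : l * (2 : K) = j t := by
      have : l + l = j t := by nth_rewrite 2 [e]; simp only [m]; ring
      rw [← this]; ring
    by_cases h2 : (2 : F) = 0
    · rw [show (2 : K) = j 2 from (map_ofNat j 2).symm, h2, map_zero, mul_zero] at e2
      exact h.t_ne (j.injective (by rw [← e2, map_zero]))
    · refine hnotin (t / 2) ?_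
      rw [map_div₀, ← e2, map_ofNat, mul_div_cancel_right₀]
      rw [show (2 : K) = j 2 from (map_ofNat j 2).symm]
      exact fun z => h2 (j.injective (by rw [z, map_zero]))
  have hl0 : l ≠ 0 := fun z => hnotin 0 (by rw [map_zero, z])
  have hm0 : m ≠ 0 := fun z => hnotin' 0 (by rw [map_zero, z])
  let a : Kˣ := Units.mk0 l hl0
  let b : Kˣ := Units.mk0 m hm0
  have hne : ∀ r : Fin chevG2.nroots, 6 ≤ (r : ℕ) → rootWt (wd a b) r ≠ 1 := by
    intro r hr
    obtain ⟨w6, w7, w8, w9, w10, w11⟩ := wd_rootWt a b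
    obtain ⟨n, hn⟩ := r
    have hn' : n < 12 := hn
    simp only at hr
    interval_cases n
    · rw [w6]; intro z; exact hlm (div_eq_one_iff_eq hm0 |>.1 z)
    · rw [w7]; intro z; exact hnotin' 1 (by rw [map_one]; exact z.symm)
    · rw [w8]; intro z; exact hnotin 1 (by rw [map_one]; exact z.symm)
    · rw [w9]; intro z
      exact h.d_ne_one (j.injective (by rw [map_one, ← hrel]; exact z))
    · rw [w10]; intro z
      refine hnotin' d⁻¹ ?_
      rw [map_inv₀]
      exact (eq_inv_of_mul_eq_one_right (by rw [← hrel]; exact z)).symm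
    · rw [w11]; intro z
      refine hnotin d⁻¹ ?_
      rw [map_inv₀]
      refine (eq_inv_of_mul_eq_one_right (b := l) ?_).symm
      rw [← hrel]
      simp only [a, b, Units.val_mk0] at z
      exact (by linear_combination z : l * m * l = 1)
  -- diagonalisation
  let P : GL (Fin 2) K := GeneralLinearGroup.mkOfDetNeZero !![-m, -l; 1, 1] (by
    simp [det_fin_two]; intro z; exact hlm (by linear_combination z))
  let Q := GeneralLinearGroup.map j (yEl h)
  have hQ : Q = P * dg a b * P⁻¹ := by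
    rw [eq_mul_inv_iff_mul_eq]
    refine Units.ext ?_
    show (comp2 t d).map j * !![-m, -l; 1, 1] = !![-m, -l; 1, 1] * (dg a b).1
    rw [dg_val]
    ext i k
    fin_cases i <;> fin_cases k <;> simp [comp2, mul_apply, Fin.sum_univ_two, a, b] <;>
      first
        | linear_combination (hrel : l * m = j d)
        | (simp only [m]; ring)
  have hcomm : ∀ g : GG F, lev (yEl h) * g * (lev (yEl h))⁻¹ = g →
      lev (dg a b) * ((lev P)⁻¹ * ChevFixed.groupMap chevG2 j g * lev P) * (lev (dg a b))⁻¹ =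
        (lev P)⁻¹ * ChevFixed.groupMap chevG2 j g * lev P := by
    intro g e
    have e' := congrArg (ChevFixed.groupMap chevG2 j) e
    rw [map_mul, map_mul, map_inv, groupMap_lev, show GeneralLinearGroup.map j (yEl h) = P * dg a b * P⁻¹ from hQ,
      map_mul, map_mul, map_inv] at e'
    generalize ChevFixed.groupMap chevG2 j g = g' at e' ⊢
    conv_rhs => rw [← e']
    group
  constructor
  · intro u hu e
    have hu' : (lev P)⁻¹ * ChevFixed.groupMap chevG2 j u * lev P ∈ U5 K := lev_U5' P (groupMap_US j hu)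
    have h1 := eq_one_of_fixed (lev_dg_mon a b) hne (U5_le_UP hu') (hcomm u e)
    refine ChevFixed.groupMap_injective j ?_
    rw [map_one]
    calc ChevFixed.groupMap chevG2 j u = lev P * ((lev P)⁻¹ * ChevFixed.groupMap chevG2 j u * lev P) * (lev P)⁻¹ := by
          group
      _ = 1 := by rw [h1]; group
  · intro v hv e
    have hv' : (lev P)⁻¹ * ChevFixed.groupMap chevG2 j v * lev P ∈ V5 K := lev_V5' P (groupMap_US j hv)
    obtain ⟨w, hw⟩ : ∃ w, w = (lev P)⁻¹ * ChevFixed.groupMap chevG2 j v * lev P := ⟨_, rfl⟩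
    have hc := hcomm v e
    rw [← hw] at hv' hc
    obtain ⟨σ, c, h1, h2⟩ := n0_mon (F := K)
    have hm' := (RR K).isMon_mul ((RR K).isMon_mul ((RR K).isMon_inv h1) (lev_dg_mon a b)) h1
    have hp : σ⁻¹ * 1 * σ = 1 := by rw [mul_one, inv_mul_cancel]
    rw [hp] at hm'
    have h3 : ((n0 K)⁻¹ * w * n0 K) = 1 := by
      refine eq_one_of_fixed hm' (fun r hr => ?_) (U5_le_UP (n0_V5 hv')) ?_
      · simp only [Equiv.Perm.one_apply]
        rw [show σ⁻¹ (σ r) = r from σ.symm_apply_apply r]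
        have hσ : σ r = (RR K).negF r := Fin.ext (by rw [h2, neg_val])
        rw [hσ, (lev_dg_mon a b r).2.1, show (c r)⁻¹ * (rootWt (wd a b) r)⁻¹ * c r = (rootWt (wd a b) r)⁻¹ by
          rw [mul_right_comm, inv_mul_cancel₀ (h1 r).1, one_mul], ne_eq, inv_eq_one]
        exact hne r hr
      · conv_rhs => rw [← hc]
        group
    refine ChevFixed.groupMap_injective j ?_
    rw [map_one]
    calc ChevFixed.groupMap chevG2 j v = lev P * w * (lev P)⁻¹ := by rw [hw]; group
      _ = lev P * (n0 K * ((n0 K)⁻¹ * w * n0 K) * (n0 K)⁻¹) * (lev P)⁻¹ := by group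
      _ = 1 := by rw [h3]; group

variable [Fintype F]

theorem conj_right {t d : F} (h : Good t d) {u : GG F} (hu : u ∈ U5 F) :
    ∃ z : GG F, z * lev (yEl h) * z⁻¹ = lev (yEl h) * u := by
  have : Finite (GG F) := (RR F).Finite_of_field
  let f : U5 F → U5 F := fun z =>
    ⟨(lev (yEl h))⁻¹ * z * lev (yEl h) * (z : GG F)⁻¹, mul_mem (lev_U5' _ z.2) (inv_mem z.2)⟩
  have hf : Function.Injective f := by
    intro z w e
    have e' : (lev (yEl h))⁻¹ * z * lev (yEl h) * (z : GG F)⁻¹ = (lev (yEl h))⁻¹ * w * lev (yEl h) * (w : GG F)⁻¹ :=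
      congrArg Subtype.val e
    refine Subtype.ext (inv_mul_eq_one.1 ((fixed_trivial h).1 _ (mul_mem (inv_mem w.2) z.2) ?_)).symm
    have e'' : (z : GG F) * lev (yEl h) * (z : GG F)⁻¹ = (w : GG F) * lev (yEl h) * (w : GG F)⁻¹ := by
      refine mul_left_cancel (a := (lev (yEl h))⁻¹) ?_
      simpa [mul_assoc] using e'
    calc lev (yEl h) * ((w : GG F)⁻¹ * z) * (lev (yEl h))⁻¹
        = (w : GG F)⁻¹ * ((w : GG F) * lev (yEl h) * (w : GG F)⁻¹) * z * (lev (yEl h))⁻¹ := by group
      _ = (w : GG F)⁻¹ * ((z : GG F) * lev (yEl h) * (z : GG F)⁻¹) * z * (lev (yEl h))⁻¹ := by rw [e'']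
      _ = _ := by group
  obtain ⟨z, hz⟩ := Finite.surjective_of_injective hf ⟨u, hu⟩
  refine ⟨z, ?_⟩
  have hz' : (lev (yEl h))⁻¹ * z * lev (yEl h) * (z : GG F)⁻¹ = u := congrArg Subtype.val hz
  rw [← hz']
  group

theorem conj_left {t d : F} (h : Good t d) {v : GG F} (hv : v ∈ V5 F) :
    ∃ z : GG F, z * lev (yEl h) * z⁻¹ = v * lev (yEl h) := by
  have : Finite (GG F) := (RR F).Finite_of_field
  let f : V5 F → V5 F := fun z =>
    ⟨(z : GG F) * (lev (yEl h) * (z : GG F)⁻¹ * (lev (yEl h))⁻¹), mul_mem z.2 (lev_V5 _ (inv_mem z.2))⟩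
  have hf : Function.Injective f := by
    intro z w e
    have e' : (z : GG F) * (lev (yEl h) * (z : GG F)⁻¹ * (lev (yEl h))⁻¹) =
        (w : GG F) * (lev (yEl h) * (w : GG F)⁻¹ * (lev (yEl h))⁻¹) := congrArg Subtype.val e
    refine Subtype.ext (inv_mul_eq_one.1 ((fixed_trivial h).2 _ (mul_mem (inv_mem w.2) z.2) ?_)).symm
    calc lev (yEl h) * ((w : GG F)⁻¹ * z) * (lev (yEl h))⁻¹
        = (w : GG F)⁻¹ * ((w : GG F) * (lev (yEl h) * (w : GG F)⁻¹ * (lev (yEl h))⁻¹)) * lev (yEl h) * z *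
          (lev (yEl h))⁻¹ := by group
      _ = (w : GG F)⁻¹ * ((z : GG F) * (lev (yEl h) * (z : GG F)⁻¹ * (lev (yEl h))⁻¹)) * lev (yEl h) * z *
          (lev (yEl h))⁻¹ := by rw [e']
      _ = _ := by group
  obtain ⟨z, hz⟩ := Finite.surjective_of_injective hf ⟨v, hv⟩
  refine ⟨z, ?_⟩
  have hz' : (z : GG F) * (lev (yEl h) * (z : GG F)⁻¹ * (lev (yEl h))⁻¹) = v := congrArg Subtype.val hz
  rw [← hz']
  group

/-- products of two conjugates of the chosen element -/
def IsSq {t d : F} (h : Good t d) (g : GG F) : Prop :=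
  ∃ u v : GG F, g = (u * lev (yEl h) * u⁻¹) * (v * lev (yEl h) * v⁻¹)

omit [Fintype F] in
theorem IsSq.conj {t d : F} {h : Good t d} {g : GG F} (z : GG F) (hg : IsSq h (z * g * z⁻¹)) : IsSq h g := by
  obtain ⟨u, v, e⟩ := hg
  refine ⟨z⁻¹ * u, z⁻¹ * v, ?_⟩
  calc g = z⁻¹ * (z * g * z⁻¹) * z := by group
    _ = _ := by rw [e]; group

/-- a factorisable Levi part -/
def OKMat (d : F) (M : M2 F) : Prop :=
  M.det = d ^ 2 ∧ (M = d • 1 ∨ ((¬ ∃ c : F, M = c • 1) ∧ M.trace ≠ 2 * d))

theorem isSq_cell {t d : F} (h : Good t d) {A : GL (Fin 2) F} (hA : OKMat d A.1) {v u : GG F}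
    (hv : v ∈ V5 F) (hu : u ∈ U5 F) : IsSq h (v * lev A * u) := by
  obtain ⟨P, Q, e⟩ := h.exists_factor A.1 hA.1 hA.2
  have hA' : A = P * yEl h * P⁻¹ * (Q * yEl h * Q⁻¹) :=
    Units.ext (by simp only [Units.val_mul, yEl_val]; exact e)
  obtain ⟨z, hz⟩ := conj_left h (lev_V5' P hv)
  obtain ⟨w, hw⟩ := conj_right h (lev_U5' Q hu)
  refine ⟨lev P * z, lev Q * w, ?_⟩
  rw [show lev P * z * lev (yEl h) * (lev P * z)⁻¹ = lev P * (z * lev (yEl h) * z⁻¹) * (lev P)⁻¹ by group,
    show lev Q * w * lev (yEl h) * (lev Q * w)⁻¹ = lev Q * (w * lev (yEl h) * w⁻¹) * (lev Q)⁻¹ by group, hz, hw, hA']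
  simp only [map_mul, map_inv]
  group

end CfsgLib.Known.SmallSquare.G2
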