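import Cfsg.Agent.Lib.Known.G2Singer.Torus
import Cfsg.Agent.Lib.Known.ClassSquare.ChevSys
import Cfsg.Agent.Lib.Lie.Chev.Data.CertG2
import Cfsg.Agent.Lib.Lie.Rel.BN
import Cfsg.Agent.Lib.Lie.Rel.SL2
import Cfsg.Agent.Lib.Known.SmallSquare.Target

/-!
# The Levi subgroup of the long root parabolic of `G₂`

The general linear group of degree two embedded through the long root `SL(3)`, the two unipotent radicals it
normalises, and the opposite Weyl element.
-/

set_option autoImplicit false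

namespace CfsgLib.Known.SmallSquare.G2

open Cfsg.Lie (ChevalleyDatum chevG2)
open CfsgLib.Lie.Chev CfsgLib.Known.G2Singer
open Matrix
open scoped MatrixGroups

universe u

variable {F : Type u} [Field F]

/-- two by two matrices -/
abbrev M2 (F : Type u) : Type u := Matrix (Fin 2) (Fin 2) F

/-- the block matrix -/
def blkMat (A : GL (Fin 2) F) : Matrix (Fin 3) (Fin 3) F :=
  !![A.1 0 0, A.1 0 1, 0; A.1 1 0, A.1 1 1, 0; 0, 0, (A.1.det)⁻¹]

theorem det_blkMat (A : GL (Fin 2) F) : (blkMat A).det = 1 := by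
  have h : A.1.det ≠ 0 := A.det_ne_zero
  rw [det_fin_two] at h
  simp [blkMat, Matrix.det_fin_three, det_fin_two]
  field_simp

/-- the block embedding -/
noncomputable def blk : GL (Fin 2) F →* SL(3, F) where
  toFun A := ⟨blkMat A, det_blkMat A⟩
  map_one' := Subtype.ext (by ext i j; fin_cases i <;> fin_cases j <;> simp [blkMat])
  map_mul' A B := Subtype.ext (by
    show blkMat (A * B) = blkMat A * blkMat B
    have : (A * B).1.det = A.1.det * B.1.det := by rw [Units.val_mul, det_mul]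
    ext i j
    fin_cases i <;> fin_cases j <;>
      simp [blkMat, mul_apply, Fin.sum_univ_three, Fin.sum_univ_two] <;> ring)

/-- the Levi map -/
noncomputable def lev : GL (Fin 2) F →* GG F := (emb F).comp blk

theorem lev_def (A : GL (Fin 2) F) : lev A = emb F (blk A) := rfl

theorem emb_tv {i j : Fin 3} (h : i ≠ j) (t : F) :
    emb F (Matrix.SpecialLinearGroup.transvection h t) = (RR F).xe (rootOf i j) t :=
  Subtype.ext (Units.ext ((emb_mat _).trans (phiM_transvection h t)))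

/-- upper transvection -/
def T01 (t : F) : GL (Fin 2) F := Matrix.GeneralLinearGroup.mkOfDetNeZero !![1, t; 0, 1] (by simp [det_fin_two])

/-- lower transvection -/
def T10 (t : F) : GL (Fin 2) F := Matrix.GeneralLinearGroup.mkOfDetNeZero !![1, 0; t, 1] (by simp [det_fin_two])

/-- diagonal element -/
def dg (a b : Fˣ) : GL (Fin 2) F :=
  Matrix.GeneralLinearGroup.mkOfDetNeZero !![(a : F), 0; 0, (b : F)] (by simp [det_fin_two])

theorem T01_val (t : F) : (T01 t).1 = !![1, t; 0, 1] := rfl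
theorem T10_val (t : F) : (T10 t).1 = !![1, 0; t, 1] := rfl
theorem dg_val (a b : Fˣ) : (dg a b).1 = !![(a : F), 0; 0, (b : F)] := rfl

theorem lev_T01 (t : F) : lev (T01 t) = (RR F).xe 6 t := by
  rw [lev_def, show blk (T01 t) = Matrix.SpecialLinearGroup.transvection (show (0 : Fin 3) ≠ 1 by decide) t from
    Subtype.ext (by
      show blkMat (T01 t) = Matrix.transvection 0 1 t
      ext i j; fin_cases i <;> fin_cases j <;>
        simp [blkMat, T01_val, det_fin_two, Matrix.transvection, Matrix.single]), emb_tv]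
  rfl

theorem lev_T10 (t : F) : lev (T10 t) = (RR F).xe 5 t := by
  rw [lev_def, show blk (T10 t) = Matrix.SpecialLinearGroup.transvection (show (1 : Fin 3) ≠ 0 by decide) t from
    Subtype.ext (by
      show blkMat (T10 t) = Matrix.transvection 1 0 t
      ext i j; fin_cases i <;> fin_cases j <;>
        simp [blkMat, T10_val, det_fin_two, Matrix.transvection, Matrix.single]), emb_tv]
  rfl

/-- the weights of a diagonal Levi element -/
def wd (a b : Fˣ) : Fin 3 → F := ![(a : F), (b : F), ((a : F) * b)⁻¹]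

theorem blk_dg (a b : Fˣ) : (blk (dg a b) : Matrix (Fin 3) (Fin 3) F) = diagonal (wd a b) := by
  show blkMat (dg a b) = _
  ext i j; fin_cases i <;> fin_cases j <;> simp [blkMat, dg_val, det_fin_two, wd, mul_comm]

theorem lev_dg_mem (a b : Fˣ) : lev (dg a b) ∈ (RR F).HS := diag_mem_HS (blk_dg a b)

theorem lev_dg_mon (a b : Fˣ) : (RR F).IsMon (lev (dg a b)) 1 (rootWt (wd a b)) := isMon_diag (blk_dg a b)

theorem wd_rootWt (a b : Fˣ) :
    rootWt (wd a b) ⟨6, by decide⟩ = (a : F) / b ∧ rootWt (wd a b) ⟨7, by decide⟩ = (b : F) ∧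
    rootWt (wd a b) ⟨8, by decide⟩ = (a : F) ∧ rootWt (wd a b) ⟨9, by decide⟩ = (a : F) * b ∧
    rootWt (wd a b) ⟨10, by decide⟩ = (a : F) * b * b ∧ rootWt (wd a b) ⟨11, by decide⟩ = (a : F) * a * b := by
  have ha := a.ne_zero
  have hb := b.ne_zero
  simp [rootWt, wts, wd]
  and_intros <;> field_simp

theorem exists_dg {h : GG F} (hh : h ∈ (RR F).HS) : ∃ a b : Fˣ, h = lev (dg a b) := by
  obtain ⟨d, g, hg, rfl⟩ := exists_diag_of_mem_HS hh
  have hd : d 0 * d 1 * d 2 = 1 := by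
    have := g.2; rw [hg, Matrix.det_diagonal, Fin.prod_univ_three] at this; exact this
  have h0 : d 0 ≠ 0 := fun h => by simp [h] at hd
  have h1 : d 1 ≠ 0 := fun h => by simp [h] at hd
  refine ⟨Units.mk0 _ h0, Units.mk0 _ h1, congrArg (emb F) (Subtype.ext ?_)⟩
  rw [hg, blk_dg]
  have h2 : d 2 = (d 0 * d 1)⁻¹ := eq_inv_of_mul_eq_one_right hd
  congr 1
  funext i; fin_cases i <;> simp [wd, h2, mul_comm]

theorem HS_ext {g h : GG F} (hg : g ∈ (RR F).HS) (hh : h ∈ (RR F).HS) {a : Fin chevG2.nroots → F}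
    (ha : (RR F).IsMon g 1 a) (hb : (RR F).IsMon h 1 a) : g = h := by
  refine mul_inv_eq_one.1 (chevRel_injective certG2 F ?_)
  rw [map_one]
  refine (RR F).θ_eq_one_of_char (mul_mem hg (inv_mem hh)) fun c hc r => ?_
  have h1 := (RR F).isMon_mul ha ((RR F).isMon_inv hb)
  rw [inv_one, mul_one] at h1
  rw [((RR F).isMon_unique hc h1).2]
  exact mul_inv_cancel₀ (ha r).1

/-- induction over the general linear group -/
theorem gl_induction {p : GL (Fin 2) F → Prop} (hd : ∀ a b, p (dg a b)) (h01 : ∀ t, p (T01 t))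
    (h10 : ∀ t, p (T10 t)) (hm : ∀ A B, p A → p B → p (A * B)) (A : GL (Fin 2) F) : p A := by
  suffices h : ∀ hA : A.1.det ≠ 0, p (Matrix.GeneralLinearGroup.mkOfDetNeZero A.1 hA) by
    have h' := h A.det_ne_zero
    rwa [show Matrix.GeneralLinearGroup.mkOfDetNeZero A.1 A.det_ne_zero = A from Units.ext rfl] at h'
  refine Matrix.diagonal_transvection_induction_of_det_ne_zero
    (fun M => ∀ hM : M.det ≠ 0, p (Matrix.GeneralLinearGroup.mkOfDetNeZero M hM)) A.1 A.det_ne_zero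
    (fun D _ hD => ?_) (fun t hM => ?_) (fun M N hM hN pM pN h => ?_)
  · have h0 : D 0 ≠ 0 := fun e => by simp [e] at hD
    have h1 : D 1 ≠ 0 := fun e => by simp [e] at hD
    convert hd (Units.mk0 _ h0) (Units.mk0 _ h1) using 1
    refine Units.ext ?_
    show diagonal D = _
    rw [dg_val]; ext i j; fin_cases i <;> fin_cases j <;> simp
  · obtain ⟨i, j, hij, c⟩ := t
    fin_cases i <;> fin_cases j
    · exact absurd rfl hij
    · convert h01 c using 1
      refine Units.ext ?_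
      show Matrix.transvection 0 1 c = _
      rw [T01_val]; ext i j; fin_cases i <;> fin_cases j <;> simp [Matrix.transvection, Matrix.single]
    · convert h10 c using 1
      refine Units.ext ?_
      show Matrix.transvection 1 0 c = _
      rw [T10_val]; ext i j; fin_cases i <;> fin_cases j <;> simp [Matrix.transvection, Matrix.single]
    · exact absurd rfl hij
  · convert hm _ _ (pM hM) (pN hN) using 1
    exact Units.ext rfl

/-- the long simple root -/
def i1 : Fin chevG2.rank := ⟨1, by decide⟩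

/-- the short simple root -/
def i0 : Fin chevG2.rank := ⟨0, by decide⟩

/-- a root by its number -/
abbrev rt (n : ℕ) (h : n < 12 := by decide) : Fin chevG2.nroots := ⟨n, h⟩

/-- the upper radical -/
noncomputable def U5 (F : Type u) [Field F] : Subgroup (GG F) := (RR F).US ((RR F).restSet i1)

/-- the lower radical -/
noncomputable def V5 (F : Type u) [Field F] : Subgroup (GG F) :=
  (RR F).US (ClassSquare.Chev.negRest (RR F) i1)

theorem simple_one : chevG2.simple 1 = 6 ∧ chevG2.neg 6 = 5 ∧ chevG2.simple 0 = 7 ∧ half chevG2 = 6 ∧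
    ∀ r : Fin 12, chevG2.neg r = 11 - r := by decide +kernel

theorem neg_val (r : Fin chevG2.nroots) : ((RR F).negF r : ℕ) = 11 - (r : ℕ) := simple_one.2.2.2.2 r

theorem mem_rest {r : Fin chevG2.nroots} : r ∈ (RR F).restSet i1 ↔ 7 ≤ (r : ℕ) := by
  show half chevG2 ≤ (r : ℕ) ∧ r ≠ _ ↔ _
  rw [simple_one.2.2.2.1, ne_eq, Fin.ext_iff, show (((RR F).sroot i1 : Fin _) : ℕ) = 6 from simple_one.1]
  omega

theorem mem_negRest {r : Fin chevG2.nroots} : r ∈ ClassSquare.Chev.negRest (RR F) i1 ↔ (r : ℕ) ≤ 4 := by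
  show (RR F).negF r ∈ (RR F).restSet i1 ↔ _
  rw [mem_rest, neg_val]
  omega

theorem xe_U5 (n : ℕ) (h : n < 12) (h7 : 7 ≤ n) (t : F) : (RR F).xe n t ∈ U5 F :=
  (RR F).xe_mem_US (r := ⟨n, h⟩) (mem_rest.2 h7) t

theorem xe_V5 (n : ℕ) (h : n ≤ 4) (t : F) : (RR F).xe n t ∈ V5 F :=
  (RR F).xe_mem_US (r := ⟨n, lt_of_le_of_lt h (by decide : 4 < chevG2.nroots)⟩) (mem_negRest.2 h) t

theorem U5_le_UP : U5 F ≤ (RR F).UP := (RR F).US_mono ((RR F).restSet_subset i1)

theorem lev_normalizer (A : GL (Fin 2) F) :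
    lev A ∈ Subgroup.normalizer (U5 F : Set (GG F)) ⊓ Subgroup.normalizer (V5 F : Set (GG F)) := by
  induction A using gl_induction with
  | hd a b => exact ⟨(RR F).HS_le_normalizer_US _ (lev_dg_mem a b), (RR F).HS_le_normalizer_US _ (lev_dg_mem a b)⟩
  | h01 t =>
    rw [lev_T01]
    exact ⟨((RR F).xe_simple_mem_normalizer i1 t).1, (ClassSquare.Chev.negRest_normalizer (RR F) i1 t).1⟩
  | h10 t =>
    rw [lev_T10]
    exact ⟨((RR F).xe_simple_mem_normalizer i1 t).2, (ClassSquare.Chev.negRest_normalizer (RR F) i1 t).2⟩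
  | hm A B hA hB => rw [map_mul]; exact mul_mem hA hB

theorem lev_U5 (A : GL (Fin 2) F) {u : GG F} (hu : u ∈ U5 F) : lev A * u * (lev A)⁻¹ ∈ U5 F :=
  (Subgroup.mem_normalizer_iff.1 (lev_normalizer A).1 u).1 hu

theorem lev_V5 (A : GL (Fin 2) F) {v : GG F} (hv : v ∈ V5 F) : lev A * v * (lev A)⁻¹ ∈ V5 F :=
  (Subgroup.mem_normalizer_iff.1 (lev_normalizer A).2 v).1 hv

theorem lev_U5' (A : GL (Fin 2) F) {u : GG F} (hu : u ∈ U5 F) : (lev A)⁻¹ * u * lev A ∈ U5 F := by
  have := lev_U5 A⁻¹ hu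
  rwa [map_inv, inv_inv] at this

theorem lev_V5' (A : GL (Fin 2) F) {v : GG F} (hv : v ∈ V5 F) : (lev A)⁻¹ * v * lev A ∈ V5 F := by
  have := lev_V5 A⁻¹ hv
  rwa [map_inv, inv_inv] at this

/-- elements of the Borel subgroup are Levi times radical -/
theorem exists_of_BS {g : GG F} (hg : g ∈ (RR F).BS) :
    ∃ (a b : Fˣ) (t : F), ∃ u ∈ U5 F, g = lev (T01 t * dg a b) * u := by
  obtain ⟨p, hp, h, hh, rfl⟩ := (RR F).exists_of_mem_BS hg
  obtain ⟨v, hv, t, rfl⟩ := (RR F).exists_UP_split i1 hp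
  obtain ⟨a, b, rfl⟩ := exists_dg hh
  refine ⟨a, b, t, _, lev_U5' (T01 t * dg a b) hv, ?_⟩
  have e : (RR F).xe (chevG2.simple (i1 : ℕ)) t = (RR F).xe 6 t := by
    rw [show chevG2.simple (i1 : ℕ) = 6 from simple_one.1]
  rw [map_mul, lev_T01, e]
  group

/-! ### monomial elements -/

/-- the reflection element of a root in the orbit of a simple root -/
theorem exists_mon_ne {g : GG F} {σ : Equiv.Perm (Fin chevG2.nroots)} {a : Fin chevG2.nroots → F}
    (hg : (RR F).IsMon g σ a) (i : Fin chevG2.rank) {r : Fin chevG2.nroots} (hr : σ ((RR F).sroot i) = r)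
    {c : F} (hc : c ≠ 0) : ∃ b, (RR F).IsMon ((RR F).ne r c) (σ * (RR F).wperm i * σ⁻¹) b := by
  have h0 := (hg ((RR F).sroot i)).1
  have h1 := Rel.IsMon.conj_ne (RR F) hg ((RR F).sroot i) (c / a ((RR F).sroot i))
  rw [hr, mul_div_cancel₀ _ h0] at h1
  rw [← h1]
  exact ⟨_, (RR F).isMon_mul ((RR F).isMon_mul hg ((RR F).isMon_ne_simple i (div_ne_zero hc h0)))
    ((RR F).isMon_inv hg)⟩

theorem wperm_inv (i : Fin chevG2.rank) : ((RR F).wperm i)⁻¹ = (RR F).wperm i :=
  inv_eq_of_mul_eq_one_right ((RR F).wperm_mul_self i)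

/-- the permutation of a list of simple reflections -/
def wNum : List ℕ → ℕ → ℕ
  | [], r => r
  | i :: l, r => auxG2.w i (wNum l r)

/-- the monomial element of a word -/
noncomputable def wEl (F : Type u) [Field F] (l : List (Fin chevG2.rank)) : GG F :=
  (l.map fun i => (RR F).ne (chevG2.simple i) 1).prod

theorem wEl_mon (l : List (Fin chevG2.rank)) :
    ∃ σ a, (RR F).IsMon (wEl F l) σ a ∧ ∀ r : Fin chevG2.nroots, (σ r : ℕ) = wNum (l.map (↑)) r := by
  induction l with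
  | nil => exact ⟨1, _, (RR F).isMon_one, fun r => rfl⟩
  | cons i l ih =>
    obtain ⟨σ, a, h1, h2⟩ := ih
    refine ⟨_, _, (RR F).isMon_mul ((RR F).isMon_ne_simple i one_ne_zero) h1, fun r => ?_⟩
    rw [Equiv.Perm.mul_apply, Rel.wperm_apply, h2]
    rfl

theorem ne_mon_num (l : List (Fin chevG2.rank)) (i : Fin chevG2.rank) {r : Fin chevG2.nroots}
    (hr : wNum (l.map (↑)) (chevG2.simple i) = r) {c : F} (hc : c ≠ 0) :
    ∃ σ b, (RR F).IsMon ((RR F).ne r c) σ b ∧
      ∀ s : Fin chevG2.nroots, (σ s : ℕ) = wNum ((l.map (↑)) ++ (i : ℕ) :: (l.map (↑)).reverse) s := by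
  obtain ⟨σ, a, h1, h2⟩ := wEl_mon (F := F) l
  obtain ⟨b, hb⟩ := exists_mon_ne h1 i (r := r) (Fin.ext (by rw [h2]; exact hr)) hc
  refine ⟨_, b, hb, ?_⟩
  have hinv : ∀ (m : List (Fin chevG2.rank)) (τ : Equiv.Perm (Fin chevG2.nroots)),
      (∀ s, (τ s : ℕ) = wNum (m.map (↑)) s) → ∀ s, (τ⁻¹ s : ℕ) = wNum (m.map (↑)).reverse s := by
    intro m
    induction m with
    | nil =>
      intro τ hτ s
      have : τ = 1 := Equiv.ext fun x => Fin.ext (hτ x)
      rw [this, inv_one]; rfl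
    | cons j m ih =>
      intro τ hτ s
      have h := ih ((RR F).wperm j * τ) (fun x => by
        rw [Equiv.Perm.mul_apply, Rel.wperm_apply, hτ x]
        obtain ⟨σ', a', h1', h2'⟩ := wEl_mon (F := F) m
        exact certG2.w_w j.2 ((h2' x).symm ▸ (σ' x).2 : wNum (m.map (↑)) x < chevG2.nroots))
      have e : τ⁻¹ s = ((RR F).wperm j * τ)⁻¹ ((RR F).wperm j s) := by
        rw [_root_.mul_inv_rev, wperm_inv, Equiv.Perm.mul_apply, ← Equiv.Perm.mul_apply ((RR F).wperm j),
          (RR F).wperm_mul_self, Equiv.Perm.one_apply]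
      rw [e, h, List.map_cons, List.reverse_cons, Rel.wperm_apply]
      have : ∀ (p : List ℕ) (k : ℕ) (x : ℕ), wNum (p ++ [k]) x = wNum p (auxG2.w k x) := by
        intro p k x
        induction p with
        | nil => rfl
        | cons q p ihp => simp [wNum, ihp]
      rw [this]
  intro s
  have happ : ∀ (p q : List ℕ) (x : ℕ), wNum (p ++ q) x = wNum p (wNum q x) := by
    intro p q x
    induction p with
    | nil => rfl
    | cons j p ihp => simp [wNum, ihp]
  rw [Equiv.Perm.mul_apply, Equiv.Perm.mul_apply, h2, Rel.wperm_apply, hinv l σ h2, happ]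
  rfl

theorem num_facts : wNum [1, 0] (chevG2.simple 1) = 11 ∧ wNum [0, 1] (chevG2.simple 0) = 9 ∧
    (∀ r : Fin 12, wNum [0] (wNum [1, 0, 1, 0, 1] r) = 11 - r) ∧
    (∀ r : Fin 12, wNum [0, 1, 0, 1, 0] (wNum [0] (wNum [1, 0, 1, 0, 1] r)) = wNum [1] r) ∧
    auxG2.w 0 11 = 11 ∧ auxG2.w 0 0 = 0 ∧ wNum [1, 0, 1, 0, 1] 4 = 4 := by decide +kernel

/-- the opposite element -/
noncomputable def n0 (F : Type u) [Field F] : GG F := (RR F).ne 7 1 * (RR F).ne 11 1

theorem n0_mem : n0 F ∈ (RR F).NS :=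
  mul_mem ((RR F).ne_mem (rt 7) one_ne_zero) ((RR F).ne_mem (rt 11) one_ne_zero)

theorem n0_mon : ∃ σ a, (RR F).IsMon (n0 F) σ a ∧ ∀ r : Fin chevG2.nroots, (σ r : ℕ) = 11 - (r : ℕ) := by
  obtain ⟨σ, b, h1, h2⟩ := ne_mon_num [i1, i0] i1 (r := rt 11) num_facts.1 (one_ne_zero (α := F))
  refine ⟨_, _, (RR F).isMon_mul ((RR F).isMon_ne_simple i0 one_ne_zero) h1, fun r => ?_⟩
  rw [Equiv.Perm.mul_apply, Rel.wperm_apply, h2]
  exact num_facts.2.2.1 r

theorem n0_inv_mon : ∃ σ a, (RR F).IsMon (n0 F)⁻¹ σ a ∧ ∀ r : Fin chevG2.nroots, (σ r : ℕ) = 11 - (r : ℕ) := by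
  obtain ⟨σ, a, h1, h2⟩ := n0_mon (F := F)
  refine ⟨_, _, (RR F).isMon_inv h1, fun r => ?_⟩
  have h := h2 (σ⁻¹ r)
  rw [show σ (σ⁻¹ r) = r from σ.apply_symm_apply r] at h
  have : (σ⁻¹ r : ℕ) < 12 := (σ⁻¹ r).2
  omega

theorem n0_V5 {v : GG F} (hv : v ∈ V5 F) : (n0 F)⁻¹ * v * n0 F ∈ U5 F := by
  obtain ⟨σ, a, h1, h2⟩ := n0_inv_mon (F := F)
  have h := Rel.IsMon.conj_mem_US (RR F) h1 (T := (RR F).restSet i1) (fun r hr => mem_rest.2 (by
    rw [h2]; have := mem_negRest.1 hr; omega)) hv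
  rwa [inv_inv] at h

end CfsgLib.Known.SmallSquare.G2
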