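import Cfsg.Agent.Lib.Known.SmallSquare.G2Bruhat

/-!
# Both terminal cells meet the square of the class
-/

set_option autoImplicit false

namespace CfsgLib.Known.SmallSquare.G2

open Cfsg.Lie (ChevalleyDatum chevG2)
open CfsgLib.Lie.Chev CfsgLib.Known.G2Singer
open Matrix
open scoped MatrixGroups

universe u

variable {F : Type u} [Field F]

theorem HS_of_perm {n k : GG F} (hn : n ∈ (RR F).NS) (hk : k ∈ (RR F).NS) {σ τ : Equiv.Perm (Fin chevG2.nroots)}
    {a c : Fin chevG2.nroots → F} (hna : (RR F).IsMon n σ a) (hkc : (RR F).IsMon k τ c)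
    (e : ∀ r, (σ r : ℕ) = (τ r : ℕ)) : n * k⁻¹ ∈ (RR F).HS := by
  have hm := (RR F).isMon_mul hna ((RR F).isMon_inv hkc)
  rw [show σ = τ from Equiv.ext fun r => Fin.ext (e r), mul_inv_cancel] at hm
  obtain ⟨g, hg⟩ : ∃ g : (RR F).NS, (g : GG F) = n * k⁻¹ := ⟨⟨_, mul_mem hn (inv_mem hk)⟩, rfl⟩
  rw [← hg] at hm ⊢
  exact (RR F).mem_HS_of_nsPerm ((RR F).nsPerm_eq hm)

theorem ne_six_lev : (RR F).ne 6 1 = lev (T01 1 * T10 (-1) * T01 1) := by
  rw [map_mul, map_mul, lev_T01, lev_T10]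
  show (RR F).xe 6 1 * (RR F).xe (chevG2.neg 6) (-1⁻¹) * (RR F).xe 6 1 = _
  rw [simple_one.2.1, inv_one]

theorem far_form {g : GG F} {τ : Equiv.Perm (Fin chevG2.nroots)} (hF : Form g τ)
    (hτ : (∀ r, (τ r : ℕ) = 11 - (r : ℕ)) ∨ ∀ r : Fin chevG2.nroots, (τ r : ℕ) = auxG2.w 1 (11 - r)) :
    ∃ (A : GL (Fin 2) F) (u : GG F), u ∈ U5 F ∧ ∃ z : GG F, z * g * z⁻¹ = n0 F * lev A * u := by
  obtain ⟨b, hb, n, hn, z, e⟩ := hF
  obtain ⟨a, ha⟩ := (RR F).isMon_nsPerm n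
  rw [hn] at ha
  obtain ⟨σ0, a0, h0, h0'⟩ := n0_mon (F := F)
  obtain ⟨C, hC⟩ : ∃ C : GL (Fin 2) F, (n : GG F) = lev C * n0 F := by
    rcases hτ with h | h
    · obtain ⟨x, y, hxy⟩ := exists_dg (HS_of_perm n.2 n0_mem ha h0 fun r => (h r).trans (h0' r).symm)
      exact ⟨dg x y, eq_mul_of_mul_inv_eq hxy⟩
    · obtain ⟨a6, h6⟩ := (simple_mon (one_ne_zero (α := F))).2
      have hk : (RR F).ne 6 1 * n0 F ∈ (RR F).NS := mul_mem ((RR F).ne_mem (rt 6) one_ne_zero) n0_mem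
      obtain ⟨x, y, hxy⟩ := exists_dg (HS_of_perm n.2 hk ha ((RR F).isMon_mul h6 h0) fun r => by
        rw [h r, Equiv.Perm.mul_apply]
        show _ = auxG2.w 1 (σ0 r : ℕ)
        rw [h0'])
      refine ⟨dg x y * (T01 1 * T10 (-1) * T01 1), ?_⟩
      rw [eq_mul_of_mul_inv_eq hxy, map_mul lev, ← ne_six_lev, mul_assoc]
  obtain ⟨x, y, t, u, hu, rfl⟩ := exists_of_BS hb
  refine ⟨T01 t * dg x y * C, _, lev_U5' C hu, n0 F * z, ?_⟩
  rw [show n0 F * z * g * (n0 F * z)⁻¹ = n0 F * (z * g * z⁻¹) * (n0 F)⁻¹ by group, e, hC,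
    map_mul lev (T01 t * dg x y) C]
  group

theorem mid_form {g : GG F} {τ : Equiv.Perm (Fin chevG2.nroots)} (hF : Form g τ)
    (hτ : ∀ r, (τ r : ℕ) = wNum [1, 0, 1, 0, 1] r) :
    ∃ (a b : Fˣ) (t : F) (u : GG F), u ∈ U5 F ∧
      ∃ z : GG F, z * g * z⁻¹ = (RR F).xe 0 (-1) * lev (T01 t * dg a b) * u := by
  obtain ⟨b, hb, n, hn, z, e⟩ := hF
  obtain ⟨a, ha⟩ := (RR F).isMon_nsPerm n
  rw [hn] at ha
  obtain ⟨σ, c, hc, hc'⟩ := ne_mon_num [i1, i0] i1 (r := rt 11) num_facts.1 (one_ne_zero (α := F))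
  have hne : (RR F).ne 11 1 ∈ (RR F).NS := (RR F).ne_mem (rt 11) one_ne_zero
  have hh : (n : GG F) * ((RR F).ne 11 1)⁻¹ ∈ (RR F).HS :=
    HS_of_perm n.2 hne ha hc fun r => (hτ r).trans (hc' r).symm
  have hx : (RR F).xe 11 1 ∈ (RR F).BS := (RR F).UP_le_BS (U5_le_UP (xe_U5 11 (by decide) (by decide) 1))
  obtain ⟨x, y, t, u, hu, he⟩ := exists_of_BS (mul_mem (mul_mem (mul_mem hx hb) ((RR F).HS_le_BS hh)) hx)
  refine ⟨x, y, t, u, hu, (RR F).xe 0 (-1) * ((RR F).xe 11 1 * z), ?_⟩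
  have hne' : (RR F).ne 11 1 = (RR F).xe 11 1 * (RR F).xe 0 (-1) * (RR F).xe 11 1 := by
    show (RR F).xe 11 1 * (RR F).xe (chevG2.neg 11) (-1⁻¹) * (RR F).xe 11 1 = _
    rw [show chevG2.neg 11 = 0 from (simple_one.2.2.2.2 11 :), inv_one]
  calc (RR F).xe 0 (-1) * ((RR F).xe 11 1 * z) * g * ((RR F).xe 0 (-1) * ((RR F).xe 11 1 * z))⁻¹
      = (RR F).xe 0 (-1) * ((RR F).xe 11 1 * (z * g * z⁻¹) * ((RR F).xe 11 1)⁻¹) * ((RR F).xe 0 (-1))⁻¹ := by group
    _ = (RR F).xe 0 (-1) * ((RR F).xe 11 1 * b * ((n : GG F) * ((RR F).ne 11 1)⁻¹) * (RR F).xe 11 1) := by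
        rw [e, hne']; group
    _ = _ := by rw [he]; group

theorem far_sq [Fintype F] {t d : F} (h : Good t d) (A : GL (Fin 2) F) {u : GG F} (hu : u ∈ U5 F) :
    IsSq h (n0 F * lev A * u) := by
  obtain ⟨E, hE⟩ := sigma_all (F := F)
  obtain ⟨S, hS, hdet, hdet2, hgood⟩ := exists_target h.d_ne (E⁻¹ * A : GL (Fin 2) F).1 (E⁻¹ * A).det_ne_zero
  obtain ⟨Q, ⟨z, hz, v, hv, u1, hu1, e⟩, hQ⟩ := hE S hS hdet
  have hQA : (Q * A).1 = S * (E⁻¹ * A : GL (Fin 2) F).1 := by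
    rw [← hQ, mul_assoc, ← Units.val_mul, ← Units.val_mul, mul_inv_cancel_left]
  refine IsSq.conj z ?_
  have key : z * (n0 F * lev A * u) * z⁻¹ = v * lev (Q * A) * (((lev A)⁻¹ * u1 * lev A) * u * z⁻¹) := by
    calc z * (n0 F * lev A * u) * z⁻¹ = (z * n0 F) * lev A * u * z⁻¹ := by group
      _ = v * lev Q * u1 * lev A * u * z⁻¹ := by rw [e]
      _ = _ := by rw [map_mul lev Q A]; group
  rw [key]
  refine isSq_cell h ⟨hQA ▸ hdet2, hQA ▸ hgood⟩ hv (mul_mem (mul_mem (lev_U5' A hu1) hu) (inv_mem hz))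

theorem long_opp (s p : F) (e : Fˣ) (he : (e : F) = 1 + s * p) :
    (RR F).xe 11 s * (RR F).xe 0 p = (RR F).xe 0 (p / e) * lev (dg e 1) * (RR F).xe 11 (s / e) := by
  have h02 : (0 : Fin 3) ≠ 2 := by decide
  have h20 : (2 : Fin 3) ≠ 0 := by decide
  rw [show (RR F).xe 11 s = emb F (Matrix.SpecialLinearGroup.transvection h02 s) from (emb_tv h02 s).symm,
    show (RR F).xe 0 p = emb F (Matrix.SpecialLinearGroup.transvection h20 p) from (emb_tv h20 p).symm,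
    show (RR F).xe 11 (s / e) = emb F (Matrix.SpecialLinearGroup.transvection h02 (s / e)) from (emb_tv h02 _).symm,
    show (RR F).xe 0 (p / e) = emb F (Matrix.SpecialLinearGroup.transvection h20 (p / e)) from (emb_tv h20 _).symm,
    lev_def, ← map_mul, ← map_mul, ← map_mul]
  refine congrArg (emb F) (Subtype.ext ?_)
  show Matrix.transvection 0 2 s * Matrix.transvection 2 0 p =
    Matrix.transvection 2 0 (p / (e : F)) * (blk (dg e 1) : Matrix (Fin 3) (Fin 3) F) * Matrix.transvection 0 2 (s / (e : F))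
  rw [blk_dg]
  have h0 := e.ne_zero
  ext i j
  fin_cases i <;> fin_cases j <;>
    simp [Matrix.transvection, Matrix.single, mul_apply, Fin.sum_univ_three, wd] <;>
    field_simp <;> first | linear_combination -he | linear_combination he

theorem short_opp (r p : F) :
    (RR F).xe 10 r * (RR F).xe 0 p = (RR F).xe 0 p * lev (T10 (r * p)) * (RR F).xe 10 r := by
  have h12 : (1 : Fin 3) ≠ 2 := by decide
  have h20 : (2 : Fin 3) ≠ 0 := by decide
  have h10 : (1 : Fin 3) ≠ 0 := by decide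
  rw [lev_T10, show (RR F).xe 10 r = emb F (Matrix.SpecialLinearGroup.transvection h12 r) from (emb_tv h12 r).symm,
    show (RR F).xe 0 p = emb F (Matrix.SpecialLinearGroup.transvection h20 p) from (emb_tv h20 p).symm,
    show (RR F).xe 5 (r * p) = emb F (Matrix.SpecialLinearGroup.transvection h10 (r * p)) from (emb_tv h10 _).symm,
    ← map_mul, ← map_mul, ← map_mul]
  refine congrArg (emb F) (Subtype.ext ?_)
  show Matrix.transvection 1 2 r * Matrix.transvection 2 0 p =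
    Matrix.transvection 2 0 p * Matrix.transvection 1 0 (r * p) * Matrix.transvection 1 2 r
  ext i j
  fin_cases i <;> fin_cases j <;>
    simp [Matrix.transvection, Matrix.single, mul_apply, Fin.sum_univ_three]

theorem mid_sq [Fintype F] {t d : F} (h : Good t d) (a b : Fˣ) (f : F) {u : GG F} (hu : u ∈ U5 F) :
    IsSq h ((RR F).xe 0 (-1) * lev (T01 f * dg a b) * u) := by
  have hd := h.d_ne
  obtain ⟨e, he⟩ : ∃ e : Fˣ, (e : F) = d ^ 2 / ((a : F) * b) :=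
    ⟨Units.mk0 _ (div_ne_zero (pow_ne_zero 2 hd) (mul_ne_zero a.ne_zero b.ne_zero)), rfl⟩
  -- adjust the determinant
  refine IsSq.conj ((RR F).xe 11 (1 - (e : F))) ?_
  obtain ⟨s, hs⟩ : ∃ s, s = 1 - (e : F) := ⟨_, rfl⟩
  rw [← hs]
  have k := long_opp s (-1) e (by rw [hs]; ring)
  obtain ⟨A, hA⟩ : ∃ A, A = dg e 1 * (T01 f * dg a b) := ⟨_, rfl⟩
  obtain ⟨u2, hu2def⟩ : ∃ u2, u2 = (lev (T01 f * dg a b))⁻¹ * (RR F).xe 11 (s / e) * lev (T01 f * dg a b) * u *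
      ((RR F).xe 11 s)⁻¹ := ⟨_, rfl⟩
  have hu2 : u2 ∈ U5 F := hu2def ▸ mul_mem (mul_mem (lev_U5' _ (xe_U5 11 (by decide) (by decide) _)) hu)
    (inv_mem (xe_U5 11 (by decide) (by decide) _))
  have e1 : (RR F).xe 11 s * ((RR F).xe 0 (-1) * lev (T01 f * dg a b) * u) * ((RR F).xe 11 s)⁻¹ =
      (RR F).xe 0 (-1 / e) * lev A * u2 := by
    rw [← mul_assoc, ← mul_assoc, k, hA, map_mul lev (dg e 1), hu2def]
    group
  rw [e1]
  have hAv : A.1 = !![(e : F) * a, (e : F) * (f * b); 0, (b : F)] := by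
    rw [hA, Units.val_mul, Units.val_mul, dg_val, dg_val, T01_val]
    ext i j; fin_cases i <;> fin_cases j <;> simp [mul_apply, Fin.sum_univ_two]
  have hdet : A.1.det = d ^ 2 := by
    rw [hAv]; simp [det_fin_two, he]; field_simp
  obtain ⟨p, hp⟩ : ∃ p, p = -1 / (e : F) := ⟨_, rfl⟩
  have hp0 : p ≠ 0 := hp ▸ div_ne_zero (neg_ne_zero.2 one_ne_zero) e.ne_zero
  rw [← hp]
  by_cases hgood : A.1 = d • 1 ∨ ((¬ ∃ c : F, A.1 = c • 1) ∧ A.1.trace ≠ 2 * d)
  · exact isSq_cell h ⟨hdet, hgood⟩ (xe_V5 0 (by decide) _) hu2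
  refine IsSq.conj ((RR F).xe 10 1) ?_
  have e2 : (RR F).xe 10 1 * ((RR F).xe 0 p * lev A * u2) * ((RR F).xe 10 1)⁻¹ =
      (RR F).xe 0 p * lev (T10 p * A) * ((lev A)⁻¹ * (RR F).xe 10 1 * lev A * u2 * ((RR F).xe 10 1)⁻¹) := by
    rw [← mul_assoc, ← mul_assoc, short_opp, one_mul, map_mul lev (T10 p) A]
    group
  rw [e2]
  have hx : (RR F).xe 10 1 ∈ U5 F := xe_U5 10 (by decide) (by decide) _
  refine isSq_cell h ?_ (xe_V5 0 (by decide) _) (mul_mem (mul_mem (lev_U5' A hx) hu2) (inv_mem hx))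
  have hM : (T10 p * A).1 = !![(e : F) * a, (e : F) * (f * b); p * ((e : F) * a), p * ((e : F) * (f * b)) + b] := by
    rw [Units.val_mul, T10_val, hAv]
    ext i j; fin_cases i <;> fin_cases j <;> simp [mul_apply, Fin.sum_univ_two]
  have hea : (e : F) * a = d ^ 2 / b := by rw [he]; field_simp
  refine ⟨?_, Or.inr ⟨?_, ?_⟩⟩
  · rw [Units.val_mul, det_mul, hdet, T10_val]; simp [det_fin_two]
  · rintro ⟨c, hc⟩
    rw [hM] at hc
    have := congrFun (congrFun hc 1) 0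
    simp [hp0] at this
  rw [hM, trace_fin_two]
  simp only [Matrix.cons_val_zero, Matrix.cons_val_one, Matrix.of_apply, Matrix.cons_val', Matrix.cons_val_fin_one]
  push Not at hgood
  intro htr
  -- the failing cases
  rw [hAv] at hgood
  by_cases hbd : (b : F) = d
  · have hf : f ≠ 0 := by
      intro hf
      apply hgood.1
      rw [hea, hbd, hf]
      ext i j; fin_cases i <;> fin_cases j <;> simp; field_simp
    rw [hea, hbd] at htr
    have : p * ((e : F) * (f * d)) = 0 := by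
      have hsq : d ^ 2 / d = d := by field_simp
      rw [hsq] at htr
      linear_combination htr
    simp [hp0, hf, hd] at this
  · have hnot : ∃ c : F, (!![(e : F) * a, (e : F) * (f * b); 0, (b : F)] : M2 F) = c • 1 := by
      by_contra hno
      push Not at hno
      have h1 := hgood.2 hno
      rw [trace_fin_two] at h1
      simp [hea] at h1
      field_simp at h1
      have h2 : ((b : F) - d) ^ 2 = 0 := by linear_combination h1
      exact hbd (sub_eq_zero.1 (eq_zero_of_pow_eq_zero h2))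
    obtain ⟨c, hc⟩ := hnot
    have h01 := congrFun (congrFun hc 0) 1
    simp [e.ne_zero] at h01
    subst h01
    have h00 := congrFun (congrFun hc 0) 0
    have h11 := congrFun (congrFun hc 1) 1
    simp at h00 h11
    rw [hea] at h00
    rw [zero_mul, mul_zero, mul_zero, zero_add, hea] at htr
    field_simp at htr
    have h2 : ((b : F) - d) ^ 2 = 0 := by linear_combination htr
    exact hbd (sub_eq_zero.1 (eq_zero_of_pow_eq_zero h2))

/-- the class square theorem -/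
theorem square [Fintype F] (p : ℕ) [Fact p.Prime] [CharP F p] (h3 : 3 ≤ Fintype.card F) :
    ∃ x : GG F, ¬ p ∣ orderOf x ∧ ∀ g : GG F, g ≠ 1 → ∃ u v : GG F, g = (u * x * u⁻¹) * (v * x * v⁻¹) := by
  obtain ⟨t, d, h⟩ := Good.exists_good (F := F) h3
  refine ⟨lev (yEl h), fun hp => h.not_dvd_orderOf p (yEl h) (yEl_val h) (hp.trans (orderOf_map_dvd lev _)),
    fun g hg => ?_⟩
  obtain ⟨σ, hσ, hF⟩ := exists_form hg
  obtain ⟨b, hb, n, hn, z, e⟩ := hF
  obtain ⟨l, hl, hw⟩ := exists_hasWord n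
  rw [hn] at hw
  have hl0 : l ≠ [] := by
    rintro rfl
    exact hσ (Equiv.ext fun r => Fin.ext (hw r))
  obtain ⟨τ, hFτ, hτ⟩ := descend 6 hl hw hl0 (by omega) ⟨b, hb, n, hn, z, e⟩
  show IsSq h g
  rcases hτ with h0 | h0 | h0
  · obtain ⟨A, u, hu, z, ez⟩ := far_form hFτ (Or.inl h0)
    exact IsSq.conj z (ez ▸ far_sq h A hu)
  · obtain ⟨A, u, hu, z, ez⟩ := far_form hFτ (Or.inr h0)
    exact IsSq.conj z (ez ▸ far_sq h A hu)
  · obtain ⟨x, y, f, u, hu, z, ez⟩ := mid_form hFτ h0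
    exact IsSq.conj z (ez ▸ mid_sq h x y f hu)

end CfsgLib.Known.SmallSquare.G2
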