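import Cfsg.Agent.Lib.Known.SmallSquare.Two
import Cfsg.Prelude.Def_Classical

/-!
# A class of semisimple elements with square covering the four dimensional symplectic group

The elements of the class lie in the Levi subgroup of the Siegel parabolic; every nonscalar symplectic matrix
is conjugate to a product of lower block, Levi and upper block elements whose Levi part factorises.
-/

set_option autoImplicit false
set_option linter.unusedSectionVars false

namespace CfsgLib.Known.SmallSquare.SympFour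

open Matrix

universe u

variable {F : Type u} [Field F]

/-- two by two matrices -/
abbrev M2 (F : Type u) : Type u := Matrix (Fin 2) (Fin 2) F

/-- the group -/
abbrev Sp4 (F : Type u) [Field F] : Type u := ↥(Matrix.symplecticGroup (Fin 2) F)

theorem mem_blocks {A B C D : M2 F} : fromBlocks A B C D ∈ Matrix.symplecticGroup (Fin 2) F ↔
    Aᵀ * C = Cᵀ * A ∧ Aᵀ * D - Cᵀ * B = 1 ∧ Bᵀ * D = Dᵀ * B := by
  rw [SymplecticGroup.mem_iff', Matrix.J, fromBlocks_transpose, fromBlocks_multiply, fromBlocks_multiply,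
    fromBlocks_inj]
  simp only [Matrix.mul_zero, Matrix.mul_neg, Matrix.mul_one, zero_add, add_zero, Matrix.neg_mul]
  constructor
  · rintro ⟨h1, h2, -, h4⟩
    refine ⟨?_, ?_, ?_⟩
    · have := sub_eq_zero.1 (show Cᵀ * A - Aᵀ * C = 0 by rw [sub_eq_add_neg]; exact h1)
      exact this.symm
    · have := congrArg Neg.neg h2
      rw [neg_neg, neg_add, neg_neg] at this
      rw [← this]; abel
    · exact (sub_eq_zero.1 (show Dᵀ * B - Bᵀ * D = 0 by rw [sub_eq_add_neg]; exact h4)).symm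
  · rintro ⟨h1, h2, h3⟩
    refine ⟨by rw [h1]; abel, by rw [← h2]; abel, ?_, by rw [h3]; abel⟩
    have := congrArg Matrix.transpose h2
    rw [transpose_sub, transpose_mul, transpose_mul, transpose_transpose, transpose_transpose,
      transpose_one] at this
    rw [← this]; abel

/-- the first block -/
def bA (g : Sp4 F) : M2 F := (g : Matrix (Fin 2 ⊕ Fin 2) (Fin 2 ⊕ Fin 2) F).toBlocks₁₁

/-- the upper block -/
def bB (g : Sp4 F) : M2 F := (g : Matrix (Fin 2 ⊕ Fin 2) (Fin 2 ⊕ Fin 2) F).toBlocks₁₂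

/-- the lower block -/
def bC (g : Sp4 F) : M2 F := (g : Matrix (Fin 2 ⊕ Fin 2) (Fin 2 ⊕ Fin 2) F).toBlocks₂₁

/-- the last block -/
def bD (g : Sp4 F) : M2 F := (g : Matrix (Fin 2 ⊕ Fin 2) (Fin 2 ⊕ Fin 2) F).toBlocks₂₂

theorem val_eq (g : Sp4 F) :
    (g : Matrix (Fin 2 ⊕ Fin 2) (Fin 2 ⊕ Fin 2) F) = fromBlocks (bA g) (bB g) (bC g) (bD g) :=
  (fromBlocks_toBlocks _).symm

theorem rels (g : Sp4 F) : (bA g)ᵀ * bC g = (bC g)ᵀ * bA g ∧ (bA g)ᵀ * bD g - (bC g)ᵀ * bB g = 1 ∧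
    (bB g)ᵀ * bD g = (bD g)ᵀ * bB g := mem_blocks.1 (val_eq g ▸ g.2)

/-- symmetric matrices -/
abbrev Sym (F : Type u) : Type u := {S : M2 F // Sᵀ = S}

/-- upper block elements -/
def up (S : Sym F) : Sp4 F := ⟨fromBlocks 1 S.1 0 1, mem_blocks.2 ⟨by simp, by simp, by simp [S.2]⟩⟩

/-- lower block elements -/
def lo (S : Sym F) : Sp4 F := ⟨fromBlocks 1 0 S.1 1, mem_blocks.2 ⟨by simp [S.2], by simp, by simp⟩⟩

/-- Levi elements -/
noncomputable def lv : GL (Fin 2) F →* Sp4 F where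
  toFun P := ⟨fromBlocks P.1 0 0 (P⁻¹ : GL (Fin 2) F).1ᵀ, mem_blocks.2 ⟨by simp, by
    rw [transpose_zero, zero_mul, sub_zero, ← transpose_mul, ← Units.val_mul, inv_mul_cancel, Units.val_one,
      transpose_one], by simp⟩⟩
  map_one' := Subtype.ext (by simp [fromBlocks_one])
  map_mul' P Q := Subtype.ext (by
    simp only [_root_.mul_inv_rev, Units.val_mul, transpose_mul, Submonoid.coe_mul, fromBlocks_multiply]
    simp)

theorem lv_val (P : GL (Fin 2) F) :
    (lv P : Matrix (Fin 2 ⊕ Fin 2) (Fin 2 ⊕ Fin 2) F) = fromBlocks P.1 0 0 (P⁻¹ : GL (Fin 2) F).1ᵀ := rfl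

theorem up_add (S T : Sym F) : up S * up T = up ⟨S.1 + T.1, by rw [transpose_add, S.2, T.2]⟩ :=
  Subtype.ext (by simp [up, fromBlocks_multiply, add_comm])

theorem lo_add (S T : Sym F) : lo S * lo T = lo ⟨S.1 + T.1, by rw [transpose_add, S.2, T.2]⟩ :=
  Subtype.ext (by simp [lo, fromBlocks_multiply])

/-- congruence of a symmetric matrix -/
def cg (P : M2 F) (S : Sym F) : Sym F :=
  ⟨P * S.1 * Pᵀ, by rw [transpose_mul, transpose_mul, transpose_transpose, S.2, mul_assoc]⟩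

theorem lv_up (P : GL (Fin 2) F) (S : Sym F) : lv P * up S = up (cg P.1 S) * lv P := by
  refine Subtype.ext ?_
  simp [up, cg, lv_val, fromBlocks_multiply, mul_assoc, ← transpose_mul]

theorem lo_lv (P : GL (Fin 2) F) (S : Sym F) : lo S * lv P = lv P * lo (cg P.1ᵀ S) := by
  refine Subtype.ext ?_
  simp [lo, cg, lv_val, fromBlocks_multiply, ← mul_assoc, ← transpose_mul]

theorem sym_eq (S : Sym F) : ∃ a b c : F, S.1 = !![a, b; b, c] := by
  refine ⟨S.1 0 0, S.1 0 1, S.1 1 1, ?_⟩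
  have : S.1 1 0 = S.1 0 1 := congrFun (congrFun S.2 0) 1
  ext i j
  fin_cases i <;> fin_cases j <;> simp [this]

theorem fix_zero {t d : F} (h : Good t d) (S : Sym F) (e : comp2 t d * S.1 * (comp2 t d)ᵀ = S.1) : S.1 = 0 := by
  obtain ⟨a, b, c, hS⟩ := sym_eq S
  rw [hS] at e ⊢
  have e00 := congrFun (congrFun e 0) 0
  have e01 := congrFun (congrFun e 0) 1
  have e11 := congrFun (congrFun e 1) 1
  simp [comp2, mul_apply, Fin.sum_univ_two] at e00 e01 e11
  have hp : 1 + t + d ≠ 0 := fun z => h.irr (-1) (by linear_combination z)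
  have hm : 1 - t + d ≠ 0 := fun z => h.irr 1 (by linear_combination z)
  have hd1 : 1 - d ≠ 0 := sub_ne_zero.2 (Ne.symm h.d_ne_one)
  have key : c * (1 - d) * ((1 + t + d) * (1 - t + d)) = 0 := by
    linear_combination (-(1 + d)) * e00 - 2 * t * e01 - (1 + d) * e11
  have hc : c = 0 := by simpa [hd1, hp, hm] using key
  subst hc
  have ha : a = 0 := by linear_combination -e00
  subst ha
  have hb : b = 0 := by
    by_cases hd : 1 + d = 0
    · have h20 : (2 : F) ≠ 0 := fun z => hd1 (by linear_combination z - hd)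
      have h2 : 2 * t * b = 0 := by linear_combination e11
      simpa [h20, h.t_ne] using h2
    · have : (1 + d) * b = 0 := by linear_combination -e01
      simpa [hd] using this
  subst hb
  ext i j
  fin_cases i <;> fin_cases j <;> simp

theorem fix_zero' {t d : F} (h : Good t d) (S : Sym F) (e : (comp2 t d)ᵀ * S.1 * comp2 t d = S.1) : S.1 = 0 := by
  obtain ⟨a, b, c, hS⟩ := sym_eq S
  rw [hS] at e ⊢
  have e00 := congrFun (congrFun e 0) 0
  have e01 := congrFun (congrFun e 0) 1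
  have e11 := congrFun (congrFun e 1) 1
  simp [comp2, mul_apply, Fin.sum_univ_two] at e00 e01 e11
  have hp : 1 + t + d ≠ 0 := fun z => h.irr (-1) (by linear_combination z)
  have hm : 1 - t + d ≠ 0 := fun z => h.irr 1 (by linear_combination z)
  have hd1 : 1 - d ≠ 0 := sub_ne_zero.2 (Ne.symm h.d_ne_one)
  subst e00
  have key : c * (1 - d) * ((1 + t + d) * (1 - t + d)) = 0 := by
    linear_combination (2 * t * d) * e01 - (1 + d) * e11
  have hc : c = 0 := by simpa [hd1, hp, hm] using key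
  subst hc
  have hb : b = 0 := by
    by_cases hd : 1 + d = 0
    · have h20 : (2 : F) ≠ 0 := fun z => hd1 (by linear_combination z - hd)
      have h2 : 2 * t * b = 0 := by linear_combination e11 + 2 * t * b * hd
      simpa [h20, h.t_ne] using h2
    · have : (1 + d) * b = 0 := by linear_combination -e01
      simpa [hd] using this
  subst hb
  ext i j
  fin_cases i <;> fin_cases j <;> simp

variable [Fintype F]

theorem conj_up {t d : F} (h : Good t d) (Y : GL (Fin 2) F) (hY : (Y : M2 F) = comp2 t d) (S : Sym F) :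
    ∃ z : Sp4 F, z * lv Y * z⁻¹ = lv Y * up S := by
  let f : Sym F → Sym F := fun T => ⟨(cg (Y⁻¹ : GL (Fin 2) F).1 T).1 - T.1, by
    rw [transpose_sub, T.2, (cg _ T).2]⟩
  have hf : Function.Injective f := by
    intro T U e
    let D : Sym F := ⟨T.1 - U.1, by rw [transpose_sub, T.2, U.2]⟩
    have e' : (Y⁻¹ : GL (Fin 2) F).1 * D.1 * (Y⁻¹ : GL (Fin 2) F).1ᵀ = D.1 := by
      have := congrArg Subtype.val e
      simp only [f, cg] at this
      show _ * (T.1 - U.1) * _ = T.1 - U.1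
      rw [mul_sub, sub_mul, sub_eq_sub_iff_sub_eq_sub.1 this]
    have := fix_zero h D (by
      conv_lhs => rw [← e']
      rw [← hY]
      simp [mul_assoc, ← transpose_mul])
    exact Subtype.ext (sub_eq_zero.1 this)
  obtain ⟨T, hT⟩ := Finite.surjective_of_injective hf S
  refine ⟨up T, ?_⟩
  rw [mul_inv_eq_iff_eq_mul, mul_assoc, up_add, lv_up]
  congr 2
  refine Subtype.ext ?_
  rw [← hT]
  simp only [f, cg, sub_add_cancel]
  simp only [← mul_assoc, ← Units.val_mul, mul_inv_cancel, Units.val_one, one_mul]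
  rw [mul_assoc, ← transpose_mul, ← Units.val_mul, mul_inv_cancel, Units.val_one, transpose_one, mul_one]

theorem conj_lo {t d : F} (h : Good t d) (Y : GL (Fin 2) F) (hY : (Y : M2 F) = comp2 t d) (S : Sym F) :
    ∃ z : Sp4 F, z * lv Y * z⁻¹ = lo S * lv Y := by
  let f : Sym F → Sym F := fun T => ⟨T.1 - (cg (Y⁻¹ : GL (Fin 2) F).1ᵀ T).1, by
    rw [transpose_sub, T.2, (cg _ T).2]⟩
  have hf : Function.Injective f := by
    intro T U e
    let D : Sym F := ⟨T.1 - U.1, by rw [transpose_sub, T.2, U.2]⟩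
    have e' : (Y⁻¹ : GL (Fin 2) F).1ᵀ * D.1 * (Y⁻¹ : GL (Fin 2) F).1 = D.1 := by
      have := congrArg Subtype.val e
      simp only [f, cg, transpose_transpose] at this
      show _ * (T.1 - U.1) * _ = T.1 - U.1
      rw [mul_sub, sub_mul, sub_eq_sub_iff_sub_eq_sub.1 this]
    have := fix_zero' h D (by
      conv_lhs => rw [← e']
      rw [← hY]
      simp [← mul_assoc, ← transpose_mul])
    exact Subtype.ext (sub_eq_zero.1 this)
  obtain ⟨T, hT⟩ := Finite.surjective_of_injective hf S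
  refine ⟨lo T, ?_⟩
  have hcan : lv Y * (lo T)⁻¹ = lo ⟨-(cg (Y⁻¹ : GL (Fin 2) F).1ᵀ T).1, by rw [transpose_neg, (cg _ T).2]⟩ * lv Y := by
    rw [lo_lv, mul_inv_eq_iff_eq_mul, mul_assoc, lo_add]
    refine Subtype.ext ?_
    simp only [lo, cg, lv_val, Submonoid.coe_mul, fromBlocks_multiply, transpose_transpose]
    rw [mul_neg, neg_mul, show Y.1ᵀ * ((Y⁻¹).1ᵀ * T.1 * (Y⁻¹).1) * Y.1 = (Y.1ᵀ * (Y⁻¹).1ᵀ) * T.1 * ((Y⁻¹).1 * Y.1) by
      simp only [mul_assoc], ← transpose_mul, ← Units.val_mul, inv_mul_cancel, Units.val_one, transpose_one, one_mul,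
      mul_one]
    simp
  rw [mul_assoc, hcan, ← mul_assoc, lo_add]
  congr 2
  refine Subtype.ext ?_
  rw [← hT]
  simp [f, sub_eq_add_neg]

/-- the big cell -/
theorem cell (g : Sp4 F) (hA : (bA g).det ≠ 0) :
    ∃ S T : Sym F, g = lo S * lv (GeneralLinearGroup.mkOfDetNeZero (bA g) hA) * up T := by
  obtain ⟨h1, h2, h3⟩ := rels g
  obtain ⟨P, hP⟩ : ∃ P, GeneralLinearGroup.mkOfDetNeZero (bA g) hA = P := ⟨_, rfl⟩
  have hPA : P.1 = bA g := by rw [← hP]; rfl
  rw [hP]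
  rw [← hPA] at h1 h2
  obtain ⟨k1, -, -⟩ := rels g⁻¹
  have hsymS : (bC g * (P⁻¹).1)ᵀ = bC g * (P⁻¹).1 := by
    have h := congrArg (fun Z => (P⁻¹).1ᵀ * Z * (P⁻¹).1) h1
    simp only [← mul_assoc, ← transpose_mul, ← Units.val_mul, mul_inv_cancel, Units.val_one] at h
    simp only [mul_assoc, ← Units.val_mul, mul_inv_cancel, Units.val_one, transpose_one, one_mul, mul_one] at h
    exact h.symm
  have hR : bD g = (P⁻¹).1ᵀ + bC g * (P⁻¹).1 * bB g := by
    have h := congrArg (fun Z => (P⁻¹).1ᵀ * Z) h2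
    simp only [mul_sub, ← mul_assoc, ← transpose_mul, ← Units.val_mul, mul_inv_cancel, Units.val_one, transpose_one,
      one_mul, mul_one] at h
    rw [sub_eq_iff_eq_add] at h
    rw [h, hsymS]
  have hsymT : ((P⁻¹).1 * bB g)ᵀ = (P⁻¹).1 * bB g := by
    rw [hR] at h3
    simp only [mul_add, transpose_add, add_mul, transpose_transpose, transpose_mul] at h3
    have e : (bC g * (P⁻¹).1)ᵀ = (P⁻¹).1ᵀ * (bC g)ᵀ := transpose_mul _ _
    rw [hsymS] at e
    rw [← e] at h3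
    simp only [← mul_assoc] at h3
    rw [transpose_mul]
    simpa [mul_assoc] using h3
  refine ⟨⟨_, hsymS⟩, ⟨_, hsymT⟩, Subtype.ext ?_⟩
  rw [val_eq g]
  simp only [lo, up, lv_val, Submonoid.coe_mul, fromBlocks_multiply]
  rw [hR, ← hPA]
  simp [mul_assoc, ← Units.val_mul, ← mul_assoc]
  abel

theorem blocks_up (S : Sym F) (g : Sp4 F) : bA (up S * g * (up S)⁻¹) = bA g + S.1 * bC g := by
  have e : (up S)⁻¹ = up ⟨-S.1, by rw [transpose_neg, S.2]⟩ := inv_eq_of_mul_eq_one_right (by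
    rw [up_add]; exact Subtype.ext (by simp [up, fromBlocks_one]))
  rw [e, bA, Submonoid.coe_mul, Submonoid.coe_mul, val_eq g]
  simp [up, fromBlocks_multiply]

theorem blocks_lv (P : GL (Fin 2) F) (g : Sp4 F) : bC (lv P * g * (lv P)⁻¹) =
    (P⁻¹).1ᵀ * bC g * (P⁻¹).1 := by
  rw [← map_inv, bC, Submonoid.coe_mul, Submonoid.coe_mul, val_eq g]
  rw [lv_val P⁻¹, lv_val P, fromBlocks_multiply, fromBlocks_multiply, toBlocks_fromBlocks₂₁]
  simp

/-- a nonscalar element has a conjugate with nonzero lower block -/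
theorem exists_lower_ne {g : Sp4 F} (hg : g ∉ Subgroup.center (Sp4 F)) :
    ∃ z : Sp4 F, bC (z * g * z⁻¹) ≠ 0 := by
  by_contra hno
  push Not at hno
  have hJ : Matrix.J (Fin 2) F ∈ Matrix.symplecticGroup (Fin 2) F := SymplecticGroup.J_mem _ _
  let j : Sp4 F := ⟨Matrix.J (Fin 2) F, hJ⟩
  have hjinv : j⁻¹ = ⟨fromBlocks 0 1 (-1) 0, mem_blocks.2 ⟨by simp, by simp, by simp⟩⟩ :=
    inv_eq_of_mul_eq_one_right (Subtype.ext (by simp [j, Matrix.J, fromBlocks_multiply, fromBlocks_one]))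
  have hB : ∀ z : Sp4 F, bB (z * g * z⁻¹) = 0 := by
    intro z
    have h := hno (j * z)
    rw [show j * z * g * (j * z)⁻¹ = j * (z * g * z⁻¹) * j⁻¹ by group, hjinv, bC, Submonoid.coe_mul, Submonoid.coe_mul,
      val_eq (z * g * z⁻¹)] at h
    simpa [j, Matrix.J, fromBlocks_multiply] using h
  have hC0 : bC g = 0 := by simpa using hno 1
  have hB0 : bB g = 0 := by simpa using hB 1
  have key : ∀ S : Sym F, S.1 * bD g = bA g * S.1 := by
    intro S
    have h := hB (up S)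
    have e : (up S)⁻¹ = up ⟨-S.1, by rw [transpose_neg, S.2]⟩ := inv_eq_of_mul_eq_one_right (by
      rw [up_add]; exact Subtype.ext (by simp [up, fromBlocks_one]))
    rw [e, bB, Submonoid.coe_mul, Submonoid.coe_mul, val_eq g, hC0, hB0] at h
    simp [up, fromBlocks_multiply] at h
    exact eq_of_sub_eq_zero (by rw [← h]; abel)
  have hD : bD g = bA g := by simpa using key ⟨1, transpose_one⟩
  have k1 := key ⟨!![1, 0; 0, 0], by ext i j; fin_cases i <;> fin_cases j <;> rfl⟩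
  have k2 := key ⟨!![0, 1; 1, 0], by ext i j; fin_cases i <;> fin_cases j <;> rfl⟩
  rw [hD] at k1 k2
  have a01 : bA g 0 1 = 0 := by simpa [mul_apply, Fin.sum_univ_two] using congrFun (congrFun k1 0) 1
  have a10 : bA g 1 0 = 0 := by simpa [mul_apply, Fin.sum_univ_two] using (congrFun (congrFun k1 1) 0).symm
  have a11 : bA g 1 1 = bA g 0 0 := by simpa [mul_apply, Fin.sum_univ_two] using congrFun (congrFun k2 0) 1
  have hsc : (g : Matrix (Fin 2 ⊕ Fin 2) (Fin 2 ⊕ Fin 2) F) = bA g 0 0 • 1 := by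
    have : bA g = bA g 0 0 • 1 := by
      ext i j; fin_cases i <;> fin_cases j <;> simp [a01, a10, a11]
    conv_lhs => rw [val_eq g, hC0, hB0, hD, this]
    rw [← fromBlocks_one, fromBlocks_smul, smul_zero]
  exact hg (Subgroup.mem_center_iff.2 fun w => Subtype.ext (by
    rw [Submonoid.coe_mul, Submonoid.coe_mul, hsc, Matrix.smul_mul, Matrix.mul_smul, one_mul, mul_one]))

theorem exists_good_block_singular {d : F} (hd : d ≠ 0) (g : Sp4 F) (h0 : bC g 0 0 = 0) (h1 : bC g 1 0 = 0)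
    (hK : bC g ≠ 0) : ∃ S : Sym F, (bA g + S.1 * bC g).det = d ^ 2 ∧
      (bA g + S.1 * bC g = d • 1 ∨
        ((¬ ∃ c : F, bA g + S.1 * bC g = c • 1) ∧ (bA g + S.1 * bC g).trace ≠ 2 * d)) := by
  set M := bA g with hMdef
  set K := bC g with hKdef
  have hM : ¬ (M 0 0 = 0 ∧ M 1 0 = 0) := by
    rintro ⟨a, b⟩
    have := congrFun (congrFun (rels g).2.1 0) 0
    rw [← hMdef, ← hKdef] at this
    simp [mul_apply, Fin.sum_univ_two, a, b, h0, h1] at this
  have ha : K 0 1 ≠ 0 ∨ K 1 1 ≠ 0 := by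
    by_contra h
    push Not at h
    exact hK (by ext i j; fin_cases i <;> fin_cases j <;> simp [h0, h1, h.1, h.2])
  -- the second column is arbitrary
  have reach : ∀ x y : F, ∃ S : Sym F, M + S.1 * K = !![M 0 0, x; M 1 0, y] := by
    intro x y
    rcases ha with ha | ha
    · refine ⟨⟨!![(x - M 0 1 - (y - M 1 1) / K 0 1 * K 1 1) / K 0 1, (y - M 1 1) / K 0 1;
        (y - M 1 1) / K 0 1, 0], by ext i j; fin_cases i <;> fin_cases j <;> rfl⟩, ?_⟩
      ext i j
      fin_cases i <;> fin_cases j <;> simp [Matrix.vecMul, dotProduct, Matrix.vecHead, Matrix.vecTail, Fin.sum_univ_two, h0, h1] <;> field_simp <;> ring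
    · refine ⟨⟨!![0, (x - M 0 1) / K 1 1;
        (x - M 0 1) / K 1 1, (y - M 1 1 - (x - M 0 1) / K 1 1 * K 0 1) / K 1 1],
        by ext i j; fin_cases i <;> fin_cases j <;> rfl⟩, ?_⟩
      ext i j
      fin_cases i <;> fin_cases j <;> simp [Matrix.vecMul, dotProduct, Matrix.vecHead, Matrix.vecTail, Fin.sum_univ_two, h0, h1] <;> field_simp <;> ring
  have nonscalar : ∀ (N : M2 F), N 0 1 ≠ 0 ∨ N 1 0 ≠ 0 → ¬ ∃ c : F, N = c • 1 := by
    rintro N hN ⟨c, rfl⟩
    simp at hN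
  by_cases h10 : M 1 0 = 0
  · have h00 : M 0 0 ≠ 0 := fun e => hM ⟨e, h10⟩
    by_cases hd0 : M 0 0 = d
    · obtain ⟨S, hS⟩ := reach 0 d
      rw [hd0, h10] at hS
      exact ⟨S, by rw [hS]; simp [det_fin_two, pow_two], Or.inl (by
        rw [hS]; ext i j; fin_cases i <;> fin_cases j <;> simp)⟩
    · obtain ⟨S, hS⟩ := reach 1 (d ^ 2 / M 0 0)
      refine ⟨S, by rw [hS]; simp [det_fin_two, h10]; field_simp, Or.inr ⟨nonscalar _ (by rw [hS]; simp), ?_⟩⟩
      rw [hS]
      simp [trace_fin_two]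
      intro e
      apply hd0
      field_simp at e
      have : (M 0 0 - d) ^ 2 = 0 := by linear_combination e
      exact sub_eq_zero.1 (eq_zero_of_pow_eq_zero this)
  · set y := 2 * d - M 0 0 + 1
    obtain ⟨S, hS⟩ := reach ((M 0 0 * y - d ^ 2) / M 1 0) y
    refine ⟨S, by rw [hS]; simp [det_fin_two]; field_simp; ring, Or.inr ⟨nonscalar _ (by rw [hS]; simp [h10]), ?_⟩⟩
    rw [hS]
    simp [trace_fin_two, y]
    intro e
    exact one_ne_zero (α := F) (by linear_combination e)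

theorem exists_good_block_regular {d : F} (hd : d ≠ 0) (g : Sp4 F) (hK : (bC g).det ≠ 0) :
    ∃ S : Sym F, (bA g + S.1 * bC g).det = d ^ 2 ∧
      (bA g + S.1 * bC g = d • 1 ∨
        ((¬ ∃ c : F, bA g + S.1 * bC g = c • 1) ∧ (bA g + S.1 * bC g).trace ≠ 2 * d)) := by
  set M := bA g with hMdef
  set K := bC g with hKdef
  obtain ⟨Kg, hKg⟩ : ∃ Kg : GL (Fin 2) F, Kg.1 = K := ⟨GeneralLinearGroup.mkOfDetNeZero K hK, rfl⟩
  have hQ : (M * (Kg⁻¹).1)ᵀ = M * (Kg⁻¹).1 := by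
    have h1 := (rels g).1
    rw [← hMdef, ← hKdef, ← hKg] at h1
    have h := congrArg (fun Z => (Kg⁻¹).1ᵀ * Z * (Kg⁻¹).1) h1
    simp only [← mul_assoc, ← transpose_mul] at h
    simp only [mul_assoc, ← Units.val_mul, mul_inv_cancel, Units.val_one, mul_one] at h
    simpa [mul_assoc] using h
  have reach : ∀ S' : Sym F, ∃ S : Sym F, M + S.1 * K = S'.1 * K := fun S' =>
    ⟨⟨S'.1 - M * (Kg⁻¹).1, by rw [transpose_sub, S'.2, hQ]⟩, by
      rw [sub_mul, mul_assoc, ← hKg, ← Units.val_mul, inv_mul_cancel, Units.val_one, mul_one]; abel⟩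
  by_cases hsym : Kᵀ = K
  · have hinv : ((Kg⁻¹).1)ᵀ = (Kg⁻¹).1 := by
      have h : ((Kg⁻¹).1)ᵀ * Kg.1 = 1 := by
        rw [show Kg.1 = Kg.1ᵀ by rw [hKg, hsym], ← transpose_mul, ← Units.val_mul, mul_inv_cancel, Units.val_one,
          transpose_one]
      calc ((Kg⁻¹).1)ᵀ = ((Kg⁻¹).1)ᵀ * (Kg.1 * (Kg⁻¹).1) := by
            rw [← Units.val_mul, mul_inv_cancel, Units.val_one, mul_one]
        _ = _ := by rw [← mul_assoc, h, one_mul]
    obtain ⟨S, hS⟩ := reach ⟨d • (Kg⁻¹).1, by rw [transpose_smul, hinv]⟩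
    have e : M + S.1 * K = d • 1 := by
      rw [hS, ← hKg, Matrix.smul_mul, ← Units.val_mul, inv_mul_cancel, Units.val_one]
    exact ⟨S, by rw [e, det_smul, det_one, Fintype.card_fin, mul_one], Or.inl e⟩
  have hne : K 0 1 ≠ K 1 0 := fun e => hsym (by
    ext i j; fin_cases i <;> fin_cases j <;> simp [e])
  have nonscalar : ∀ S' : Sym F, ∀ c : F, c ≠ 0 → S'.1 * K ≠ c • 1 := by
    intro S' c hc e
    have h1 : K * S'.1 = c • 1 := by
      have : (c⁻¹ • S'.1) * K = 1 := by rw [Matrix.smul_mul, e, smul_smul, inv_mul_cancel₀ hc, one_smul]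
      have h2 := mul_eq_one_comm.1 this
      rw [Matrix.mul_smul] at h2
      rw [← h2, smul_smul, mul_inv_cancel₀ hc, one_smul]
    apply hsym
    have h3 := congrArg Matrix.transpose h1
    rw [transpose_mul, S'.2, transpose_smul, transpose_one] at h3
    calc Kᵀ = c⁻¹ • (K * S'.1 * Kᵀ) := by rw [h1, Matrix.smul_mul, one_mul, smul_smul, inv_mul_cancel₀ hc, one_smul]
      _ = K := by rw [mul_assoc, h3, Matrix.mul_smul, mul_one, smul_smul, inv_mul_cancel₀ hc, one_smul]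
  set e := d ^ 2 / K.det
  have suff : ∀ S' : Sym F, S'.1.det = e → (S'.1 * K).trace ≠ 2 * d → ∃ S : Sym F, (M + S.1 * K).det = d ^ 2 ∧
      (M + S.1 * K = d • 1 ∨ ((¬ ∃ c : F, M + S.1 * K = c • 1) ∧ (M + S.1 * K).trace ≠ 2 * d)) := by
    intro S' hdet htr
    obtain ⟨S, hS⟩ := reach S'
    have hD : (M + S.1 * K).det = d ^ 2 := by
      rw [hS, det_mul, hdet]
      exact div_mul_cancel₀ _ hK
    refine ⟨S, hD, Or.inr ⟨?_, hS ▸ htr⟩⟩
    rintro ⟨c, hc⟩
    have hc0 : c ≠ 0 := fun z => pow_ne_zero 2 hd (by rw [← hD, hc, z, zero_smul, det_zero])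
    exact nonscalar S' c hc0 (hS ▸ hc)
  by_cases h2 : ringChar F = 2
  · have : CharP F 2 := ringChar.of_eq h2
    have e2 : (2 : F) = 0 := CharP.cast_eq_zero F 2
    obtain ⟨r, hr⟩ := FiniteField.isSquare_of_char_two h2 e
    have hr0 : r ≠ 0 := fun z => div_ne_zero (pow_ne_zero 2 hd) hK (show e = 0 by rw [hr, z, mul_zero])
    refine suff ⟨!![0, r; r, 0], by ext i j; fin_cases i <;> fin_cases j <;> rfl⟩ ?_ ?_
    · simp [det_fin_two]; linear_combination -hr - r * r * e2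
    · rw [e2, zero_mul]
      simp [trace_fin_two, Matrix.vecMul, dotProduct, Fin.sum_univ_two]
      intro z
      have : r * (K 1 0 + K 0 1) = 0 := by linear_combination z
      rcases mul_eq_zero.1 this with z | z
      · exact hr0 z
      · exact hne (by linear_combination z - K 1 0 * e2)
  have h20 : (2 : F) ≠ 0 := Ring.two_ne_zero h2
  let S₀ : Sym F := ⟨!![e, 0; 0, 1], by ext i j; fin_cases i <;> fin_cases j <;> rfl⟩
  by_cases ht : (S₀.1 * K).trace = 2 * d
  · refine suff ⟨-S₀.1, by rw [transpose_neg, S₀.2]⟩ (by simp [S₀, det_fin_two]) ?_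
    rw [Matrix.neg_mul, trace_neg, ht]
    intro z
    have : (2 * 2) * d = 0 := by linear_combination -z
    simp [h20, hd] at this
  · exact suff S₀ (by simp [S₀, det_fin_two]) ht

/-- the square of the class -/
theorem exists_square {t d : F} (h : Good t d) (Y : GL (Fin 2) F) (hY : (Y : M2 F) = comp2 t d)
    (g : Sp4 F) (hg : g ∉ Subgroup.center (Sp4 F)) :
    ∃ u v : Sp4 F, g = (u * lv Y * u⁻¹) * (v * lv Y * v⁻¹) := by
  have hd := h.d_ne
  -- conjugate to a good first block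
  obtain ⟨z, hdet, hM⟩ : ∃ z : Sp4 F, (bA (z * g * z⁻¹)).det = d ^ 2 ∧ (bA (z * g * z⁻¹) = d • 1 ∨
      ((¬ ∃ c : F, bA (z * g * z⁻¹) = c • 1) ∧ (bA (z * g * z⁻¹)).trace ≠ 2 * d)) := by
    obtain ⟨z, hz⟩ := exists_lower_ne hg
    set g₁ := z * g * z⁻¹
    by_cases hK : (bC g₁).det = 0
    · obtain ⟨w, hw, hKw⟩ := Matrix.exists_mulVec_eq_zero_iff.2 hK
      obtain ⟨Q, hQ0, hQ1⟩ : ∃ Q : GL (Fin 2) F, Q.1 0 0 = w 0 ∧ Q.1 1 0 = w 1 := by
        by_cases hw0 : w 0 = 0
        · have hw1 : w 1 ≠ 0 := fun e => hw (funext fun i => by fin_cases i <;> simp [hw0, e])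
          exact ⟨GeneralLinearGroup.mkOfDetNeZero !![w 0, 1; w 1, 0] (by simp [det_fin_two, hw1]), rfl, rfl⟩
        · exact ⟨GeneralLinearGroup.mkOfDetNeZero !![w 0, 0; w 1, 1] (by simp [det_fin_two, hw0]), rfl, rfl⟩
      set g₂ := lv Q⁻¹ * g₁ * (lv Q⁻¹)⁻¹
      have hC2 : bC g₂ = Q.1ᵀ * bC g₁ * Q.1 := by rw [blocks_lv, inv_inv]
      have hcol : ∀ i, bC g₂ i 0 = 0 := by
        intro i
        rw [hC2, mul_assoc, mul_apply]
        refine Finset.sum_eq_zero fun k _ => ?_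
        have := congrFun hKw k
        simp only [mulVec, dotProduct, Fin.sum_univ_two, Pi.zero_apply] at this
        rw [mul_apply, Fin.sum_univ_two, hQ0, hQ1, this, mul_zero]
      have hne : bC g₂ ≠ 0 := fun e => hz (by
        have h' := congrArg (fun Z => (Q⁻¹).1ᵀ * Z * (Q⁻¹).1) (hC2.symm.trans e)
        simp only [mul_zero, zero_mul] at h'
        rw [← h']
        simp [mul_assoc]
        simp [← mul_assoc, ← transpose_mul, g₁])
      obtain ⟨S, hS⟩ := exists_good_block_singular hd g₂ (hcol 0) (hcol 1) hne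
      refine ⟨up S * lv Q⁻¹ * z, ?_⟩
      rw [show up S * lv Q⁻¹ * z * g * (up S * lv Q⁻¹ * z)⁻¹ = up S * g₂ * (up S)⁻¹ by simp only [g₂, g₁]; group,
        blocks_up]
      exact hS
    · obtain ⟨S, hS⟩ := exists_good_block_regular hd g₁ hK
      refine ⟨up S * z, ?_⟩
      rw [show up S * z * g * (up S * z)⁻¹ = up S * g₁ * (up S)⁻¹ by simp only [g₁]; group, blocks_up]
      exact hS
  obtain ⟨S, T, e⟩ := cell (z * g * z⁻¹) (by rw [hdet]; exact pow_ne_zero 2 hd)
  obtain ⟨P, Q, hPQ⟩ := h.exists_factor _ hdet hM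
  have hfac : GeneralLinearGroup.mkOfDetNeZero (bA (z * g * z⁻¹)) (by rw [hdet]; exact pow_ne_zero 2 hd) =
      (P * Y * P⁻¹) * (Q * Y * Q⁻¹) := Units.ext (by
    rw [Units.val_mul, Units.val_mul, Units.val_mul, Units.val_mul, Units.val_mul, hY]
    exact hPQ)
  rw [hfac] at e
  obtain ⟨a, ha⟩ := conj_lo h Y hY (cg P.1ᵀ S)
  obtain ⟨b, hb⟩ := conj_up h Y hY (cg (Q⁻¹).1 T)
  refine ⟨z⁻¹ * lv P * a, z⁻¹ * lv Q * b, ?_⟩
  calc g = z⁻¹ * (z * g * z⁻¹) * z := by group
    _ = z⁻¹ * ((lo S * lv P) * lv Y * lv P⁻¹ * lv Q * lv Y * (lv Q⁻¹ * up T)) * z := by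
      rw [e]; simp only [map_mul, mul_assoc]
    _ = z⁻¹ * (lv P * (lo (cg P.1ᵀ S) * lv Y) * lv P⁻¹ * (lv Q * (lv Y * up (cg (Q⁻¹).1 T)) * lv Q⁻¹)) * z := by
      rw [lo_lv, lv_up]; simp only [mul_assoc]
    _ = _ := by rw [← ha, ← hb, map_inv, map_inv]; group

/-- the projective statement -/
theorem square (p : ℕ) [Fact p.Prime] [CharP F p] (h3 : 3 ≤ Fintype.card F) :
    ∃ x : Cfsg.PSp 2 F, ¬ p ∣ orderOf x ∧
      ∀ g : Cfsg.PSp 2 F, g ≠ 1 → ∃ u v : Cfsg.PSp 2 F, g = (u * x * u⁻¹) * (v * x * v⁻¹) := by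
  obtain ⟨t, d, h⟩ := Good.exists_good (F := F) h3
  let Y : GL (Fin 2) F := GeneralLinearGroup.mkOfDetNeZero (comp2 t d) (by rw [Good.det_comp2]; exact h.d_ne)
  have hY : (Y : M2 F) = comp2 t d := rfl
  refine ⟨QuotientGroup.mk (lv Y), fun hdvd => h.not_dvd_orderOf p Y hY (hdvd.trans ?_), fun g hg => ?_⟩
  · exact (orderOf_map_dvd (QuotientGroup.mk' _) _).trans (orderOf_map_dvd lv Y)
  · obtain ⟨g, rfl⟩ := QuotientGroup.mk_surjective g
    obtain ⟨u, v, e⟩ := exists_square h Y hY g (fun hc => hg ((QuotientGroup.eq_one_iff _).2 hc))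
    exact ⟨QuotientGroup.mk u, QuotientGroup.mk v, by rw [e]; simp only [QuotientGroup.mk_mul, QuotientGroup.mk_inv]⟩

end CfsgLib.Known.SmallSquare.SympFour
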