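import Cfsg.Agent.Lib.Known.SmallSquare.TriCell
import Cfsg.Agent.Lib.Known.SmallSquare.CellPush

/-!
# The pieces of the triality twisted group used in the class square argument
-/

set_option autoImplicit false

namespace CfsgLib.Known.SmallSquare.Tri

open Cfsg.Lie (ChevalleyDatum chevG2 chevD4 twistedD4)
open CfsgLib.Lie.Chev CfsgLib.Lie.Chev.TwGroups CfsgLib.Known.G2Singer
open CfsgLib.Known.TrialityTorus (valT valT_tup cfL)
open Matrix
open scoped MatrixGroups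

universe u

variable {K : Type u} [Field K] [Fintype K] {q : ℕ} (hq : IsPrimePow q) (hK : Fintype.card K = q ^ 3)

/-- the twisted group inside the Chevalley group -/
noncomputable abbrev P1 : Subgroup (GD K) := (twD4 hq hK).P1

/-- a root element of the orbit of three roots -/
noncomputable def xk (q : ℕ) (t : K) : GD K :=
  (RD K).xe 18 t * ((RD K).xe 13 (t ^ q) * (RD K).xe 12 ((t ^ q) ^ q))

theorem xk_mem (t : K) : xk q t ∈ P1 hq hK := wordD4_triple_mem (a := 18) (b := 13) (c := 12) (by decide) t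

include hq hK in
theorem xk_add (r t : K) : xk q r * xk q t = xk q (r + t) := by
  obtain ⟨⟨c1, c2, c3⟩, -⟩ := commD4
  have k : Commute ((RD K).xe 13 (r ^ q) * (RD K).xe 12 ((r ^ q) ^ q)) ((RD K).xe 18 t) :=
    ((xG_commute certD4 c1 t (r ^ q)).symm).mul_left (xG_commute certD4 c2 t ((r ^ q) ^ q)).symm
  have k2 : Commute ((RD K).xe 12 ((r ^ q) ^ q)) ((RD K).xe 13 (t ^ q)) :=
    (xG_commute certD4 c3 (t ^ q) ((r ^ q) ^ q)).symm
  have f1 : (r + t) ^ q = r ^ q + t ^ q := by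
    rw [← frD4_apply hq hK, ← frD4_apply hq hK, ← frD4_apply hq hK, map_add]
  have f2 : (r ^ q + t ^ q) ^ q = (r ^ q) ^ q + (t ^ q) ^ q := by
    rw [← frD4_apply hq hK, ← frD4_apply hq hK (r ^ q), ← frD4_apply hq hK (t ^ q), map_add]
  simp only [xk]
  rw [f1, f2, ← (RD K).xe_add' 18 r t, ← (RD K).xe_add' 13, ← (RD K).xe_add' 12, mul_assoc ((RD K).xe 18 r),
    ← mul_assoc ((RD K).xe 13 (r ^ q) * (RD K).xe 12 ((r ^ q) ^ q)), k.eq]
  simp only [mul_assoc]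
  rw [← mul_assoc ((RD K).xe 12 ((r ^ q) ^ q)), k2.eq]
  simp only [mul_assoc]

include hq hK in
theorem ht_mem_P1 (x : Kˣ) : ht q x ∈ P1 hq hK := by
  have h := (Subgroup.mem_inf.1 (psiD4_mem hq hK ((1 : fixU K q), x))).1
  rwa [psiD4_apply] at h

/-- the short orbit word -/
def ow : ℕ → List ℕ
  | 0 => [0, 2, 3]
  | _ => [1]

/-- expansion of a word in the relative simple reflections -/
def ex (l : List ℕ) : List ℕ := l.flatMap ow

/-- the monomial element of an orbit -/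
noncomputable def sk (K : Type u) [Field K] (k : Fin 2) : (RD K).NS :=
  (((ow k).filterMap fun i => if h : i < chevD4.rank then some ⟨i, h⟩ else none).map fun i => (RD K).nS i).prod

omit [Fintype K] in
theorem sk_zero : sk K 0 = (RD K).nS ⟨0, by decide +kernel⟩ *
    ((RD K).nS ⟨2, by decide +kernel⟩ * (RD K).nS ⟨3, by decide +kernel⟩) := by
  have h : ∀ i, i < 4 → i < chevD4.rank := fun i hi => lt_of_lt_of_eq hi (by decide +kernel)
  simp [sk, ow, h]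

omit [Fintype K] in
theorem sk_one : sk K 1 = (RD K).nS ⟨1, by decide +kernel⟩ := by
  have h : ∀ i, i < 4 → i < chevD4.rank := fun i hi => lt_of_lt_of_eq hi (by decide +kernel)
  simp [sk, ow, h]

omit [Fintype K] in
theorem sk_perm (k : Fin 2) (r : Fin chevD4.nroots) : ((RD K).nsPerm (sk K k) r : ℕ) = wNum (ow k) r := by
  fin_cases k
  · show ((RD K).nsPerm (sk K 0) r : ℕ) = _
    rw [sk_zero, map_mul, map_mul, Rel.nsPerm_nS, Rel.nsPerm_nS, Rel.nsPerm_nS]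
    simp only [Equiv.Perm.mul_apply, Rel.wperm_apply]
    rfl
  · show ((RD K).nsPerm (sk K 1) r : ℕ) = _
    rw [sk_one, Rel.nsPerm_nS]
    rfl

theorem class_facts : (∀ k : Fin 2, ∀ r : Fin 24, (12 ≤ (r : ℕ) ∧ wNum (ow k) r < 12) ↔
      (r : ℕ) ∈ [[12, 13, 18], [14]].getD (k : ℕ) []) ∧
    (∀ k : Fin 2, ∀ r : Fin 24, (12 ≤ (r : ℕ) ∧ ∀ i : Fin 4,
        (orbLD4.getD (i : ℕ) 0 ≠ (k : ℕ)) → auxD4.coef i r = 0) ↔
      (r : ℕ) ∈ [[12, 13, 18], [14]].getD (k : ℕ) []) ∧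
    (∀ k : Fin 2, ∀ r : Fin 24, wNum (ow k) (wNum (ow k) r) = r) := by decide +kernel

omit [Fintype K] in
theorem invSet_sk (k : Fin 2) :
    invSet ((RD K).nsPerm (sk K k)) = posSub chevD4 auxD4 orbD4 k := by
  ext r
  show (half chevD4 ≤ (r : ℕ) ∧ ¬ half chevD4 ≤ ((RD K).nsPerm (sk K k) r : ℕ)) ↔ _
  rw [sk_perm, half_eq.1, not_le]
  refine (class_facts.1 k r).trans ((class_facts.2.1 k r).symm.trans ?_)
  constructor
  · rintro ⟨h1, h2⟩
    refine ⟨by rw [half_eq.1]; exact h1, fun i hi hin => h2 ⟨i, hi⟩ fun e => hin ⟨⟨i, hi⟩, rfl, Fin.ext ?_⟩⟩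
    rw [← orbD4_ho]
    exact e
  · rintro ⟨h1, h2⟩
    refine ⟨by rwa [half_eq.1] at h1, fun i hi => h2 i i.2 ?_⟩
    rintro ⟨i', e1, e2⟩
    apply hi
    have : i' = ⟨(i : ℕ), i.2⟩ := Fin.ext e1
    rw [this] at e2
    rw [← e2]
    exact orbD4_ho ⟨(i : ℕ), i.2⟩

omit [Fintype K] in
theorem groupMap_ne_g2 {F : Type u} [Field F] (j : F →+* K) (r : ℕ) (c : F) :
    ChevFixed.groupMap chevG2 j ((RR F).ne r c) = (RR K).ne r (j c) := G2.groupMap_ne j r c

section Sub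

variable {F : Type u} [Field F] (j : F →+* K)

/-- the Levi map over the subfield -/
noncomputable def phiF : GL (Fin 2) F →* GD K := phi.comp (GeneralLinearGroup.map j)

theorem phiF_def (A : GL (Fin 2) F) : phiF j A = phi (GeneralLinearGroup.map j A) := rfl

theorem phiF_lev (A : GL (Fin 2) F) : phiF j A = iota K (ChevFixed.groupMap chevG2 j (G2.lev A)) := by
  rw [phiF_def, phi_def, G2.lev_def, G2.lev_def, emb_map]
  refine congrArg (iota K) (congrArg (emb K) (Subtype.ext ?_))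
  show G2.blkMat (GeneralLinearGroup.map j A) = (G2.blkMat A).map j
  ext a b
  fin_cases a <;> fin_cases b <;> simp [G2.blkMat, det_fin_two]

variable (hj : ∀ a : K, a ^ q = a ↔ a ∈ j.range)
include hj

theorem iota_mem_P1 (g : GG F) : iota K (ChevFixed.groupMap chevG2 j g) ∈ P1 hq hK := by
  suffices h : (P1 hq hK).comap ((iota K).comp (ChevFixed.groupMap chevG2 j)) = ⊤ from
    Subgroup.mem_comap.1 (show g ∈ (P1 hq hK).comap ((iota K).comp (ChevFixed.groupMap chevG2 j)) by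
      rw [h]; exact Subgroup.mem_top g)
  refine ChevGen.eq_top_of_simple (RR F) _ fun i t => ?_
  have ht : j t ^ q = j t := (hj _).2 ⟨t, rfl⟩
  obtain ⟨⟨c1, c2, c3⟩, ⟨e1, e2, e3⟩, -⟩ := commD4
  have n7 : chevG2.neg 7 = 4 := (G2.simple_one.2.2.2.2 7 :)
  simp only [Subgroup.mem_comap, MonoidHom.comp_apply, ChevFixed.groupMap_xe]
  obtain ⟨i, hi⟩ := i
  have hi2 : i < 2 := hi
  obtain rfl | rfl : i = 0 ∨ i = 1 := by omega
  · simp only [show chevG2.simple 0 = 7 from G2.simple_one.2.2.1, n7]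
    refine ⟨?_, ?_⟩
    · rw [(rows (j t)).2.2.2.2.2.1, show (RD K).xe 12 (j t) * ((RD K).xe 18 (j t) * (RD K).xe 13 (j t)) =
        xk q (j t) by
          have k2 : (RD K).xe 12 (j t) * (RD K).xe 18 (j t) = (RD K).xe 18 (j t) * (RD K).xe 12 (j t) :=
            ((xG_commute certD4 c2 (j t) (j t)).symm).eq
          have k3 : (RD K).xe 12 (j t) * (RD K).xe 13 (j t) = (RD K).xe 13 (j t) * (RD K).xe 12 (j t) :=
            ((xG_commute certD4 c3 (j t) (j t)).symm).eq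
          simp only [xk, ht]
          rw [← mul_assoc, k2, mul_assoc, k3]]
      exact xk_mem hq hK _
    · rw [(rows (j t)).2.2.1]
      have h := wordD4_triple_mem (K := K) (q := q) (a := 5) (b := 10) (c := 11) (by decide) (j t)
      rwa [ht, ht] at h
  · simp only [show chevG2.simple 1 = 6 from G2.simple_one.1, G2.simple_one.2.1]
    refine ⟨?_, ?_⟩
    · rw [(rows (j t)).2.2.2.2.1]
      exact wordD4_single_mem (r := 14) (by decide) ht
    · rw [(rows (j t)).2.2.2.1]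
      exact wordD4_single_mem (r := 9) (by decide) ht

theorem phiF_mem (A : GL (Fin 2) F) : phiF j A ∈ P1 hq hK := phiF_lev j A ▸ iota_mem_P1 hq hK j hj _

theorem sk_mem (k : Fin 2) : ((sk K k : (RD K).NS) : GD K) ∈ P1 hq hK := by
  have p := fun (i : ℕ) (hi : i < chevG2.rank) => ChevFold.psi_ne certD4 certG2 (ChevFoldData.dataG2 K).hp
    (ChevFoldData.dataG2 K).hQ (ChevFoldData.dataG2 K).hO (iota K) iota_xe (j := i) hi (1 : K)
  have m := fun i => iota_mem_P1 hq hK j hj ((RR F).ne (chevG2.simple i) 1)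
  simp only [groupMap_ne_g2, map_one] at m
  fin_cases k
  · show ((sk K 0 : (RD K).NS) : GD K) ∈ _
    have h := m 0
    rw [p 0 (by decide)] at h
    rw [sk_zero, Subgroup.coe_mul, Subgroup.coe_mul]
    simp [ChevFoldData.dataG2] at h
    exact h
  · show ((sk K 1 : (RD K).NS) : GD K) ∈ _
    have h := m 1
    rw [p 1 (by decide)] at h
    rw [sk_one]
    simp [ChevFoldData.dataG2] at h
    exact h

theorem fixed_class_zero {w : GD K} (hw : w ∈ (RD K).US (invSet ((RD K).nsPerm (sk K 0))))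
    (hσ : σD4 hq hK w = w) : ∃ t : K, w = xk q t := by
  rw [invSet_sk] at hw
  obtain ⟨⟨a1, a2, a3, a4⟩, -⟩ := twAtD4
  obtain ⟨l0, l1⟩ := classD4
  obtain ⟨⟨c1, c2, c3⟩, -⟩ := commD4
  obtain ⟨t, -, rfl⟩ := triple_fixed certD4 orbD4_ho 0 (wordD4 0) l0 permD4 c1 c2 c3 (σD4_simple hq hK a1)
    (σD4_simple hq hK a2) (σD4_simple hq hK a3) hw hσ
  exact ⟨t, rfl⟩

theorem fixed_class_one {w : GD K} (hw : w ∈ (RD K).US (invSet ((RD K).nsPerm (sk K 1))))
    (hσ : σD4 hq hK w = w) : ∃ t : F, w = (RD K).xe 14 (j t) := by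
  rw [invSet_sk] at hw
  obtain ⟨⟨a1, a2, a3, a4⟩, -⟩ := twAtD4
  obtain ⟨l0, l1⟩ := classD4
  obtain ⟨t, ht, rfl⟩ := single_fixed certD4 orbD4_ho 1 (wordD4 1) l1 (σD4_simple hq hK a4) hw hσ
  obtain ⟨s, rfl⟩ := (hj t).1 ht
  exact ⟨s, rfl⟩

theorem mem_HS_P1 {h : GD K} (hh : h ∈ (RD K).HS) (h1 : h ∈ P1 hq hK) :
    ∃ (a : Fˣ) (x : Kˣ), h = phiF j (G2.dg a a⁻¹) * ht q x := by
  obtain ⟨⟨⟨a, ha⟩, d⟩, rfl⟩ := (psiD4_range hq hK).ge (Subgroup.mem_inf.2 ⟨h1, hh⟩)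
  rw [fixU_iff hq.pos] at ha
  obtain ⟨b, hb⟩ := (hj (a : K)).1 (by rw [← Units.val_pow_eq_pow_val, ha])
  have hb0 : b ≠ 0 := fun z => a.ne_zero (by rw [← hb, z, map_zero])
  refine ⟨Units.mk0 b hb0, d, ?_⟩
  have e : GeneralLinearGroup.map j (G2.dg (Units.mk0 b hb0) (Units.mk0 b hb0)⁻¹) = G2.dg a a⁻¹ := by
    refine Units.ext ?_
    show (G2.dg (Units.mk0 b hb0) (Units.mk0 b hb0)⁻¹).1.map j = _
    rw [G2.dg_val, G2.dg_val]
    ext i k; fin_cases i <;> fin_cases k <;> simp [hb]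
  rw [psiD4_apply, phiF_def, e]
  show _ = lv q (G2.dg a a⁻¹) d
  rw [lv_dg]
  congr 2
  funext i
  obtain ⟨i, hi⟩ := i
  have hi4 : i < 4 := hi
  interval_cases i <;> simp [tupD4, tup]

theorem exists_of_BS {g : GD K} (hg : g ∈ (RD K).BS) (h1 : g ∈ P1 hq hK) :
    ∃ (a : Fˣ) (t : F) (x : Kˣ), ∃ u ∈ U4 K ⊓ P1 hq hK, g = phiF j (G2.T01 t * G2.dg a a⁻¹) * ht q x * u := by
  obtain ⟨v, hv, h, hh, rfl, hv1, hh1⟩ := (twD4 hq hK).exists_BS_factor hg h1
  obtain ⟨p, hp, w, hw, rfl, hσp, hσw⟩ := (twD4 hq hK).fixed_factor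
    ((twD4 hq hK).hfix _ (sk_mem hq hK j hj 1)) hv ((twD4 hq hK).hfix v hv1)
  obtain ⟨t, rfl⟩ := fixed_class_one hq hK j hj hw hσw
  have hp1 : p ∈ P1 hq hK := (twD4 hq hK).mem_P1_of_fixed_UP ((RD K).US_mono (Rel.keepSet_subset _) hp) hσp
  have hpU : p ∈ U4 K := by
    refine (RD K).US_mono (fun r hr => ?_) hp
    refine mem_rest.2 ⟨by rw [← half_eq.1]; exact hr.1, fun e => ?_⟩
    have h2 := hr.2
    rw [sk_perm, half_eq.1, e] at h2
    revert h2
    decide +kernel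
  obtain ⟨a, x, rfl⟩ := mem_HS_P1 hq hK j hj hh hh1
  have hx14 : (RD K).xe 14 (j t) = phiF j (G2.T01 t) := by
    rw [phiF_def, ← phi_T01]
    refine congrArg phi (Units.ext ?_)
    show _ = (G2.T01 t).1.map j
    rw [G2.T01_val, G2.T01_val]
    ext i k; fin_cases i <;> fin_cases k <;> simp
  have hl : phiF j (G2.T01 t * G2.dg a a⁻¹) * ht q x ∈
      Subgroup.normalizer (U4 K : Set (GD K)) ⊓ Subgroup.normalizer (V4 K : Set (GD K)) := lv_normalizer q _ x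
  refine ⟨a, t, x, _, Subgroup.mem_inf.2 ⟨(conj_U4 hl hpU).2, mul_mem (mul_mem (inv_mem (mul_mem
    (phiF_mem hq hK j hj _) (ht_mem_P1 hq hK x))) hp1) (mul_mem (phiF_mem hq hK j hj _) (ht_mem_P1 hq hK x))⟩, ?_⟩
  rw [map_mul, hx14]
  group

/-- conjugate inside the twisted group into a cell -/
def Form (g : GD K) (τ : Equiv.Perm (Fin chevD4.nroots)) : Prop :=
  ∃ z ∈ P1 hq hK, CellPush.InCell (RD K) (z * g * z⁻¹) τ

omit hj in
theorem Form.normal {g : GD K} (hg : g ∈ P1 hq hK) {τ : Equiv.Perm (Fin chevD4.nroots)} (hF : Form hq hK g τ) :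
    ∃ z ∈ P1 hq hK, ∃ b ∈ (RD K).BS, b ∈ P1 hq hK ∧
      ∃ n : (RD K).NS, (n : GD K) ∈ P1 hq hK ∧ (RD K).nsPerm n = τ ∧ z * g * z⁻¹ = b * n := by
  obtain ⟨z, hz, b, hb, b', hb', m, hm, ⟨a, ha⟩, e⟩ := hF
  obtain ⟨v, hv, n, u, hu, e2, hv1, hn1, hu1⟩ := (twD4 hq hK).P1_bnu (mul_mem (mul_mem hz hg) (inv_mem hz))
  obtain ⟨p, hp, h, hh, rfl⟩ := (RD K).exists_of_mem_BS hb'
  have hp' : h⁻¹ * p * h ∈ (RD K).UP := by
    have := (Subgroup.mem_normalizer_iff.1 ((RD K).HS_le_normalizer_US _ (inv_mem hh)) p).1 hp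
    rwa [inv_inv] at this
  obtain ⟨m', hm'⟩ : ∃ m' : (RD K).NS, (m' : GD K) = m * h := ⟨⟨_, mul_mem hm ((RD K).HS_le_NS hh)⟩, rfl⟩
  have hperm : (RD K).nsPerm m' = τ := by
    obtain ⟨c, hc⟩ := (RD K).isMon_of_mem_HS hh
    have hmm := (RD K).isMon_mul ha hc
    rw [← hm', mul_one] at hmm
    exact (RD K).nsPerm_eq hmm
  have hq' := (RD K).bnu_weyl (n := n) (n' := m') ((RD K).UP_le_BS hv) hb
    ((RD K).US_mono (Rel.invSet_subset _) hu) hp' (by rw [← e2, e, hm']; group)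
  have hn : (RD K).nsPerm n = τ := by
    have := (RD K).nsPerm_of_mem_HS (n⁻¹ * m') hq'
    rw [map_mul, map_inv, inv_mul_eq_one] at this
    rw [this, hperm]
  refine ⟨u * z, mul_mem hu1 hz, u * v, mul_mem ((RD K).UP_le_BS ((RD K).US_mono (Rel.invSet_subset _) hu))
    ((RD K).UP_le_BS hv), mul_mem hu1 hv1, n, hn1, hn, ?_⟩
  rw [show u * z * g * (u * z)⁻¹ = u * (z * g * z⁻¹) * u⁻¹ by group, e2]
  group

end Sub

end CfsgLib.Known.SmallSquare.Tri
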