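import Cfsg.Agent.Lib.Known.SmallSquare.TriBase

/-!
# Reduction to two cells in the triality twisted groups

Every nontrivial element is conjugate inside the twisted group into the big cell of the long root parabolic or
into the cell of the reflection in the highest root.
-/

set_option autoImplicit false

namespace CfsgLib.Known.SmallSquare.Tri

open Cfsg.Lie (ChevalleyDatum chevG2 chevD4 twistedD4)
open CfsgLib.Lie.Chev CfsgLib.Lie.Chev.TwGroups CfsgLib.Known.G2Singer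
open Matrix
open scoped MatrixGroups

universe u

/-- the roots of an orbit class -/
def cls (k : ℕ) : List ℕ := [[12, 13, 18], [14]].getD k []

/-- reduced relative words -/
def words : List (List ℕ) :=
  [[], [0], [1], [0, 1], [1, 0], [0, 1, 0], [1, 0, 1], [0, 1, 0, 1], [1, 0, 1, 0], [0, 1, 0, 1, 0], [1, 0, 1, 0, 1],
    [0, 1, 0, 1, 0, 1]]

/-- the permutation of a relative word -/
def pw (l : List ℕ) (r : ℕ) : ℕ := wNum (ex l) r

theorem words_closed : ∀ l ∈ words, ∀ k : Fin 2, ∃ l' ∈ words, ∀ r : Fin 24, pw l (wNum (ow k) r) = pw l' r := by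
  decide +kernel

/-- what happens at a relative word -/
def Move (l : List ℕ) : Prop :=
  (∀ r : Fin 24, pw l r = 23 - r) ∨ (∀ r : Fin 24, pw l r = wNum (ow 1) (23 - r)) ∨
  (∀ r : Fin 24, pw l r = wNum [1, 0, 2, 3, 1, 3, 2, 0, 1] r) ∨
  ∃ k : Fin 2, (∀ r : Fin 24, pw l r ∈ cls k → 12 ≤ wNum (ow k) r) ∧
    ((∃ l' ∈ words, l.length < l'.length ∧ ∀ r : Fin 24, pw l' r = wNum (ow k) (pw l (wNum (ow k) r))) ∨
      ((∀ r : Fin 24, (r : ℕ) ∈ cls k → 12 ≤ wNum (ow k) (pw l (wNum (ow k) r))) ∧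
        ∃ l' ∈ words, l.length < l'.length ∧ ∀ r : Fin 24, pw l' r = wNum (ow k) (pw l r)))

theorem words_move : ∀ l ∈ words, l = [] ∨ Move l := by
  unfold Move
  decide +kernel

theorem cls_facts : (∀ k : Fin 2, ∀ r : Fin 24, (12 ≤ (r : ℕ) ∧ wNum (ow k) r < 12) ↔ (r : ℕ) ∈ cls k) ∧
    (∀ r : Fin 24, wNum (ow 0) (wNum [3, 2, 0] r) = r) ∧ (∀ r : Fin 24, wNum (ow 1) (wNum [1] r) = r) ∧
    chevD4.simple 0 = 18 ∧ chevD4.simple 1 = 14 ∧ chevD4.simple 2 = 13 ∧ chevD4.simple 3 = 12 ∧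
    auxD4.w 0 13 = 13 ∧ auxD4.w 0 12 = 12 ∧ auxD4.w 2 18 = 18 ∧ auxD4.w 2 12 = 12 ∧ auxD4.w 3 18 = 18 ∧
    auxD4.w 3 13 = 13 := by decide +kernel

variable {K : Type u} [Field K] [Fintype K] {q : ℕ} (hq : IsPrimePow q) (hK : Fintype.card K = q ^ 3)

variable {F : Type u} [Field F] (j : F →+* K) (hj : ∀ a : K, a ^ q = a ↔ a ∈ j.range)

omit [Fintype K] in
theorem sk_invol (k : Fin 2) (r : Fin chevD4.nroots) :
    (RD K).nsPerm (sk K k) ((RD K).nsPerm (sk K k) r) = r :=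
  Fin.ext (by rw [sk_perm, sk_perm]; exact class_facts.2.2 k r)

omit [Fintype K] in
theorem sk_perm_inv (k : Fin 2) : ((RD K).nsPerm (sk K k))⁻¹ = (RD K).nsPerm (sk K k) :=
  Equiv.ext fun r => (Equiv.symm_apply_eq _).2 (sk_invol k r).symm

omit [Fintype K] in
theorem mem_invSet_sk (k : Fin 2) {r : Fin chevD4.nroots} :
    r ∈ invSet ((RD K).nsPerm (sk K k)) ↔ (r : ℕ) ∈ cls k := by
  show half chevD4 ≤ (r : ℕ) ∧ ¬ half chevD4 ≤ ((RD K).nsPerm (sk K k) r : ℕ) ↔ _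
  rw [sk_perm, half_eq.1, not_le]
  exact cls_facts.1 k r

theorem nJ_perm (k : Fin 2) :
    (RD K).nsPerm ((twD4 hq hK).nJ k) = (RD K).nsPerm (sk K k) := by
  have hinv : ((RD K).nsPerm ((twD4 hq hK).nJ k))⁻¹ = (RD K).nsPerm ((twD4 hq hK).nJ k) :=
    Equiv.ext fun r => (Equiv.symm_apply_eq _).2 ((twD4 hq hK).nJ_perm_invol k r).symm
  have h1 : (RD K).nsPerm (sk K k * ((twD4 hq hK).nJ k)⁻¹) = 1 := by
    refine (RD K).nsPerm_of_mem_HS _ ((RD K).nsPerm_eq_one_of_pos _ fun i => ?_)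
    rw [map_mul, map_inv, hinv, Equiv.Perm.mul_apply]
    have e : invSet ((RD K).nsPerm (sk K k)) = posSub chevD4 auxD4 orbD4 k := invSet_sk k
    by_cases hr : (RD K).sroot i ∈ posSub chevD4 auxD4 orbD4 k
    · have h := (twD4 hq hK).nJ_posSub (k := k) hr
      change _ ∈ posSub chevD4 auxD4 orbD4 k at h
      rw [← e] at h
      have h2 := h.2
      rw [(RD K).nsPerm_negF, (RD K).negF_pos_iff, not_not] at h2
      exact h2
    · have h := (twD4 hq hK).nJ_pos (k := k) ((RD K).sroot_pos i) hr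
      have h2 : (RD K).nsPerm ((twD4 hq hK).nJ k) ((RD K).sroot i) ∉ invSet ((RD K).nsPerm (sk K k)) := by
        rw [e]; exact h.2
      by_contra hc
      exact h2 ⟨h.1, hc⟩
  rw [map_mul, map_inv, mul_inv_eq_one] at h1
  exact h1.symm

theorem exists_word (n : (RD K).NS) (hn : (n : GD K) ∈ P1 hq hK) :
    ∃ l ∈ words, ∀ r, ((RD K).nsPerm n r : ℕ) = pw l r := by
  induction hN : (invSet ((RD K).nsPerm n)).ncard using Nat.strong_induction_on generalizing n with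
  | _ N ih =>
    by_cases hH : (n : GD K) ∈ (RD K).HS
    · refine ⟨[], by simp [words], fun r => ?_⟩
      rw [(RD K).nsPerm_of_mem_HS n hH]
      rfl
    · obtain ⟨k, hk⟩ := (twD4 hq hK).exists_descent_orb ((twD4 hq hK).hfix _ hn) hH
      have h1 := (twD4 hq hK).ncard_inv_mul_nJ hk
      have h2 := (twD4 hq hK).posSub_nonempty k
      have h3 : (invSet ((RD K).nsPerm (n * ((twD4 hq hK).nJ k)⁻¹))).ncard < N :=
        lt_of_lt_of_eq (Nat.lt_add_of_pos_right h2) (h1.trans hN)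
      obtain ⟨l, hl, hlw⟩ := ih _ h3 (n * ((twD4 hq hK).nJ k)⁻¹)
        (mul_mem hn (inv_mem ((twD4 hq hK).nJ_mem k))) rfl
      change Fin 2 at k
      obtain ⟨l', hl', e⟩ := words_closed l hl k
      refine ⟨l', hl', fun r => ?_⟩
      rw [show (RD K).nsPerm n = (RD K).nsPerm (n * ((twD4 hq hK).nJ k)⁻¹) * (RD K).nsPerm ((twD4 hq hK).nJ k) by
        rw [← map_mul, inv_mul_cancel_right], Equiv.Perm.mul_apply, hlw, nJ_perm, sk_perm]
      exact e r

theorem exists_form {g : GD K} (hg : g ∈ P1 hq hK) (hne : g ≠ 1) :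
    ∃ τ, τ ≠ 1 ∧ Form hq hK g τ := by
  obtain ⟨z, hz, hzg⟩ : ∃ z ∈ P1 hq hK, z * g * z⁻¹ ∉ (RD K).BS := by
    by_contra hall
    push Not at hall
    have h : (⟨g, hg⟩ : P1 hq hK) ∈ ((RD K).BS.subgroupOf (P1 hq hK)).normalCore := fun z => hall z z.2
    rw [(twD4 hq hK).core_eq_bot (faithfulD4 hq hK), Subgroup.mem_bot] at h
    exact hne (congrArg Subtype.val h)
  obtain ⟨v, hv, m, u, hu, e, -, -, -⟩ := (twD4 hq hK).P1_bnu (mul_mem (mul_mem hz hg) (inv_mem hz))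
  have hu' : u ∈ (RD K).BS := (RD K).UP_le_BS ((RD K).US_mono (Rel.invSet_subset _) hu)
  refine ⟨(RD K).nsPerm m, fun h1 => hzg ?_, z, hz, v, (RD K).UP_le_BS hv, u, hu', m, m.2,
    (RD K).isMon_nsPerm m, e⟩
  rw [e]
  exact mul_mem (mul_mem ((RD K).UP_le_BS hv) ((RD K).HS_le_BS ((RD K).mem_HS_of_nsPerm h1))) hu'

include hj

/-- conjugation by the monomial element of an orbit -/
theorem climb {g : GD K} (hg : g ∈ P1 hq hK) {τ : Equiv.Perm (Fin chevD4.nroots)} (hF : Form hq hK g τ) (k : Fin 2)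
    (hτ : ∀ r : Fin chevD4.nroots, (τ r : ℕ) ∈ cls k → 12 ≤ wNum (ow k) r) :
    Form hq hK g ((RD K).nsPerm (sk K k) * τ * (RD K).nsPerm (sk K k)) := by
  obtain ⟨z, hz, b, hb, -, n, -, hn, e⟩ := hF.normal hq hK hg
  have hpos : ∀ r ∈ invSet ((RD K).nsPerm (sk K k)),
      half chevD4 ≤ (((RD K).nsPerm (sk K k * n * (sk K k)⁻¹))⁻¹ ((RD K).nsPerm (sk K k) r) : ℕ) := by
    intro r hr
    rw [map_mul, map_mul, map_inv, hn, _root_.mul_inv_rev, _root_.mul_inv_rev, inv_inv, sk_perm_inv,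
      Equiv.Perm.mul_apply, Equiv.Perm.mul_apply, sk_invol, sk_perm, half_eq.1]
    refine hτ _ ?_
    rw [show τ (τ⁻¹ r) = r from τ.apply_symm_apply r]
    exact (mem_invSet_sk k).1 hr
  obtain ⟨c, hc, m, u, hu, hm, es⟩ := CellPush.conj_split (RD K) (sk K k) n hb hpos
  obtain ⟨am, ham⟩ := (RD K).isMon_nsPerm m
  rw [hm, map_mul, map_mul, map_inv, hn, sk_perm_inv] at ham
  refine ⟨(sk K k : GD K) * z, mul_mem (sk_mem hq hK j hj k) hz, c, hc, u, hu, m, m.2, ⟨am, ham⟩, ?_⟩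
  rw [← es, ← e]
  group

omit [Fintype K] hj in
/-- the simple roots of an orbit moved by its monomial element -/
theorem sk_move (k : Fin 2) (i : Fin chevD4.rank) (hi : chevD4.simple i ∈ cls k)
    (hm : wNum (ow k) (chevD4.simple i) = 23 - chevD4.simple i) (t : K) (ht : t ≠ 0) :
    ∃ y : K, y ≠ 0 ∧ (sk K k : GD K) * (RD K).xe (chevD4.simple i) t * (sk K k : GD K)⁻¹ =
      (RD K).xe ((RD K).negF ((RD K).sroot i)) y := by
  obtain ⟨a, ha⟩ := (RD K).isMon_nsPerm (sk K k)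
  refine ⟨_, mul_ne_zero (ha ((RD K).sroot i)).1 ht, ((ha ((RD K).sroot i)).2.2.2 t).trans ?_⟩
  have e : (RD K).nsPerm (sk K k) ((RD K).sroot i) = (RD K).negF ((RD K).sroot i) :=
    Fin.ext (by rw [sk_perm, neg_val]; exact hm)
  rw [e]

/-- conjugation by a root element and the monomial element of an orbit -/
theorem climb' {g : GD K} (hg : g ∈ P1 hq hK) {τ : Equiv.Perm (Fin chevD4.nroots)} (hF : Form hq hK g τ) (k : Fin 2)
    (hτ : ∀ r : Fin chevD4.nroots, (τ r : ℕ) ∈ cls k → 12 ≤ wNum (ow k) r)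
    (hπ : ∀ r : Fin chevD4.nroots, (r : ℕ) ∈ cls k →
      12 ≤ wNum (ow k) (τ ((RD K).nsPerm (sk K k) r))) :
    Form hq hK g ((RD K).nsPerm (sk K k) * τ) := by
  obtain ⟨z, hz, b, hb, -, n, -, hn, e⟩ := hF.normal hq hK hg
  obtain ⟨-, f0, f1, s0, s1, s2, s3, w1, w2, w3, w4, w5, w6⟩ := cls_facts
  obtain ⟨x, L, hxB, hx1, hne, hpw, hcl, hperm, hxL⟩ : ∃ (x : GD K) (L : List (Fin chevD4.rank × K)),
      x ∈ (RD K).BS ∧ x ∈ P1 hq hK ∧ (∀ p ∈ L, p.2 ≠ 0) ∧
      L.Pairwise (fun p r => (RD K).wperm p.1 ((RD K).sroot r.1) = (RD K).sroot r.1) ∧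
      (∀ p ∈ L, chevD4.simple p.1 ∈ cls k) ∧
      (∀ r, (RD K).nsPerm (sk K k) ((L.map fun p => (RD K).wperm p.1).prod r) = r) ∧
      (sk K k : GD K) * x⁻¹ * (sk K k : GD K)⁻¹ =
        (L.map fun p => (RD K).xe ((RD K).negF ((RD K).sroot p.1)) p.2).prod := by
    have h1 : (-1 : K) ≠ 0 := neg_ne_zero.2 one_ne_zero
    have pos : ∀ (n : ℕ) (t : K), 12 ≤ n → n < 24 → (RD K).xe n t ∈ (RD K).BS := fun n t h1 h2 =>
      (RD K).UP_le_BS ((RD K).xe_mem_US (S := posSet chevD4) (r := r4 n h2)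
        (show half chevD4 ≤ n by rw [half_eq.1]; exact h1) t)
    fin_cases k
    · obtain ⟨i0, hi0⟩ : ∃ i : Fin chevD4.rank, (i : ℕ) = 0 := ⟨⟨0, by decide +kernel⟩, rfl⟩
      obtain ⟨i2, hi2⟩ : ∃ i : Fin chevD4.rank, (i : ℕ) = 2 := ⟨⟨2, by decide +kernel⟩, rfl⟩
      obtain ⟨i3, hi3⟩ : ∃ i : Fin chevD4.rank, (i : ℕ) = 3 := ⟨⟨3, by decide +kernel⟩, rfl⟩
      obtain ⟨y0, hy0, e0⟩ := sk_move (K := K) 0 i0 (by rw [hi0, s0]; decide) (by rw [hi0, s0]; decide +kernel) _ h1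
      obtain ⟨y2, hy2, e2⟩ := sk_move (K := K) 0 i2 (by rw [hi2, s2]; decide) (by rw [hi2, s2]; decide +kernel) _ h1
      obtain ⟨y3, hy3, e3⟩ := sk_move (K := K) 0 i3 (by rw [hi3, s3]; decide) (by rw [hi3, s3]; decide +kernel) _ h1
      refine ⟨xk q 1, [(i3, y3), (i2, y2), (i0, y0)], ?_, xk_mem hq hK 1, ?_, ?_, ?_, ?_, ?_⟩
      · exact mul_mem (pos 18 _ (by decide) (by decide))
          (mul_mem (pos 13 _ (by decide) (by decide)) (pos 12 _ (by decide) (by decide)))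
      · simp [hy0, hy2, hy3]
      · simp [Fin.ext_iff, Rel.wperm_apply, Rel.sroot, hi0, hi2, hi3, s0, s2, s3, w3, w5, w6]
      · simp [hi0, hi2, hi3, s0, s2, s3, cls]
      · intro r
        refine Fin.ext ?_
        rw [sk_perm]
        simp only [List.map_cons, List.map_nil, List.prod_cons, List.prod_nil, mul_one, Equiv.Perm.mul_apply,
          Rel.wperm_apply, hi0, hi2, hi3]
        exact f0 r
      · rw [hi0, s0] at e0
        rw [hi2, s2] at e2
        rw [hi3, s3] at e3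
        simp only [xk, one_pow, List.map_cons, List.map_nil, List.prod_cons, List.prod_nil, mul_one]
        rw [← e0, ← e2, ← e3, (RD K).xe_neg, (RD K).xe_neg, (RD K).xe_neg]
        show (sk K 0 : GD K) * _ * (sk K 0 : GD K)⁻¹ = _
        group
    · obtain ⟨i1, hi1⟩ : ∃ i : Fin chevD4.rank, (i : ℕ) = 1 := ⟨⟨1, by decide +kernel⟩, rfl⟩
      obtain ⟨y1, hy1, e1⟩ := sk_move (K := K) 1 i1 (by rw [hi1, s1]; decide) (by rw [hi1, s1]; decide +kernel) _ h1
      refine ⟨(RD K).xe 14 1, [(i1, y1)], pos 14 _ (by decide) (by decide),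
        wordD4_single_mem (by decide) (one_pow q), by simp [hy1], List.pairwise_singleton .., ?_, ?_, ?_⟩
      · simp [hi1, s1, cls]
      · intro r
        refine Fin.ext ?_
        rw [sk_perm]
        simp only [List.map_cons, List.map_nil, List.prod_cons, List.prod_nil, mul_one, Rel.wperm_apply, hi1]
        exact f1 r
      · rw [hi1, s1] at e1
        simp only [List.map_cons, List.map_nil, List.prod_cons, List.prod_nil, mul_one]
        rw [← e1, (RD K).xe_neg]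
        rfl
  have hpos : ∀ r ∈ invSet ((RD K).nsPerm (sk K k)),
      half chevD4 ≤ (((RD K).nsPerm (sk K k * n * (sk K k)⁻¹))⁻¹ ((RD K).nsPerm (sk K k) r) : ℕ) := by
    intro r hr
    rw [map_mul, map_mul, map_inv, hn, _root_.mul_inv_rev, _root_.mul_inv_rev, inv_inv, sk_perm_inv,
      Equiv.Perm.mul_apply, Equiv.Perm.mul_apply, sk_invol, sk_perm, half_eq.1]
    refine hτ _ ?_
    rw [show τ (τ⁻¹ r) = r from τ.apply_symm_apply r]
    exact (mem_invSet_sk k).1 hr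
  obtain ⟨c, hc, m, u, hu, hm, es⟩ := CellPush.conj_split (RD K) (sk K k) n (mul_mem hxB hb) hpos
  obtain ⟨am, ham⟩ := (RD K).isMon_nsPerm m
  rw [hm, map_mul, map_mul, map_inv, hn, sk_perm_inv] at ham
  obtain ⟨b1, hb1, b2, hb2, m', hm', ha', ep⟩ := CellPush.push (RD K) L hne hpw m.2 ham (fun p hp => by
    rw [half_eq.1, Equiv.Perm.mul_apply, Equiv.Perm.mul_apply, sk_perm]
    exact hπ _ (hcl p hp)) hu
  have hτ' : (RD K).nsPerm (sk K k) * τ * (RD K).nsPerm (sk K k) * (L.map fun p => (RD K).wperm p.1).prod =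
      (RD K).nsPerm (sk K k) * τ :=
    Equiv.ext fun r => by simp only [Equiv.Perm.mul_apply, hperm]
  rw [hτ'] at ha'
  refine ⟨(sk K k : GD K) * (x * z), mul_mem (sk_mem hq hK j hj k) (mul_mem hx1 hz), c * b1, mul_mem hc hb1,
    b2, hb2, m', hm', ha', ?_⟩
  calc (sk K k : GD K) * (x * z) * g * ((sk K k : GD K) * (x * z))⁻¹
      = (sk K k : GD K) * (x * (z * g * z⁻¹) * x⁻¹) * (sk K k : GD K)⁻¹ := by group
    _ = ((sk K k : GD K) * (x * b * n) * (sk K k : GD K)⁻¹) *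
          ((sk K k : GD K) * x⁻¹ * (sk K k : GD K)⁻¹) := by rw [e]; group
    _ = c * (m * u * (L.map fun p => (RD K).xe ((RD K).negF ((RD K).sroot p.1)) p.2).prod) := by
        rw [es, hxL]; simp only [mul_assoc]
    _ = _ := by rw [ep]; simp only [mul_assoc]

theorem descend {g : GD K} (hg : g ∈ P1 hq hK) : ∀ (fuel : ℕ) {τ : Equiv.Perm (Fin chevD4.nroots)} {l : List ℕ},
    l ∈ words → (∀ r, (τ r : ℕ) = pw l r) → l ≠ [] → 6 ≤ l.length + fuel → Form hq hK g τ →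
    ∃ τ', Form hq hK g τ' ∧ ((∀ r, (τ' r : ℕ) = 23 - (r : ℕ)) ∨
      (∀ r : Fin chevD4.nroots, (τ' r : ℕ) = wNum (ow 1) (23 - r)) ∨
      (∀ r, (τ' r : ℕ) = wNum [1, 0, 2, 3, 1, 3, 2, 0, 1] r)) := by
  intro fuel
  induction fuel with
  | zero =>
    intro τ l hl hw hne hlen hF
    have : ∀ l ∈ words, 6 ≤ l.length → ∀ r : Fin 24, pw l r = 23 - r := by decide +kernel
    exact ⟨τ, hF, Or.inl fun r => (hw r).trans (this l hl (by omega) r)⟩
  | succ fuel ih =>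
    intro τ l hl hw hne hlen hF
    rcases (words_move l hl).resolve_left hne with h | h | h | ⟨k, hB, h⟩
    · exact ⟨τ, hF, Or.inl fun r => (hw r).trans (h r)⟩
    · exact ⟨τ, hF, Or.inr (Or.inl fun r => (hw r).trans (h r))⟩
    · exact ⟨τ, hF, Or.inr (Or.inr fun r => (hw r).trans (h r))⟩
    have hτ : ∀ r : Fin chevD4.nroots, (τ r : ℕ) ∈ cls k → 12 ≤ wNum (ow k) r := fun r hr => by
      rw [hw] at hr
      exact hB r hr
    rcases h with ⟨l', hl', hlt, e⟩ | ⟨hπ, l', hl', hlt, e⟩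
    · refine ih hl' (fun r => ?_) (fun z => by rw [z] at hlt; simp at hlt) (by omega) (climb hq hK j hj hg hF k hτ)
      rw [Equiv.Perm.mul_apply, Equiv.Perm.mul_apply, sk_perm, hw, sk_perm]
      exact (e r).symm
    · refine ih hl' (fun r => ?_) (fun z => by rw [z] at hlt; simp at hlt) (by omega)
        (climb' hq hK j hj hg hF k hτ fun r hr => by rw [hw, sk_perm]; exact hπ r hr)
      rw [Equiv.Perm.mul_apply, sk_perm, hw]
      exact (e r).symm

/-- conjugate into one of the two cells -/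
theorem exists_cell {g : GD K} (hg : g ∈ P1 hq hK) (hne : g ≠ 1) :
    ∃ τ', Form hq hK g τ' ∧ ((∀ r, (τ' r : ℕ) = 23 - (r : ℕ)) ∨
      (∀ r : Fin chevD4.nroots, (τ' r : ℕ) = wNum (ow 1) (23 - r)) ∨
      (∀ r, (τ' r : ℕ) = wNum [1, 0, 2, 3, 1, 3, 2, 0, 1] r)) := by
  obtain ⟨τ, hτ, hF⟩ := exists_form hq hK hg hne
  obtain ⟨z, hz, b, hb, -, n, hn1, hn, e⟩ := hF.normal hq hK hg
  obtain ⟨l, hl, hw⟩ := exists_word hq hK n hn1
  rw [hn] at hw
  have hl0 : l ≠ [] := by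
    rintro rfl
    exact hτ (Equiv.ext fun r => Fin.ext (hw r))
  exact descend hq hK j hj hg 6 hl hw hl0 (by omega) hF

end CfsgLib.Known.SmallSquare.Tri
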