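import Cfsg.Agent.Lib.Known.SmallSquare.TriLevi
import Cfsg.Agent.Lib.Known.SmallSquare.G2Cell

/-!
# Absorbing the radicals in the triality twisted groups
-/

set_option autoImplicit false

namespace CfsgLib.Known.SmallSquare.Tri

open Cfsg.Lie (ChevalleyDatum chevG2 chevD4 twistedD4)
open CfsgLib.Lie.Chev CfsgLib.Lie.Chev.TwGroups CfsgLib.Known.G2Singer
open CfsgLib.Known.TrialityTorus (valT valT_tup cfL)
open Matrix
open scoped MatrixGroups

universe u

variable {K : Type u} [Field K]

theorem eq_one_of_fixed {h : GD K} {a : Fin chevD4.nroots → K} (hm : (RD K).IsMon h 1 a)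
    (hne : ∀ r : Fin chevD4.nroots, 12 ≤ (r : ℕ) → a r ≠ 1) {u : GD K} (hu : u ∈ (RD K).UP)
    (e : h * u * h⁻¹ = u) : u = 1 := by
  obtain ⟨t, ht⟩ := (RD K).exists_oprod_UP hu
  have hn : chevD4.nroots = 24 := half_eq.2
  have hhalf : half chevD4 = 12 := half_eq.1
  rw [hhalf] at ht
  subst ht
  let a' : ℕ → K := fun r => if hr : r < chevD4.nroots then a ⟨r, hr⟩ else 1
  have conj : h * (RD K).oprod 12 12 t * h⁻¹ = (RD K).oprod 12 12 fun r => a' r * t r := by
    show MulAut.conj h ((RD K).oprod 12 12 t) = _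
    simp only [Rel.oprod, map_list_prod, List.map_map]
    refine congrArg List.prod (List.map_congr_left fun r hr => ?_)
    rw [List.mem_range'_1] at hr
    have hr' : r < chevD4.nroots := by omega
    show h * (RD K).xe r (t r) * h⁻¹ = (RD K).xe r (a' r * t r)
    rw [show a' r = a ⟨r, hr'⟩ from dif_pos hr']
    exact (hm ⟨r, hr'⟩).2.2.2 (t r)
  rw [conj] at e
  have hz : ∀ r, 12 ≤ r → r < 12 + 12 → t r = 0 := by
    intro r h1 h2
    have k := (RD K).oprod_inj 12 12 _ t (le_of_eq hhalf) (le_of_eq hn.symm) (congrArg (RD K).θ e) r h1 h2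
    have hr' : r < chevD4.nroots := by omega
    simp only [show a' r = a ⟨r, hr'⟩ from dif_pos hr'] at k
    by_contra h0
    exact hne ⟨r, hr'⟩ h1 (mul_right_cancel₀ h0 (k.trans (one_mul _).symm))
  rw [(RD K).oprod_congr (t' := fun _ => 0) hz, Rel.oprod]
  refine List.prod_eq_one fun x hx => ?_
  obtain ⟨r, -, rfl⟩ := List.mem_map.1 hx
  exact (RD K).xe_zero r

theorem groupMap_US {L : Type*} [Field L] (f : K →+* L) {S : Set (Fin chevD4.nroots)} {g : GD K}
    (hg : g ∈ (RD K).US S) : ChevFixed.groupMap chevD4 f g ∈ (RD L).US S := by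
  suffices h : (RD K).US S ≤ ((RD L).US S).comap (ChevFixed.groupMap chevD4 f) from h hg
  refine (RD K).US_le fun r hr s => ?_
  show ChevFixed.groupMap chevD4 f ((RD K).xe r s) ∈ (RD L).US S
  rw [ChevFixed.groupMap_xe]
  exact (RD L).xe_mem_US hr _

theorem groupMap_ht [Finite K] {L : Type u} [Field L] [Finite L] (f : K →+* L) (q : ℕ) (x : Kˣ) :
    ChevFixed.groupMap chevD4 f (ht q x) = ht q (Units.map (f : K →* L) x) := by
  haveI := Fintype.ofFinite K
  haveI := Fintype.ofFinite L
  have hne : ∀ (r : ℕ) (c : K), ChevFixed.groupMap chevD4 f ((RD K).ne r c) = (RD L).ne r (f c) := by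
    intro r c
    show ChevFixed.groupMap chevD4 f ((RD K).xe r c * (RD K).xe (chevD4.neg r) (-c⁻¹) * (RD K).xe r c) = _
    rw [map_mul, map_mul, ChevFixed.groupMap_xe, ChevFixed.groupMap_xe, map_neg, map_inv₀]
    rfl
  have hhe : ∀ (r : ℕ) (c : K), ChevFixed.groupMap chevD4 f ((RD K).he r c) = (RD L).he r (f c) := by
    intro r c
    show ChevFixed.groupMap chevD4 f ((RD K).ne r c * (RD K).ne r (-1)) = _
    rw [map_mul, hne, hne, map_neg, map_one]
    rfl
  rw [ht_val, ht_val, tupD4_val, tupD4_val, map_mul, map_mul, map_mul, hhe, hhe, hhe, hhe]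
  simp

/-- the values of the weights on the positive roots -/
theorem wt_pos (q : ℕ) (a b x : Kˣ) (r : Fin chevD4.nroots) (hr : 12 ≤ (r : ℕ)) :
    (valT (tup q a b x) r : K) =
      [(b : K) * ((x : K) ^ q) ^ q * ((x : K) ^ q) ^ q, (b : K) * (x : K) ^ q * (x : K) ^ q,
        (a : K) / b / (nm q x : K), (a : K) * ((x : K) ^ q) ^ q / ((x : K) * (x : K) ^ q),
        (a : K) * (x : K) ^ q / ((x : K) * ((x : K) ^ q) ^ q),
        (a : K) * b * (x : K) ^ q * ((x : K) ^ q) ^ q / (x : K), (b : K) * x * x,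
        (a : K) * x / ((x : K) ^ q * ((x : K) ^ q) ^ q),
        (a : K) * b * x * ((x : K) ^ q) ^ q / (x : K) ^ q, (a : K) * b * x * (x : K) ^ q / ((x : K) ^ q) ^ q,
        (a : K) * b * b * (nm q x : K), (a : K) * a * b].getD ((r : ℕ) - 12) 0 := by
  have h := cfL_pos r hr
  rw [tup, valT_tup]
  generalize e0 : (cfL.getD 0 []).getD (r : ℕ) 0 = c0 at h ⊢
  generalize e1 : (cfL.getD 1 []).getD (r : ℕ) 0 = c1 at h ⊢
  generalize e2 : (cfL.getD 2 []).getD (r : ℕ) 0 = c2 at h ⊢
  generalize e3 : (cfL.getD 3 []).getD (r : ℕ) 0 = c3 at h ⊢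
  obtain ⟨n, hn⟩ := r
  have hn' : n < 24 := hn
  have ha := a.ne_zero
  have hb := b.ne_zero
  have hx := x.ne_zero
  simp only at hr h
  interval_cases n <;> simp at h <;> obtain ⟨rfl, rfl, rfl, rfl⟩ := h <;>
    simp [nm, zpow_two] <;> field_simp

/-- no fixed points in the radicals -/
theorem fixed_trivial [Fintype K] {F : Type u} [Field F] {q : ℕ} (hK : Fintype.card K = q ^ 3) (j : F →+* K)
    (hj : ∀ a : K, a ^ q = a ↔ a ∈ j.range) (σ : K →+* K) (hσ : ∀ a : K, σ a = a ^ q) {t d : F} (h : Pre t d)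
    {ρ : Kˣ} (hN : nm q ρ = 1) (hρ : (ρ : K) ^ 2 ≠ j d) :
    ∀ g : GD K, g ∈ U4 K ∨ g ∈ V4 K →
      lv q (GeneralLinearGroup.map j (G2.T01 0 * GeneralLinearGroup.mkOfDetNeZero (comp2 t d)
        (by rw [Good.det_comp2]; exact h.d_ne))) ρ * g *
      (lv q (GeneralLinearGroup.map j (G2.T01 0 * GeneralLinearGroup.mkOfDetNeZero (comp2 t d)
        (by rw [Good.det_comp2]; exact h.d_ne))) ρ)⁻¹ = g → g = 1 := by
  have hqqq : ∀ a : K, ((a ^ q) ^ q) ^ q = a := pow_qqq hK
  have hjd : ∀ a : F, j a ^ q = j a := fun a => (hj _).2 ⟨a, rfl⟩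
  have hroot : ∀ a : K, a ^ 2 - j t * a + j d ≠ 0 := by
    intro a ha
    by_cases hfix : a ^ q = a
    · obtain ⟨b, rfl⟩ := (hj a).1 hfix
      exact h.irr b (j.injective (by rw [map_zero, map_add, map_sub, map_mul, map_pow, ha]))
    have h1 : (a ^ q) ^ 2 - j t * a ^ q + j d = 0 := by
      have := congrArg σ ha
      rw [map_zero, map_add, map_sub, map_mul, map_pow, hσ, hσ, hσ, hjd, hjd] at this
      exact this
    have h2 : a ^ q = j t - a := by
      have : (a ^ q - a) * (a ^ q + a - j t) = 0 := by linear_combination h1 - ha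
      rcases mul_eq_zero.1 this with z | z
      · exact absurd (sub_eq_zero.1 z) hfix
      · linear_combination z
    have h3 : (a ^ q) ^ q = a := by
      rw [← hσ (a ^ q), h2, map_sub, hσ, hσ, hjd, h2]; ring
    exact hfix (by conv_rhs => rw [← hqqq a, h3])
  let f : Polynomial K := Polynomial.X ^ 2 + Polynomial.C (-j t) * Polynomial.X + Polynomial.C (j d)
  have hdeg : f.natDegree = 2 := by
    simpa [f] using Polynomial.natDegree_quadratic (R := K) (a := 1) (b := -j t) (c := j d) one_ne_zero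
  have hirr : Irreducible f := by
    refine Polynomial.irreducible_of_degree_le_three_of_not_isRoot (by rw [hdeg]; simp) fun a ha => hroot a ?_
    simp [f, Polynomial.IsRoot] at ha
    linear_combination ha
  have : Fact (Irreducible f) := ⟨hirr⟩
  let L := AdjoinRoot f
  have hf0 : f ≠ 0 := hirr.ne_zero
  have : Finite L := by
    have : Module.Finite K (AdjoinRoot f) := (AdjoinRoot.powerBasis hf0).finite
    exact Module.finite_of_finite K
  let e : K →+* L := AdjoinRoot.of f
  let l : L := AdjoinRoot.root f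
  let m : L := e (j t) - l
  have hrel : l * m = e (j d) := by
    have := AdjoinRoot.eval₂_root f
    simp [f] at this
    simp only [l, m, e]
    linear_combination -this
  have hnotin : ∀ a : K, e a ≠ l := by
    intro a ha
    refine hroot a (e.injective ?_)
    rw [map_zero, map_add, map_sub, map_mul, map_pow, ← hrel, ha]
    (try simp only [m]); ring
  have hnotin' : ∀ a : K, e a ≠ m := fun a ha => hnotin (j t - a) (by rw [map_sub, ha]; (try simp only [m]); ring)
  have hlm : l ≠ m := by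
    intro eq
    have e2 : l * (2 : L) = e (j t) := by
      have : l + l = e (j t) := by nth_rewrite 2 [eq]; simp only [m]; ring
      rw [← this]; ring
    by_cases h2 : (2 : K) = 0
    · rw [show (2 : L) = e 2 from (map_ofNat e 2).symm, h2, map_zero, mul_zero] at e2
      exact h.t_ne (j.injective (e.injective (by rw [← e2, map_zero, map_zero])))
    · refine hnotin (j t / 2) ?_
      rw [map_div₀, ← e2, map_ofNat, mul_div_cancel_right₀]
      rw [show (2 : L) = e 2 from (map_ofNat e 2).symm]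
      exact fun z => h2 (e.injective (by rw [z, map_zero]))
  have hl0 : l ≠ 0 := fun z => hnotin 0 (by rw [map_zero, z])
  have hm0 : m ≠ 0 := fun z => hnotin' 0 (by rw [map_zero, z])
  let a : Lˣ := Units.mk0 l hl0
  let b : Lˣ := Units.mk0 m hm0
  let y : Lˣ := Units.map (e : K →* L) ρ
  have hy : (y : L) = e ρ := rfl
  have hny : nm q y = 1 := by
    have := congrArg (Units.map (e : K →* L)) hN
    rw [map_one] at this
    simpa [nm, y, map_mul, map_pow] using this
  have hd' : j d ≠ 0 := fun z => h.d_ne (j.injective (by rw [z, map_zero]))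
  -- the products with determinant exponent one
  have hG : ∀ z : K, z ≠ 0 → z ^ 2 ≠ j d → j d * ((z ^ q) * (z ^ q) ^ q / z) = 1 → z * z ^ q * (z ^ q) ^ q = 1 → False := by
    intro z hz hzd h1 h2
    refine hzd ?_
    field_simp at h1
    linear_combination j d * h2 - z * h1
  have hNK : (ρ : K) * (ρ : K) ^ q * ((ρ : K) ^ q) ^ q = 1 := by
    have := congrArg Units.val hN
    simpa [nm] using this
  have hsq : ∀ z : K, z ^ 2 = j d → (z ^ q) ^ 2 = j d := fun z hz => by
    rw [← hσ, ← map_pow, hz, hσ, hjd]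
  have hρ1 : ((ρ : K) ^ q) ^ 2 ≠ j d := fun z => hρ (by
    have h2 := hsq _ (hsq _ z)
    rwa [hqqq] at h2)
  have hρ2 : (((ρ : K) ^ q) ^ q) ^ 2 ≠ j d := fun z => hρ (by
    have h2 := hsq _ z
    rwa [hqqq] at h2)
  have hne : ∀ r : Fin chevD4.nroots, 12 ≤ (r : ℕ) → (valT (tup q a b y) r : L) ≠ 1 := by
    intro r hr
    rw [wt_pos q a b y r hr, hny]
    simp only [show (a : L) = l from rfl, show (b : L) = m from rfl, hy, ← map_pow, Units.val_one, mul_one, div_one]
    obtain ⟨n, hn⟩ := r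
    have hn' : n < 24 := hn
    have hρ0 := ρ.ne_zero
    have hin : ∀ {c : K} {z : L}, c ≠ 0 → z * e c = 1 → e c⁻¹ = z := fun {c z} hc hz => by
      rw [map_inv₀]; exact (eq_inv_of_mul_eq_one_left hz).symm
    simp only at hr
    interval_cases n <;> simp only [Nat.sub_self, Nat.reduceSub, List.getD_cons_zero, List.getD_cons_succ] <;> intro z
    · exact hnotin' _ (hin (c := ((ρ : K) ^ q) ^ q * ((ρ : K) ^ q) ^ q) (by positivity) (by rw [map_mul]; linear_combination z))
    · exact hnotin' _ (hin (c := (ρ : K) ^ q * (ρ : K) ^ q) (by positivity) (by rw [map_mul]; linear_combination z))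
    · exact hlm (div_eq_one_iff_eq hm0 |>.1 z)
    · exact hnotin _ (hin (c := ((ρ : K) ^ q) ^ q / ((ρ : K) * (ρ : K) ^ q)) (by positivity)
        (by rw [map_div₀, map_mul]; linear_combination z))
    · exact hnotin _ (hin (c := (ρ : K) ^ q / ((ρ : K) * ((ρ : K) ^ q) ^ q)) (by positivity)
        (by rw [map_div₀, map_mul]; linear_combination z))
    · refine hG _ hρ0 hρ (e.injective ?_) hNK
      rw [map_one, map_mul, map_div₀, map_mul, ← hrel]
      linear_combination z
    · exact hnotin' _ (hin (c := (ρ : K) * ρ) (by positivity) (by rw [map_mul]; linear_combination z))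
    · exact hnotin _ (hin (c := (ρ : K) / ((ρ : K) ^ q * ((ρ : K) ^ q) ^ q)) (by positivity)
        (by rw [map_div₀, map_mul]; linear_combination z))
    · refine hG ((ρ : K) ^ q) (pow_ne_zero _ hρ0) hρ1 (e.injective ?_) (by rw [hqqq]; linear_combination hNK)
      rw [hqqq, map_one, map_mul, map_div₀, map_mul, ← hrel]
      linear_combination z
    · refine hG (((ρ : K) ^ q) ^ q) (pow_ne_zero _ (pow_ne_zero _ hρ0)) hρ2 (e.injective ?_)
        (by rw [hqqq]; linear_combination hNK)
      rw [hqqq, map_one, map_mul, map_div₀, map_mul, ← hrel]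
      linear_combination z
    · refine hnotin' (j d)⁻¹ (hin hd' ?_)
      rw [← hrel]
      linear_combination z
    · refine hnotin (j d)⁻¹ (hin hd' ?_)
      rw [← hrel]
      linear_combination z
  -- diagonalisation
  let P : GL (Fin 2) L := GeneralLinearGroup.mkOfDetNeZero !![-m, -l; 1, 1] (by
    simp [det_fin_two]; intro z; exact hlm (by linear_combination z))
  obtain ⟨Y, hYdef⟩ : ∃ Y, Y = GeneralLinearGroup.map j (G2.T01 0 * GeneralLinearGroup.mkOfDetNeZero (comp2 t d)
      (by rw [Good.det_comp2]; exact h.d_ne)) := ⟨_, rfl⟩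
  rw [← hYdef]
  have hQ : GeneralLinearGroup.map e Y = P * G2.dg a b * P⁻¹ := by
    rw [eq_mul_inv_iff_mul_eq, hYdef]
    refine Units.ext ?_
    show (((!![1, 0; 0, 1] : Matrix (Fin 2) (Fin 2) F) * comp2 t d).map j).map e * !![-m, -l; 1, 1] =
      !![-m, -l; 1, 1] * (G2.dg a b).1
    rw [G2.dg_val]
    ext i k
    fin_cases i <;> fin_cases k <;> simp [comp2, mul_apply, Fin.sum_univ_two, a, b] <;>
      first
        | linear_combination (hrel : l * m = e (j d))
        | (simp only [m]; ring)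
  have hx : ChevFixed.groupMap chevD4 e (lv q Y ρ) = phi P * lv q (G2.dg a b) y * (phi P)⁻¹ := by
    have hc : phi P⁻¹ * ht q y = ht q y * phi P⁻¹ := by
      have h1 := phi_ht q y P⁻¹
      rw [hny, show G2.dg (1 : Lˣ) 1 = 1 from Units.ext (by rw [G2.dg_val]; ext i k; fin_cases i <;> fin_cases k <;> simp),
        one_mul, inv_one, mul_one] at h1
      exact (mul_inv_eq_iff_eq_mul.1 h1).symm
    rw [lv, map_mul, groupMap_ht, phi_map, hQ, map_mul, map_mul, lv, ← map_inv, mul_assoc (phi P * phi (G2.dg a b)), hc]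
    simp only [mul_assoc]
  rw [lv_dg] at hx
  intro g hg eg
  have e' := congrArg (ChevFixed.groupMap chevD4 e) eg
  rw [map_mul, map_mul, map_inv, hx] at e'
  obtain ⟨w, hw⟩ : ∃ w, w = (phi P)⁻¹ * ChevFixed.groupMap chevD4 e g * phi P := ⟨_, rfl⟩
  have hback : ChevFixed.groupMap chevD4 e g = phi P * w * (phi P)⁻¹ := by rw [hw]; group
  rw [hback] at e'
  have hc : ((RD L).torusHom (tup q a b y) : GD L) * w * (((RD L).torusHom (tup q a b y) : GD L))⁻¹ = w := by
    refine mul_left_cancel (a := phi P) (mul_right_cancel (b := (phi P)⁻¹) ?_)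
    rw [← e']; group
  refine ChevFixed.groupMap_injective e ?_
  rw [map_one, hback]
  suffices w = 1 by rw [this]; group
  rcases hg with hg | hg
  · have hw' : w ∈ U4 L := hw ▸ (conj_U4 (phi_normalizer P) (groupMap_US e hg)).2
    exact eq_one_of_fixed (tor_mon _) hne (U4_le_UP hw') hc
  · have hw' : w ∈ V4 L := hw ▸ (conj_V4 (phi_normalizer P) (groupMap_US e hg)).2
    have hm' := (RD L).isMon_inv (tor_mon (K := L) (tup q a b y))
    rw [inv_one] at hm'
    have h3 : (n4 L)⁻¹ * w * n4 L = 1 := by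
      refine eq_one_of_fixed hm' (fun r hr => ?_) (U4_le_UP (n4_V4 hw')) ?_
      · simp only [Equiv.Perm.one_apply, ne_eq, inv_eq_one]
        exact hne r hr
      · rw [← n4_tor]
        conv_rhs => rw [← hc]
        group
    calc w = n4 L * ((n4 L)⁻¹ * w * n4 L) * (n4 L)⁻¹ := by group
      _ = 1 := by rw [h3]; group

/-- a map without fixed points on a finite subgroup absorbs it -/
theorem conj_absorb {G : Type*} [Group G] [Finite G] {x : G} {H : Subgroup G} (hx : x ∈ Subgroup.normalizer (H : Set G))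
    (hfix : ∀ g ∈ H, x * g * x⁻¹ = g → g = 1) {u : G} (hu : u ∈ H) :
    (∃ z ∈ H, z * x * z⁻¹ = x * u) ∧ ∃ z ∈ H, z * x * z⁻¹ = u * x := by
  have hn := fun g => Subgroup.mem_normalizer_iff.1 hx g
  let f : H → H := fun z => ⟨(z : G) * (x * (z : G)⁻¹ * x⁻¹), mul_mem z.2 ((hn _).1 (inv_mem z.2))⟩
  have hf : Function.Injective f := by
    intro z w e
    have e' : (z : G) * (x * (z : G)⁻¹ * x⁻¹) = (w : G) * (x * (w : G)⁻¹ * x⁻¹) := congrArg Subtype.val e
    refine Subtype.ext (inv_mul_eq_one.1 (hfix _ (mul_mem (inv_mem w.2) z.2) ?_)).symm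
    calc x * ((w : G)⁻¹ * z) * x⁻¹ = (w : G)⁻¹ * ((w : G) * (x * (w : G)⁻¹ * x⁻¹)) * x * z * x⁻¹ := by group
      _ = (w : G)⁻¹ * ((z : G) * (x * (z : G)⁻¹ * x⁻¹)) * x * z * x⁻¹ := by rw [e']
      _ = _ := by group
  have left : ∀ v ∈ H, ∃ z ∈ H, z * x * z⁻¹ = v * x := by
    intro v hv
    obtain ⟨z, hz⟩ := Finite.surjective_of_injective hf ⟨v, hv⟩
    refine ⟨z, z.2, ?_⟩
    have hz' : (z : G) * (x * (z : G)⁻¹ * x⁻¹) = v := congrArg Subtype.val hz
    rw [← hz']; group
  refine ⟨?_, left u hu⟩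
  obtain ⟨z, hz, e⟩ := left (x * u * x⁻¹) ((hn u).1 hu)
  exact ⟨z, hz, by rw [e]; group⟩

end CfsgLib.Known.SmallSquare.Tri
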