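import Cfsg.Agent.Lib.Known.SmallSquare.G2Sigma
import Cfsg.Agent.Lib.Known.ChevFoldData
import Cfsg.Agent.Lib.Known.TrialityTorus.Main
import Cfsg.Agent.Lib.Lie.Twisted.D4Torus
import Cfsg.Agent.Lib.Lie.Twisted.TwoGen.Basic

/-!
# The long root Levi subgroup of the triality twisted groups

`G₂` embedded in `D₄` by folding carries the long root `GL(2)` and the opposite element; the rest of the Levi
subgroup is the torus of the orbit of three roots.
-/

set_option autoImplicit false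

namespace CfsgLib.Known.SmallSquare.Tri

open Cfsg.Lie (ChevalleyDatum chevG2 chevD4 twistedD4)
open CfsgLib.Lie.Chev CfsgLib.Lie.Chev.TwGroups CfsgLib.Known.G2Singer
open CfsgLib.Known.TrialityTorus (valT valT_tup cfL)
open Matrix
open scoped MatrixGroups

universe u

variable {K : Type u} [Field K]

/-- the Chevalley group of type `D₄` -/
abbrev GD (K : Type u) [Field K] : Type _ := ↥(chevD4.group K)

/-- its relation system -/
noncomputable abbrev RD (K : Type u) [Field K] : Rel chevD4 auxD4 K (GD K) := chevRel certD4 K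

/-- a root by its number -/
abbrev r4 (n : ℕ) (h : n < 24 := by decide) : Fin chevD4.nroots := ⟨n, h⟩

theorem half_eq : half chevD4 = 12 ∧ chevD4.nroots = 24 := by decide +kernel

theorem exists_iota (K : Type u) [Field K] [Finite K] : ∃ ψ : GG K →* GD K,
    ∀ (a : ℕ) (t : K), ψ ((RR K).xe a t) = ChevFold.rowG certD4 ChevFoldData.qG2 a t :=
  ChevFold.exists_hom certD4 certG2 (ChevFoldData.dataG2 K).hp (ChevFoldData.dataG2 K).hQ ChevFoldData.relG2 witG2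
    (stTheta_ker_bot certG2 K witG2 cmat_G2 smithG2 (by decide +kernel))

/-- `G₂` inside `D₄` -/
noncomputable def iota (K : Type u) [Field K] [Finite K] : GG K →* GD K := (exists_iota K).choose

variable [Finite K]

theorem iota_xe (a : ℕ) (t : K) : iota K ((RR K).xe a t) = ChevFold.rowG certD4 ChevFoldData.qG2 a t :=
  (exists_iota K).choose_spec a t

theorem rows (t : K) :
    iota K ((RR K).xe 0 t) = (RD K).xe 0 (-t) ∧ iota K ((RR K).xe 1 t) = (RD K).xe 1 (-t) ∧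
    iota K ((RR K).xe 4 t) = (RD K).xe 5 t * ((RD K).xe 10 t * (RD K).xe 11 t) ∧
    iota K ((RR K).xe 5 t) = (RD K).xe 9 t ∧ iota K ((RR K).xe 6 t) = (RD K).xe 14 t ∧
    iota K ((RR K).xe 7 t) = (RD K).xe 12 t * ((RD K).xe 18 t * (RD K).xe 13 t) ∧
    iota K ((RR K).xe 10 t) = (RD K).xe 22 (-t) ∧ iota K ((RR K).xe 11 t) = (RD K).xe 23 (-t) := by
  have h : ∀ (L : List (ℕ × ℤ)), ChevFold.listG certD4 L t = (L.map fun q => (RD K).xe q.1 ((q.2 : K) * t)).prod :=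
    fun L => rfl
  simp only [iota_xe, ChevFold.rowG, ChevFold.rowAt, h]
  simp [ChevFoldData.qG2]

theorem iota_map {L : Type u} [Field L] [Finite L] (f : K →+* L) (g : GG K) :
    iota L (ChevFixed.groupMap chevG2 f g) = ChevFixed.groupMap chevD4 f (iota K g) := by
  suffices h : (iota L).comp (ChevFixed.groupMap chevG2 f) = (ChevFixed.groupMap chevD4 f).comp (iota K) from
    DFunLike.congr_fun h g
  refine ChevGen.hom_ext (RR K) fun i t => ?_
  have key : ∀ a : ℕ, iota L (ChevFixed.groupMap chevG2 f ((RR K).xe a t)) =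
      ChevFixed.groupMap chevD4 f (iota K ((RR K).xe a t)) := by
    intro a
    rw [ChevFixed.groupMap_xe, iota_xe, iota_xe, ChevFold.rowG, ChevFold.rowG, ChevFold.listG, ChevFold.listG,
      map_list_prod, List.map_map]
    refine congrArg List.prod (List.map_congr_left fun q _ => ?_)
    show (RD L).xe q.1 ((q.2 : L) * f t) = ChevFixed.groupMap chevD4 f ((RD K).xe q.1 ((q.2 : K) * t))
    rw [ChevFixed.groupMap_xe, map_mul, map_intCast]
  exact ⟨key _, key _⟩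

/-- the Levi map -/
noncomputable def phi : GL (Fin 2) K →* GD K := (iota K).comp G2.lev

theorem phi_def (A : GL (Fin 2) K) : phi A = iota K (G2.lev A) := rfl

theorem phi_T01 (t : K) : phi (G2.T01 t) = (RD K).xe 14 t := by rw [phi_def, G2.lev_T01, (rows t).2.2.2.2.1]

theorem phi_T10 (t : K) : phi (G2.T10 t) = (RD K).xe 9 t := by rw [phi_def, G2.lev_T10, (rows t).2.2.2.1]

theorem phi_map {L : Type u} [Field L] [Finite L] (f : K →+* L) (A : GL (Fin 2) K) :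
    ChevFixed.groupMap chevD4 f (phi A) = phi (GeneralLinearGroup.map f A) := by
  rw [phi_def, phi_def, ← iota_map]
  congr 1
  rw [G2.lev_def, emb_map, G2.lev_def]
  refine congrArg (emb L) (Subtype.ext ?_)
  show (G2.blkMat A).map f = G2.blkMat (GeneralLinearGroup.map f A)
  ext a b
  fin_cases a <;> fin_cases b <;> simp [G2.blkMat, det_fin_two]

/-! ### the torus -/

omit [Finite K] in
theorem tor_mon (c : Fin chevD4.rank → Kˣ) :
    (RD K).IsMon ((RD K).torusHom c : GD K) 1 fun r => (valT c r : K) := by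
  obtain ⟨a, ha⟩ := (RD K).isMon_of_mem_HS ((RD K).torusHom c).2
  refine (congrArg ((RD K).IsMon _ 1) (funext fun r => ?_)).mp ha
  have h := (ha r).2.2.2 1
  rw [Equiv.Perm.one_apply, mul_one, (RD K).torusHom_conj c r 1, mul_one] at h
  exact ((RD K).xe_inj_param h).symm

omit [Finite K] in
theorem HS_ext {g h : GD K} (hg : g ∈ (RD K).HS) (hh : h ∈ (RD K).HS) {a b : Fin chevD4.nroots → K}
    (ha : (RD K).IsMon g 1 a) (hb : (RD K).IsMon h 1 b) (e : ∀ r, a r = b r) : g = h := by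
  refine mul_inv_eq_one.1 (chevRel_injective certD4 K ?_)
  rw [map_one]
  refine (RD K).θ_eq_one_of_char (mul_mem hg (inv_mem hh)) fun c hc r => ?_
  have h1 := (RD K).isMon_mul ha ((RD K).isMon_inv hb)
  rw [inv_one, mul_one] at h1
  rw [((RD K).isMon_unique hc h1).2]
  simp only [Equiv.Perm.one_apply]
  rw [e r]
  exact mul_inv_cancel₀ (hb r).1

/-- the torus of the orbit of three simple roots -/
noncomputable def ht (q : ℕ) : Kˣ →* GD K where
  toFun x := ((RD K).torusHom (tupD4 x 1 (x ^ q) ((x ^ q) ^ q)) : GD K)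
  map_one' := by
    rw [show tupD4 (1 : Kˣ) 1 (1 ^ q) ((1 ^ q) ^ q) = 1 from ?_, map_one]
    · rfl
    funext i
    obtain ⟨i, hi⟩ := i
    have hi4 : i < 4 := hi
    interval_cases i <;> simp [tupD4]
  map_mul' x y := by
    rw [show tupD4 (x * y) 1 ((x * y) ^ q) (((x * y) ^ q) ^ q) =
      tupD4 x 1 (x ^ q) ((x ^ q) ^ q) * tupD4 y 1 (y ^ q) ((y ^ q) ^ q) from ?_, map_mul]
    · rfl
    funext i
    obtain ⟨i, hi⟩ := i
    have hi4 : i < 4 := hi
    interval_cases i <;> simp [tupD4, mul_pow]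

omit [Finite K] in
theorem ht_val (q : ℕ) (x : Kˣ) :
    ht q x = ((RD K).torusHom (tupD4 x 1 (x ^ q) ((x ^ q) ^ q)) : GD K) := rfl

omit [Finite K] in
theorem ht_mem (q : ℕ) (x : Kˣ) : ht q x ∈ (RD K).HS := ((RD K).torusHom _).2

theorem phi_dg (a b : Kˣ) :
    phi (G2.dg a b) = ((RD K).torusHom (tupD4 (a * b) (a * a * b) (a * b) (a * b)) : GD K) := by
  have h6 : ∀ s : Kˣ, (RR K).he 6 (s : K) = G2.lev (G2.dg s s⁻¹) := by
    intro s
    refine G2.HS_ext ?_ (G2.lev_dg_mem _ _) (a := fun r => (s : K) ^ chevG2.cartan 1 r) ?_ ?_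
    · have := (RR K).he_mem_HS G2.i1 s.ne_zero
      rwa [show chevG2.simple (G2.i1 : ℕ) = 6 from G2.simple_one.1] at this
    · have := (RR K).isMon_he_simple G2.i1 s.ne_zero
      rwa [show chevG2.simple (G2.i1 : ℕ) = 6 from G2.simple_one.1] at this
    refine (congrArg ((RR K).IsMon _ 1) (funext fun r => ?_)).mp (G2.lev_dg_mon _ _)
    have hs := s.ne_zero
    have hd : ∀ i, G2.wd s s⁻¹ i ≠ (0 : K) := by intro i; fin_cases i <;> simp [G2.wd]
    rw [rootWt_zpow hd r]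
    have e1 := exp_facts r 1
    simp only [Fin.val_one] at e1
    rw [← e1]
    simp only [expC, Matrix.cons_val_one, Matrix.cons_val_zero]
    have h0 : G2.wd s s⁻¹ 0 = (s : K) ^ (1 : ℤ) := by simp [G2.wd]
    have h1 : G2.wd s s⁻¹ 1 = (s : K) ^ (-1 : ℤ) := by simp [G2.wd]
    have h2 : G2.wd s s⁻¹ 2 = (s : K) ^ (0 : ℤ) := by simp [G2.wd]
    rw [h0, h1, h2, ← _root_.zpow_mul, ← _root_.zpow_mul, ← _root_.zpow_mul, ← zpow_add₀ hs, ← zpow_add₀ hs]
    congr 1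
    simp
  haveI := Fintype.ofFinite K
  have hsplit : G2.lev (G2.dg a b) =
      (RR K).he 6 ((a * a * b : Kˣ) : K) * (RR K).he 7 ((a * b : Kˣ) : K) := by
    rw [h6, G2.he_seven, ← map_mul]
    refine congrArg G2.lev (Units.ext ?_)
    rw [Units.val_mul, G2.dg_val, G2.dg_val, G2.dg_val]
    have := a.ne_zero
    have := b.ne_zero
    ext i j
    fin_cases i <;> fin_cases j <;> simp [mul_apply, Fin.sum_univ_two] <;> field_simp
  have p6 := ChevFold.psi_he certD4 certG2 (ChevFoldData.dataG2 K).hp (ChevFoldData.dataG2 K).hQ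
    (ChevFoldData.dataG2 K).hO (iota K) iota_xe (j := 1) (by decide) ((a * a * b : Kˣ) : K)
  have p7 := ChevFold.psi_he certD4 certG2 (ChevFoldData.dataG2 K).hp (ChevFoldData.dataG2 K).hQ
    (ChevFoldData.dataG2 K).hO (iota K) iota_xe (j := 0) (by decide) ((a * b : Kˣ) : K)
  obtain ⟨-, -, -, -, ⟨s0, s1, s2, s3⟩, -⟩ := negD4
  rw [show chevG2.simple 1 = 6 from G2.simple_one.1] at p6
  rw [show chevG2.simple 0 = 7 from G2.simple_one.2.2.1] at p7
  rw [phi_def, hsplit, map_mul, p6, p7, tupD4_val]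
  simp only [ChevFoldData.dataG2, List.getD_cons_zero, List.getD_cons_succ, List.map_cons, List.map_nil,
    List.prod_cons, List.prod_nil, mul_one, s0, s1, s2, s3]
  have l : 18 < chevD4.nroots ∧ 14 < chevD4.nroots := by decide +kernel
  have hc := (RD K).HS_isMulCommutative ((RD K).he_mem ⟨18, l.1⟩ (a * b).ne_zero)
    ((RD K).he_mem ⟨14, l.2⟩ (a * a * b).ne_zero)
  rw [← mul_assoc, ← mul_assoc, ← hc]

theorem phi_dg_mem (a b : Kˣ) : phi (G2.dg a b) ∈ (RD K).HS := by rw [phi_dg]; exact ((RD K).torusHom _).2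

/-- the upper radical -/
noncomputable def U4 (K : Type u) [Field K] : Subgroup (GD K) := (RD K).US ((RD K).restSet ⟨1, by decide +kernel⟩)

/-- the lower radical -/
noncomputable def V4 (K : Type u) [Field K] : Subgroup (GD K) :=
  (RD K).US (ClassSquare.Chev.negRest (RD K) ⟨1, by decide +kernel⟩)

omit [Finite K] in
theorem d4_facts : chevD4.simple 1 = 14 ∧ chevD4.simple 0 = 18 ∧ chevD4.simple 2 = 13 ∧ chevD4.simple 3 = 12 ∧
    chevD4.neg 14 = 9 ∧ (∀ r : Fin 24, chevD4.neg r = 23 - r) ∧ chevD4.rank = 4 := by decide +kernel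

omit [Finite K] in
theorem neg_val (r : Fin chevD4.nroots) : ((RD K).negF r : ℕ) = 23 - (r : ℕ) := d4_facts.2.2.2.2.2.1 r

omit [Finite K] in
theorem mem_rest {r : Fin chevD4.nroots} :
    r ∈ (RD K).restSet ⟨1, by decide +kernel⟩ ↔ 12 ≤ (r : ℕ) ∧ (r : ℕ) ≠ 14 := by
  show half chevD4 ≤ (r : ℕ) ∧ r ≠ _ ↔ _
  rw [half_eq.1, ne_eq, Fin.ext_iff,
    show (((RD K).sroot ⟨1, by decide +kernel⟩ : Fin _) : ℕ) = 14 from d4_facts.1]

omit [Finite K] in
theorem mem_negRest {r : Fin chevD4.nroots} :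
    r ∈ ClassSquare.Chev.negRest (RD K) ⟨1, by decide +kernel⟩ ↔ (r : ℕ) < 12 ∧ (r : ℕ) ≠ 9 := by
  show (RD K).negF r ∈ (RD K).restSet _ ↔ _
  rw [mem_rest, neg_val]
  have : (r : ℕ) < 24 := r.2
  omega

omit [Finite K] in
theorem xe_U4 (n : ℕ) (h : 12 ≤ n) (h' : n < 24) (h14 : n ≠ 14) (t : K) : (RD K).xe n t ∈ U4 K :=
  (RD K).xe_mem_US (r := r4 n h') (mem_rest.2 ⟨h, h14⟩) t

omit [Finite K] in
theorem xe_V4 (n : ℕ) (h : n < 12) (h9 : n ≠ 9) (t : K) : (RD K).xe n t ∈ V4 K :=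
  (RD K).xe_mem_US (r := r4 n (lt_trans h (by decide))) (mem_negRest.2 ⟨h, h9⟩) t

omit [Finite K] in
theorem U4_le_UP : U4 K ≤ (RD K).UP := (RD K).US_mono ((RD K).restSet_subset _)

theorem rows_rad : (∀ a : Fin 12, 7 ≤ (a : ℕ) → ∀ p ∈ ChevFoldData.qG2.getD a [], 12 ≤ p.1 ∧ p.1 < 24 ∧ p.1 ≠ 14) ∧
    ∀ a : Fin 12, (a : ℕ) ≤ 4 → ∀ p ∈ ChevFoldData.qG2.getD a [], p.1 < 12 ∧ p.1 ≠ 9 := by
  decide +kernel

theorem iota_U5 {g : GG K} (hg : g ∈ G2.U5 K) : iota K g ∈ U4 K := by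
  refine (show G2.U5 K ≤ (U4 K).comap (iota K) from (RR K).US_le fun r hr t => ?_) hg
  rw [Subgroup.mem_comap, iota_xe, ChevFold.rowG, ChevFold.listG]
  refine list_prod_mem fun x hx => ?_
  obtain ⟨p, hp, rfl⟩ := List.mem_map.1 hx
  obtain ⟨h1, h2, h3⟩ := rows_rad.1 r (G2.mem_rest.1 hr) p hp
  exact xe_U4 p.1 h1 h2 h3 _

theorem iota_V5 {g : GG K} (hg : g ∈ G2.V5 K) : iota K g ∈ V4 K := by
  refine (show G2.V5 K ≤ (V4 K).comap (iota K) from (RR K).US_le fun r hr t => ?_) hg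
  rw [Subgroup.mem_comap, iota_xe, ChevFold.rowG, ChevFold.listG]
  refine list_prod_mem fun x hx => ?_
  obtain ⟨p, hp, rfl⟩ := List.mem_map.1 hx
  obtain ⟨h1, h2⟩ := rows_rad.2 r (G2.mem_negRest.1 hr) p hp
  exact xe_V4 p.1 h1 h2 _

theorem phi_normalizer (A : GL (Fin 2) K) :
    phi A ∈ Subgroup.normalizer (U4 K : Set (GD K)) ⊓ Subgroup.normalizer (V4 K : Set (GD K)) := by
  have h14 : chevD4.simple ((⟨1, by decide +kernel⟩ : Fin chevD4.rank) : ℕ) = 14 := d4_facts.1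
  induction A using G2.gl_induction with
  | hd a b => exact ⟨(RD K).HS_le_normalizer_US _ (phi_dg_mem a b), (RD K).HS_le_normalizer_US _ (phi_dg_mem a b)⟩
  | h01 t =>
    rw [phi_T01, ← h14]
    exact ⟨((RD K).xe_simple_mem_normalizer _ t).1, (ClassSquare.Chev.negRest_normalizer (RD K) _ t).1⟩
  | h10 t =>
    rw [phi_T10, ← d4_facts.2.2.2.2.1, ← h14]
    exact ⟨((RD K).xe_simple_mem_normalizer _ t).2, (ClassSquare.Chev.negRest_normalizer (RD K) _ t).2⟩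
  | hm A B hA hB => rw [map_mul]; exact mul_mem hA hB

/-- the Levi elements -/
noncomputable def lv (q : ℕ) (A : GL (Fin 2) K) (x : Kˣ) : GD K := phi A * ht q x

theorem lv_normalizer (q : ℕ) (A : GL (Fin 2) K) (x : Kˣ) :
    lv q A x ∈ Subgroup.normalizer (U4 K : Set (GD K)) ⊓ Subgroup.normalizer (V4 K : Set (GD K)) :=
  mul_mem (phi_normalizer A)
    ⟨(RD K).HS_le_normalizer_US _ (ht_mem q x), (RD K).HS_le_normalizer_US _ (ht_mem q x)⟩

theorem conj_U4 {l : GD K} (hl : l ∈ Subgroup.normalizer (U4 K : Set (GD K)) ⊓ Subgroup.normalizer (V4 K : Set (GD K)))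
    {u : GD K} (hu : u ∈ U4 K) : l * u * l⁻¹ ∈ U4 K ∧ l⁻¹ * u * l ∈ U4 K :=
  ⟨(Subgroup.mem_normalizer_iff.1 hl.1 u).1 hu, by
    have := (Subgroup.mem_normalizer_iff.1 (inv_mem hl.1) u).1 hu
    rwa [inv_inv] at this⟩

theorem conj_V4 {l : GD K} (hl : l ∈ Subgroup.normalizer (U4 K : Set (GD K)) ⊓ Subgroup.normalizer (V4 K : Set (GD K)))
    {u : GD K} (hu : u ∈ V4 K) : l * u * l⁻¹ ∈ V4 K ∧ l⁻¹ * u * l ∈ V4 K :=
  ⟨(Subgroup.mem_normalizer_iff.1 hl.2 u).1 hu, by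
    have := (Subgroup.mem_normalizer_iff.1 (inv_mem hl.2) u).1 hu
    rwa [inv_inv] at this⟩

/-! ### weights -/

/-- the norm -/
def nm (q : ℕ) (x : Kˣ) : Kˣ := x * x ^ q * (x ^ q) ^ q

/-- the image of the torus and diagonal elements -/
def tup (q : ℕ) (a b x : Kˣ) : Fin chevD4.rank → Kˣ :=
  tupD4 (a * b * x) (a * a * b) (a * b * x ^ q) (a * b * (x ^ q) ^ q)

theorem lv_dg (q : ℕ) (a b x : Kˣ) :
    lv q (G2.dg a b) x = ((RD K).torusHom (tup q a b x) : GD K) := by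
  rw [lv, phi_dg, ht_val, ← Subgroup.coe_mul, ← map_mul]
  congr 2
  funext i
  obtain ⟨i, hi⟩ := i
  have hi4 : i < 4 := hi
  interval_cases i <;> simp [tupD4, tup]

omit [Finite K] in
theorem cfL_pos : ∀ r : Fin 24, 12 ≤ (r : ℕ) → ((cfL.getD 0 []).getD r 0, (cfL.getD 1 []).getD r 0,
    (cfL.getD 2 []).getD r 0, (cfL.getD 3 []).getD r 0) =
    [(0, -1, 0, 2), (0, -1, 2, 0), (-1, 2, -1, -1), (-1, 1, -1, 1), (-1, 1, 1, -1), (-1, 0, 1, 1), (2, -1, 0, 0),
      (1, 1, -1, -1), (1, 0, -1, 1), (1, 0, 1, -1), (1, -1, 1, 1), (0, 1, 0, 0)].getD ((r : ℕ) - 12) (0, 0, 0, 0) := by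
  decide +kernel

omit [Finite K] in
theorem cfL_pair : (cfL.getD 0 []).getD 14 0 = -1 ∧ (cfL.getD 1 []).getD 14 0 = 2 ∧
    (cfL.getD 2 []).getD 14 0 = -1 ∧ (cfL.getD 3 []).getD 14 0 = -1 := by decide +kernel

theorem phi_ht (q : ℕ) (x : Kˣ) (A : GL (Fin 2) K) :
    ht q x * phi A * (ht q x)⁻¹ = phi (G2.dg 1 (nm q x) * A * (G2.dg 1 (nm q x))⁻¹) := by
  induction A using G2.gl_induction with
  | hd a b =>
    rw [show G2.dg 1 (nm q x) * G2.dg a b * (G2.dg 1 (nm q x))⁻¹ = G2.dg a b by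
      rw [mul_inv_eq_iff_eq_mul]
      refine Units.ext ?_
      rw [Units.val_mul, Units.val_mul, G2.dg_val, G2.dg_val]
      ext i j; fin_cases i <;> fin_cases j <;> simp [mul_apply, Fin.sum_univ_two, mul_comm],
      (RD K).HS_isMulCommutative (ht_mem q x) (phi_dg_mem a b), mul_inv_cancel_right]
  | hm A B hA hB =>
    rw [map_mul, show ht q x * (phi A * phi B) * (ht q x)⁻¹ =
      (ht q x * phi A * (ht q x)⁻¹) * (ht q x * phi B * (ht q x)⁻¹) by group, hA, hB, ← map_mul]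
    congr 1; group
  | h01 t =>
    have h := (tor_mon (tupD4 x 1 (x ^ q) ((x ^ q) ^ q)) (r4 14)).2.2.2 t
    dsimp only at h
    rw [Equiv.Perm.one_apply, valT_tup] at h
    simp only [show ((r4 14 : Fin _) : ℕ) = 14 from rfl, cfL_pair.1, cfL_pair.2.1, cfL_pair.2.2.1, cfL_pair.2.2.2] at h
    rw [phi_T01, ht_val, h, ← phi_T01]
    congr 1
    rw [eq_mul_inv_iff_mul_eq]
    refine Units.ext ?_
    simp only [Units.val_mul, G2.T01_val, G2.dg_val]
    have := x.ne_zero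
    ext i j; fin_cases i <;> fin_cases j <;> simp [mul_apply, Fin.sum_univ_two, nm] <;> field_simp <;> simp
  | h10 t =>
    have hn : (RD K).negF (r4 14) = r4 9 := Fin.ext (by rw [neg_val]; rfl)
    have h0 := tor_mon (tupD4 x 1 (x ^ q) ((x ^ q) ^ q)) (r4 14)
    have h := (tor_mon (tupD4 x 1 (x ^ q) ((x ^ q) ^ q)) (r4 9)).2.2.2 t
    have h21 := h0.2.1
    dsimp only at h h21
    rw [hn] at h21
    rw [h21, Equiv.Perm.one_apply, valT_tup] at h
    simp only [show ((r4 14 : Fin _) : ℕ) = 14 from rfl, cfL_pair.1, cfL_pair.2.1, cfL_pair.2.2.1, cfL_pair.2.2.2] at h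
    rw [phi_T10, ht_val, h, ← phi_T10]
    congr 1
    rw [eq_mul_inv_iff_mul_eq]
    refine Units.ext ?_
    simp only [Units.val_mul, G2.T10_val, G2.dg_val]
    have := x.ne_zero
    ext i j; fin_cases i <;> fin_cases j <;> simp [mul_apply, Fin.sum_univ_two, nm] <;> field_simp <;> simp

/-! ### the opposite element -/

/-- the permutation of a word of simple reflections -/
def wNum : List ℕ → ℕ → ℕ
  | [], r => r
  | i :: l, r => auxD4.w i (wNum l r)

omit [Finite K] in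
theorem num_facts : wNum [1, 0, 2, 3] (chevD4.simple 1) = 23 ∧
    (∀ r : Fin 24, wNum [0, 2, 3] (wNum [1, 0, 2, 3, 1, 3, 2, 0, 1] r) = 23 - r) := by decide +kernel

omit [Finite K] in
theorem wperm_inv (i : Fin chevD4.rank) : ((RD K).wperm i)⁻¹ = (RD K).wperm i :=
  inv_eq_of_mul_eq_one_right ((RD K).wperm_mul_self i)

omit [Finite K] in
theorem refl23 {c : K} (hc : c ≠ 0) : ∃ σ b, (RD K).IsMon ((RD K).ne 23 c) σ b ∧
    ∀ r : Fin chevD4.nroots, (σ r : ℕ) = wNum [1, 0, 2, 3, 1, 3, 2, 0, 1] r := by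
  obtain ⟨i0, hi0⟩ : ∃ i : Fin chevD4.rank, (i : ℕ) = 0 := ⟨⟨0, by decide +kernel⟩, rfl⟩
  obtain ⟨i1, hi1⟩ : ∃ i : Fin chevD4.rank, (i : ℕ) = 1 := ⟨⟨1, by decide +kernel⟩, rfl⟩
  obtain ⟨i2, hi2⟩ : ∃ i : Fin chevD4.rank, (i : ℕ) = 2 := ⟨⟨2, by decide +kernel⟩, rfl⟩
  obtain ⟨i3, hi3⟩ : ∃ i : Fin chevD4.rank, (i : ℕ) = 3 := ⟨⟨3, by decide +kernel⟩, rfl⟩
  have m := fun i => (RD K).isMon_ne_simple i (one_ne_zero (α := K))
  obtain ⟨ag, hg⟩ : ∃ ag, (RD K).IsMon ((RD K).ne (chevD4.simple i1) 1 * (RD K).ne (chevD4.simple i0) 1 *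
      (RD K).ne (chevD4.simple i2) 1 * (RD K).ne (chevD4.simple i3) 1)
      ((RD K).wperm i1 * (RD K).wperm i0 * (RD K).wperm i2 * (RD K).wperm i3) ag :=
    ⟨_, (RD K).isMon_mul ((RD K).isMon_mul ((RD K).isMon_mul (m i1) (m i0)) (m i2)) (m i3)⟩
  have hr : ((RD K).wperm i1 * (RD K).wperm i0 * (RD K).wperm i2 * (RD K).wperm i3) ((RD K).sroot i1) = r4 23 := by
    refine Fin.ext ?_
    simp only [Equiv.Perm.mul_apply, Rel.wperm_apply, Rel.sroot, hi0, hi1, hi2, hi3]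
    exact num_facts.1
  have h0 := (hg ((RD K).sroot i1)).1
  obtain ⟨e, he⟩ : ∃ e, (RD K).ne (r4 23) c =
      ((RD K).ne (chevD4.simple i1) 1 * (RD K).ne (chevD4.simple i0) 1 * (RD K).ne (chevD4.simple i2) 1 *
        (RD K).ne (chevD4.simple i3) 1) * (RD K).ne (chevD4.simple i1) e *
      ((RD K).ne (chevD4.simple i1) 1 * (RD K).ne (chevD4.simple i0) 1 * (RD K).ne (chevD4.simple i2) 1 *
        (RD K).ne (chevD4.simple i3) 1)⁻¹ ∧ e ≠ 0 := by
    refine ⟨c / ag ((RD K).sroot i1), ?_, div_ne_zero hc h0⟩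
    have h2 := Rel.IsMon.conj_ne (RD K) hg ((RD K).sroot i1) (c / ag ((RD K).sroot i1))
    rw [hr, mul_div_cancel₀ _ h0] at h2
    exact h2.symm
  have hm := (RD K).isMon_mul ((RD K).isMon_mul hg ((RD K).isMon_ne_simple i1 he.2)) ((RD K).isMon_inv hg)
  rw [← he.1] at hm
  refine ⟨_, _, hm, fun r => ?_⟩
  simp only [_root_.mul_inv_rev, wperm_inv, Equiv.Perm.mul_apply, Rel.wperm_apply, hi0, hi1, hi2, hi3]
  rfl

/-- the opposite element -/
noncomputable def n4 (K : Type u) [Field K] [Finite K] : GD K := iota K (G2.n0 K)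

theorem n4_mem : n4 K ∈ (RD K).NS :=
  ChevFold.psi_mem_NS certD4 certG2 (ChevFoldData.dataG2 K).hp (ChevFoldData.dataG2 K).hQ (ChevFoldData.dataG2 K).hO
    (iota K) iota_xe G2.n0_mem

theorem iota_ne_eleven (c : K) : iota K ((RR K).ne 11 c) = (RD K).ne 23 (-c) := by
  show iota K ((RR K).xe 11 c * (RR K).xe (chevG2.neg 11) (-c⁻¹) * (RR K).xe 11 c) =
    (RD K).xe 23 (-c) * (RD K).xe (chevD4.neg 23) (-(-c)⁻¹) * (RD K).xe 23 (-c)
  rw [show chevG2.neg 11 = 0 from (G2.simple_one.2.2.2.2 11 :), show chevD4.neg 23 = 0 from (d4_facts.2.2.2.2.2.1 23 :),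
    map_mul, map_mul, (rows c).2.2.2.2.2.2.2, (rows _).1]
  simp [inv_neg]

theorem n4_mon : ∃ σ a, (RD K).IsMon (n4 K) σ a ∧ ∀ r : Fin chevD4.nroots, (σ r : ℕ) = 23 - (r : ℕ) := by
  obtain ⟨i0, hi0⟩ : ∃ i : Fin chevD4.rank, (i : ℕ) = 0 := ⟨⟨0, by decide +kernel⟩, rfl⟩
  obtain ⟨i2, hi2⟩ : ∃ i : Fin chevD4.rank, (i : ℕ) = 2 := ⟨⟨2, by decide +kernel⟩, rfl⟩
  obtain ⟨i3, hi3⟩ : ∃ i : Fin chevD4.rank, (i : ℕ) = 3 := ⟨⟨3, by decide +kernel⟩, rfl⟩
  obtain ⟨σ, b, hb, hσ⟩ := refl23 (K := K) (c := -1) (by norm_num)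
  have m := fun i => (RD K).isMon_ne_simple i (one_ne_zero (α := K))
  have hm := (RD K).isMon_mul ((RD K).isMon_mul (m i0) ((RD K).isMon_mul (m i2) (m i3))) hb
  have p7 := ChevFold.psi_ne certD4 certG2 (ChevFoldData.dataG2 K).hp (ChevFoldData.dataG2 K).hQ
    (ChevFoldData.dataG2 K).hO (iota K) iota_xe (j := 0) (by decide) (1 : K)
  rw [show chevG2.simple 0 = 7 from G2.simple_one.2.2.1] at p7
  simp only [ChevFoldData.dataG2, List.getD_cons_zero, List.map_cons, List.map_nil, List.prod_cons, List.prod_nil,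
    mul_one] at p7
  have e : n4 K = (RD K).ne (chevD4.simple i0) 1 * ((RD K).ne (chevD4.simple i2) 1 * (RD K).ne (chevD4.simple i3) 1) *
      (RD K).ne 23 (-1) := by
    rw [n4, G2.n0, map_mul, iota_ne_eleven, p7, hi0, hi2, hi3]
  rw [← e] at hm
  refine ⟨_, _, hm, fun r => ?_⟩
  simp only [Equiv.Perm.mul_apply, Rel.wperm_apply, hσ, hi0, hi2, hi3]
  exact num_facts.2 r

theorem n4_inv_mon : ∃ σ a, (RD K).IsMon (n4 K)⁻¹ σ a ∧ ∀ r : Fin chevD4.nroots, (σ r : ℕ) = 23 - (r : ℕ) := by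
  obtain ⟨σ, a, h1, h2⟩ := n4_mon (K := K)
  refine ⟨_, _, (RD K).isMon_inv h1, fun r => ?_⟩
  have h := h2 (σ⁻¹ r)
  rw [show σ (σ⁻¹ r) = r from σ.apply_symm_apply r] at h
  have : (σ⁻¹ r : ℕ) < 24 := (σ⁻¹ r).2
  omega

theorem n4_V4 {v : GD K} (hv : v ∈ V4 K) : (n4 K)⁻¹ * v * n4 K ∈ U4 K := by
  obtain ⟨σ, a, h1, h2⟩ := n4_inv_mon (K := K)
  have h := Rel.IsMon.conj_mem_US (RD K) h1 (T := (RD K).restSet ⟨1, by decide +kernel⟩) (fun r hr => mem_rest.2 (by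
    rw [h2]; have := mem_negRest.1 hr; omega)) hv
  rwa [inv_inv] at h

theorem n4_tor (c : Fin chevD4.rank → Kˣ) :
    (n4 K)⁻¹ * ((RD K).torusHom c : GD K) * n4 K = (((RD K).torusHom c : GD K))⁻¹ := by
  obtain ⟨σ, a, h1, h2⟩ := n4_inv_mon (K := K)
  have hm := (RD K).isMon_mul ((RD K).isMon_mul h1 (tor_mon c)) ((RD K).isMon_inv h1)
  rw [inv_inv, mul_one, mul_inv_cancel] at hm
  have hi := (RD K).isMon_inv (tor_mon c)
  rw [inv_one] at hi
  refine HS_ext ?_ (inv_mem ((RD K).torusHom c).2) hm hi fun r => ?_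
  · have := (RD K).HS_conj (inv_mem (n4_mem (K := K))) ((RD K).torusHom c).2
    rwa [inv_inv] at this
  simp only [Equiv.Perm.one_apply]
  have hr : σ⁻¹ r = (RD K).negF r := by
    apply σ.injective
    rw [show σ (σ⁻¹ r) = r from σ.apply_symm_apply r]
    refine Fin.ext ?_
    rw [h2, neg_val]
    have : (r : ℕ) < 24 := r.2
    omega
  have h21 : (valT c ((RD K).negF r) : K) = (valT c r : K)⁻¹ := (tor_mon c r).2.1
  rw [hr, h21, mul_right_comm, mul_inv_cancel₀ (h1 ((RD K).negF r)).1, one_mul]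

theorem n4_ht (q : ℕ) (x : Kˣ) : (n4 K)⁻¹ * ht q x * n4 K = (ht q x)⁻¹ := n4_tor _

theorem n4_phi {c : Kˣ} (hc : G2.IsTwist (F := K) c) (A : GL (Fin 2) K) :
    (n4 K)⁻¹ * phi A * n4 K = phi (G2.emat c * G2.tinv A * (G2.emat c)⁻¹) := by
  rw [phi_def, phi_def, ← hc A, n4, map_mul, map_mul, map_inv]

end CfsgLib.Known.SmallSquare.Tri
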