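import Cfsg.Agent.Lib.Known.SmallSquare.TriBruhat
import Cfsg.Agent.Lib.Known.SmallSquare.TriClass
import Cfsg.Agent.Lib.Known.SmallSquare.G2Square

/-!
# The square of the class covers the triality twisted group
-/

set_option autoImplicit false

namespace CfsgLib.Known.SmallSquare.Tri

open Cfsg.Lie (ChevalleyDatum chevG2 chevD4 twistedD4)
open CfsgLib.Lie.Chev CfsgLib.Lie.Chev.TwGroups CfsgLib.Known.G2Singer
open CfsgLib.Known.TrialityTorus (valT valT_tup cfL)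
open Matrix
open scoped MatrixGroups

universe u

variable {K : Type u} [Field K] [Fintype K] {q : ℕ} (hq : IsPrimePow q) (hK : Fintype.card K = q ^ 3)
variable {F : Type u} [Field F] [Fintype F] (j : F →+* K) (hj : ∀ a : K, a ^ q = a ↔ a ∈ j.range)
variable {t d : F} (h : Pre t d) (ρ : Kˣ) (hN : nm q ρ = 1) (hρ : (ρ : K) ^ 2 ≠ j d)

omit [Fintype K] in
theorem HS_of_fix {g : GD K} (hg : g ∈ (RD K).NS) {π : Equiv.Perm (Fin chevD4.nroots)}
    {a : Fin chevD4.nroots → K} (hm : (RD K).IsMon g π a) (e : ∀ r, (π r : ℕ) = r) : g ∈ (RD K).HS := by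
  rw [show π = 1 from Equiv.ext fun r => Fin.ext (e r)] at hm
  exact (RD K).mem_HS_of_nsPerm (g := ⟨g, hg⟩) ((RD K).nsPerm_eq (g := ⟨g, hg⟩) hm)

theorem OKMat_conj {M : Matrix (Fin 2) (Fin 2) F} (hM : G2.OKMat 1 M) (D : GL (Fin 2) F) :
    G2.OKMat 1 (D.1 * M * (D⁻¹ : GL (Fin 2) F).1) := by
  obtain ⟨hd, hg⟩ := hM
  refine ⟨by rw [det_units_conj, hd], ?_⟩
  rcases hg with z | ⟨z1, z2⟩
  · left
    rw [z, one_smul, mul_one, ← Units.val_mul, mul_inv_cancel, Units.val_one]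
  · refine Or.inr ⟨fun ⟨c, hc⟩ => z1 ⟨c, ?_⟩, by rwa [trace_units_conj]⟩
    calc M = (D⁻¹ : GL (Fin 2) F).1 * (D.1 * M * (D⁻¹ : GL (Fin 2) F).1) * D.1 := by
          simp only [mul_assoc, Units.inv_mul, mul_one, Units.inv_mul_cancel_left]
      _ = c • 1 := by rw [hc]; simp

theorem ex_facts : (∀ r : Fin 24, wNum (ow 1) (wNum (ow 1) r) = r) ∧
    (∀ r : Fin 24, wNum (ow 0) (wNum [1, 0, 2, 3, 1, 3, 2, 0, 1] (wNum (ow 0) r)) =
      wNum [1, 0, 2, 3, 1, 3, 2, 0, 1] r) ∧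
    (∀ r : Fin 24, wNum [1, 0, 2, 3, 1, 3, 2, 0, 1] (wNum [0, 2, 3] r) = 23 - r) ∧
    (∀ r : Fin 24, (r : ℕ) ∈ [5, 10, 11, 12, 13, 18] → wNum [1, 0, 2, 3, 1, 3, 2, 0, 1] r = r) ∧
    (chkNoTerms chevD4 23 18 = true ∧ chkNoTerms chevD4 23 13 = true ∧ chkNoTerms chevD4 23 12 = true ∧
      chkNoTerms chevD4 18 0 = true ∧ chkNoTerms chevD4 13 0 = true ∧ chkNoTerms chevD4 12 0 = true) ∧
    chevD4.neg 23 = 0 := by
  decide +kernel

include hq hK hj

omit [Fintype F] in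
theorem UP_split {u : GD K} (hu : u ∈ (RD K).UP) (hu1 : u ∈ P1 hq hK) :
    ∃ (s : F), ∃ u' ∈ U4 K ⊓ P1 hq hK, u = phiF j (G2.T01 s) * u' := by
  obtain ⟨p, hp, w, hw, rfl, hσp, hσw⟩ := (twD4 hq hK).fixed_factor
    ((twD4 hq hK).hfix _ (sk_mem hq hK j hj 1)) hu ((twD4 hq hK).hfix u hu1)
  obtain ⟨s, rfl⟩ := fixed_class_one hq hK j hj hw hσw
  have hp1 : p ∈ P1 hq hK := (twD4 hq hK).mem_P1_of_fixed_UP ((RD K).US_mono (Rel.keepSet_subset _) hp) hσp
  have hpU : p ∈ U4 K := by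
    refine (RD K).US_mono (fun r hr => ?_) hp
    refine mem_rest.2 ⟨by rw [← half_eq.1]; exact hr.1, fun e => ?_⟩
    have h2 := hr.2
    rw [sk_perm, half_eq.1, e] at h2
    revert h2
    decide +kernel
  have hl : phiF j (G2.T01 s) ∈ Subgroup.normalizer (U4 K : Set (GD K)) ⊓ Subgroup.normalizer (V4 K : Set (GD K)) :=
    phi_normalizer _
  refine ⟨s, _, ((conj_inf hq hK j hj hl (phiF_mem hq hK j hj _)).1 p (Subgroup.mem_inf.2 ⟨hpU, hp1⟩)).2, ?_⟩
  rw [← phiF_T01]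
  group

omit [Fintype F] in
theorem far_form {g : GD K} (hg : g ∈ P1 hq hK) {τ : Equiv.Perm (Fin chevD4.nroots)} (hF : Form hq hK g τ)
    (hτ : (∀ r, (τ r : ℕ) = 23 - (r : ℕ)) ∨ ∀ r : Fin chevD4.nroots, (τ r : ℕ) = wNum (ow 1) (23 - r)) :
    ∃ (A : GL (Fin 2) F) (x : Kˣ), ∃ u ∈ U4 K ⊓ P1 hq hK, ∃ z ∈ P1 hq hK,
      z * g * z⁻¹ = n4 K * (phiF j A * ht q x) * u := by
  obtain ⟨z, hz, b, hb, hb1, n, hn1, hn, e⟩ := hF.normal hq hK hg
  obtain ⟨a, ha⟩ := (RD K).isMon_nsPerm n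
  rw [hn] at ha
  obtain ⟨σ, a4, h4, h4'⟩ := n4_inv_mon (K := K)
  have hm := (RD K).isMon_mul ha h4
  have hP : (n : GD K) * (n4 K)⁻¹ ∈ P1 hq hK := mul_mem hn1 (inv_mem (n4_P1 hq hK j hj))
  have hNS : (n : GD K) * (n4 K)⁻¹ ∈ (RD K).NS := mul_mem n.2 (inv_mem n4_mem)
  obtain ⟨C, x, hC⟩ : ∃ (C : GL (Fin 2) F) (x : Kˣ), (n : GD K) * (n4 K)⁻¹ = phiF j C * ht q x := by
    have hlt : ∀ r : Fin chevD4.nroots, (r : ℕ) < 24 := fun r => r.2
    rcases hτ with hr | hr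
    · obtain ⟨a0, x, hx⟩ := mem_HS_P1 hq hK j hj (HS_of_fix hNS hm fun r => by
        rw [Equiv.Perm.mul_apply, hr, h4']; have := hlt r; omega) hP
      exact ⟨_, x, hx⟩
    · obtain ⟨a1, h1⟩ := (RD K).isMon_nsPerm (sk K 1)
      have hm' := (RD K).isMon_mul hm ((RD K).isMon_inv h1)
      rw [sk_perm_inv] at hm'
      obtain ⟨a0, x, hx⟩ := mem_HS_P1 hq hK j hj
        (HS_of_fix (mul_mem hNS (inv_mem (sk K 1).2)) hm' fun r => by
          rw [Equiv.Perm.mul_apply, Equiv.Perm.mul_apply, hr, h4', sk_perm]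
          have h2 := ((RD K).nsPerm (sk K 1) r).2
          rw [sk_perm] at h2
          rw [show 23 - (23 - wNum (ow ((1 : Fin 2) : ℕ)) r) = wNum (ow ((1 : Fin 2) : ℕ)) r by
            have : wNum (ow ((1 : Fin 2) : ℕ)) r < 24 := h2
            omega]
          exact ex_facts.1 r)
        (mul_mem hP (inv_mem (sk_mem hq hK j hj 1)))
      obtain ⟨c, hc⟩ := exists_nm hq hK j hj x
      refine ⟨G2.dg a0 a0⁻¹ * (G2.dg 1 c * (G2.T01 1 * G2.T10 (-1) * G2.T01 1) * (G2.dg 1 c)⁻¹), x, ?_⟩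
      have hsk : (sk K 1 : GD K) = phiF j (G2.T01 1 * G2.T10 (-1) * G2.T01 1) := by
        rw [sk_one, map_mul, map_mul, phiF_T01, phiF_T10, map_one, map_neg, map_one]
        show (RD K).ne (chevD4.simple 1) 1 = _
        rw [d4_facts.1]
        show (RD K).xe 14 1 * (RD K).xe (chevD4.neg 14) (-1⁻¹) * (RD K).xe 14 1 = _
        rw [d4_facts.2.2.2.2.1, inv_one]
      rw [eq_mul_of_mul_inv_eq hx, hsk, mul_assoc, ht_phiF hq hK j hj x hc,
        map_mul (phiF j) (G2.dg a0 a0⁻¹)]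
      simp only [mul_assoc]
  obtain ⟨a1, s, y, u, hu, rfl⟩ := exists_of_BS hq hK j hj hb hb1
  obtain ⟨c, hc⟩ := exists_nm hq hK j hj y
  have hu' : u ∈ U4 K ⊓ P1 hq hK := hu
  refine ⟨G2.T01 s * G2.dg a1 a1⁻¹ * (G2.dg 1 c * C * (G2.dg 1 c)⁻¹), y * x, _,
    ((conj_inf hq hK j hj (lev_norm j C x) (lev_mem hq hK j hj C x)).1 u hu').2, n4 K * z,
    mul_mem (n4_P1 hq hK j hj) hz, ?_⟩
  rw [show n4 K * z * g * (n4 K * z)⁻¹ = n4 K * (z * g * z⁻¹) * (n4 K)⁻¹ by group, e, mul_assoc (n4 K),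
    mul_assoc _ (n : GD K) (n4 K)⁻¹, hC, map_mul (phiF j) (G2.T01 s * G2.dg a1 a1⁻¹), map_mul (ht q),
    show phiF j (G2.T01 s * G2.dg a1 a1⁻¹) * phiF j (G2.dg 1 c * C * (G2.dg 1 c)⁻¹) * (ht q y * ht q x) =
      phiF j (G2.T01 s * G2.dg a1 a1⁻¹) * (phiF j (G2.dg 1 c * C * (G2.dg 1 c)⁻¹) * ht q y) * ht q x by
      simp only [mul_assoc], ← ht_phiF hq hK j hj y hc]
  group

include hN hρ

theorem far_sq (A : GL (Fin 2) F) (x : Kˣ) {u : GD K} (hu : u ∈ U4 K ⊓ P1 hq hK) :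
    IsSq hq hK j h ρ (n4 K * (phiF j A * ht q x) * u) := by
  obtain ⟨k, hk⟩ : ∃ k, q * q + q = 2 * k := by
    obtain ⟨m, hm⟩ := Nat.even_mul_succ_self q
    exact ⟨m, by rw [two_mul, ← hm, Nat.mul_succ]⟩
  obtain ⟨y, hy⟩ : ∃ y, y = x ^ k := ⟨_, rfl⟩
  obtain ⟨f, hf⟩ := exists_nm hq hK j hj x
  have hyx : y * y * x = Units.map (j : F →* K) f := by
    rw [← hf, hy, ← pow_add, ← two_mul, ← hk, nm, ← pow_mul, pow_add]
    ac_rfl
  obtain ⟨b, hb⟩ := exists_nm hq hK j hj y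
  obtain ⟨Dm, hD⟩ : ∃ Dm, Dm = G2.dg 1 b := ⟨_, rfl⟩
  obtain ⟨Z, hZ⟩ : ∃ Z, Z = G2.dg f⁻¹ (f * f) := ⟨_, rfl⟩
  obtain ⟨E, hE⟩ := G2.sigma_all (F := F)
  obtain ⟨K0, hK0⟩ : ∃ K0, K0 = Dm * A * Dm⁻¹ * Dm⁻¹ * Z * Dm := ⟨_, rfl⟩
  obtain ⟨S, hS, hdet, hdet2, hgood⟩ :=
    exists_target (one_ne_zero (α := F)) (E⁻¹ * K0 : GL (Fin 2) F).1 (E⁻¹ * K0).det_ne_zero
  obtain ⟨Q, ⟨z, hz, v, hv, u1, hu1, e⟩, hQ⟩ := hE S hS hdet
  have hQA : (Q * K0).1 = S * (E⁻¹ * K0 : GL (Fin 2) F).1 := by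
    rw [← hQ, mul_assoc, ← Units.val_mul, ← Units.val_mul, mul_inv_cancel_left]
  have hM : G2.OKMat 1 (Dm * (Q * K0) * Dm⁻¹ : GL (Fin 2) F).1 := by
    rw [Units.val_mul, Units.val_mul, hQA]
    exact OKMat_conj ⟨hdet2, hgood⟩ Dm
  have e' : psi j z * n4 K = psi j v * phiF j Q * psi j u1 := by
    rw [← psi_n0 j, ← psi_lev, ← map_mul, ← map_mul, ← map_mul, e]
  have hl : ht q y ∈ Subgroup.normalizer (U4 K : Set (GD K)) ⊓ Subgroup.normalizer (V4 K : Set (GD K)) :=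
    ⟨(RD K).HS_le_normalizer_US _ (ht_mem q y), (RD K).HS_le_normalizer_US _ (ht_mem q y)⟩
  obtain ⟨cU, cV⟩ := conj_inf hq hK j hj hl (ht_mem_P1 hq hK y)
  have hz' := (cU _ (psi_U5 hq hK j hj hz)).1
  have hv' := (cV _ (psi_V5 hq hK j hj hv)).1
  have hu1' := (cU _ (psi_U5 hq hK j hj hu1)).2
  refine IsSq.conj hq hK j h ρ (z := ht q y * psi j z * (ht q y)⁻¹) (Subgroup.mem_inf.1 hz').2 ?_
  have hl2 := conj_inf hq hK j hj (lev_norm j A x) (lev_mem hq hK j hj A x)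
  have k1 : (n4 K)⁻¹ * (ht q y)⁻¹ * n4 K = ht q y := by
    have := congrArg (·⁻¹) (n4_ht (K := K) q y)
    simpa [mul_assoc] using this
  have kA : ht q y * phiF j Q * ht q y * phiF j A * ht q x = phiF j (Dm * (Q * K0) * Dm⁻¹) := by
    have h1 : ∀ B, ht q y * phiF j B = phiF j (Dm * B * Dm⁻¹) * ht q y := fun B =>
      hD ▸ ht_phiF hq hK j hj y hb B
    calc ht q y * phiF j Q * ht q y * phiF j A * ht q x
        = phiF j (Dm * Q * Dm⁻¹) * (ht q y * (ht q y * phiF j A)) * ht q x := by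
          rw [h1 Q]; simp only [mul_assoc]
      _ = phiF j (Dm * Q * Dm⁻¹) * phiF j (Dm * (Dm * A * Dm⁻¹) * Dm⁻¹) * (ht q y * ht q y * ht q x) := by
          rw [h1 A, ← mul_assoc (ht q y), h1]; simp only [mul_assoc]
      _ = _ := by
          rw [← map_mul (ht q), ← map_mul (ht q), hyx, ht_F hq hK j hj, ← map_mul, ← map_mul, hK0, hZ]
          congr 1
          group
  have key : ht q y * psi j z * (ht q y)⁻¹ * (n4 K * (phiF j A * ht q x) * u) *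
      (ht q y * psi j z * (ht q y)⁻¹)⁻¹ =
      (ht q y * psi j v * (ht q y)⁻¹) * phiF j (Dm * (Q * K0) * Dm⁻¹) *
        (((phiF j A * ht q x)⁻¹ * ((ht q y)⁻¹ * psi j u1 * ht q y) * (phiF j A * ht q x)) * u *
          (ht q y * psi j z * (ht q y)⁻¹)⁻¹) := by
    rw [← kA]
    calc ht q y * psi j z * (ht q y)⁻¹ * (n4 K * (phiF j A * ht q x) * u) *
          (ht q y * psi j z * (ht q y)⁻¹)⁻¹
        = ht q y * (psi j z * n4 K) * ((n4 K)⁻¹ * (ht q y)⁻¹ * n4 K) * (phiF j A * ht q x) * u *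
            (ht q y * psi j z * (ht q y)⁻¹)⁻¹ := by group
      _ = ht q y * (psi j v * phiF j Q * psi j u1) * ht q y * (phiF j A * ht q x) * u *
            (ht q y * psi j z * (ht q y)⁻¹)⁻¹ := by rw [e', k1]
      _ = _ := by group
  rw [key]
  exact isSq_cell hq hK j hj h ρ hN hρ hM hv' (mul_mem (mul_mem (hl2.1 _ hu1').2 hu) (inv_mem hz'))

omit [Fintype F] h hN hρ in
/-- either climb to the big cell or land in the subfield torus -/
theorem mid_form {g : GD K} (hg : g ∈ P1 hq hK) {τ : Equiv.Perm (Fin chevD4.nroots)} (hF : Form hq hK g τ)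
    (hτ : ∀ r, (τ r : ℕ) = wNum [1, 0, 2, 3, 1, 3, 2, 0, 1] r) :
    (∃ τ', Form hq hK g τ' ∧ ∀ r, (τ' r : ℕ) = 23 - (r : ℕ)) ∨
      ∃ (a b : Fˣ) (s : F), ∃ u ∈ U4 K ⊓ P1 hq hK, ∃ z ∈ P1 hq hK,
        z * g * z⁻¹ = psi j ((RR F).xe 0 (-1)) * phiF j (G2.T01 s * G2.dg a b) * u := by
  obtain ⟨z, hz, b, hb, hb1, n, hn1, hn, e⟩ := hF.normal hq hK hg
  obtain ⟨a, ha⟩ := (RD K).isMon_nsPerm n
  rw [hn] at ha
  obtain ⟨π, aN, hN23, hπ⟩ := refl23 (K := K) (c := -1) (neg_ne_zero.2 one_ne_zero)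
  have hNe : psi j ((RR F).ne 11 1) = (RD K).ne 23 (-1) := by
    show iota K (ChevFixed.groupMap chevG2 j ((RR F).ne 11 1)) = _
    rw [groupMap_ne_g2, map_one, iota_ne_eleven]
  have hN1 : (RD K).ne 23 (-1) ∈ P1 hq hK := hNe ▸ psi_mem hq hK j hj _
  have hNS : (RD K).ne 23 (-1) ∈ (RD K).NS := (RD K).ne_mem (r4 23) (neg_ne_zero.2 one_ne_zero)
  obtain ⟨b', hb'def⟩ : ∃ b', b' = b * ((n : GD K) * ((RD K).ne 23 (-1))⁻¹) := ⟨_, rfl⟩
  have hh : (n : GD K) * ((RD K).ne 23 (-1))⁻¹ ∈ (RD K).HS := by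
    have hm := (RD K).isMon_mul ha ((RD K).isMon_inv hN23)
    refine HS_of_fix (mul_mem n.2 (inv_mem hNS)) hm fun r => ?_
    rw [Equiv.Perm.mul_apply, hτ, ← hπ, show π (π⁻¹ r) = r from π.apply_symm_apply r]
  have hb'B : b' ∈ (RD K).BS := hb'def ▸ mul_mem hb ((RD K).HS_le_BS hh)
  have hb'1 : b' ∈ P1 hq hK := hb'def ▸ mul_mem hb1 (mul_mem hn1 (inv_mem hN1))
  have e1 : z * g * z⁻¹ = b' * (RD K).ne 23 (-1) := by rw [e, hb'def]; group
  obtain ⟨v, hv, h', hh', rfl, hv1, hh1⟩ := (twD4 hq hK).exists_BS_factor hb'B hb'1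
  obtain ⟨a0, x, hx⟩ := mem_HS_P1 hq hK j hj hh' hh1
  by_cases hw : (x : K) * x = j a0
  · -- the torus part lies in the subfield
    right
    have hfix : ((x : K)) ^ q = x := by
      have h1 : ((x : K) ^ q) * ((x : K) ^ q) = x * x := by rw [← mul_pow, hw, (hj _).2 ⟨_, rfl⟩]
      rcases mul_self_eq_mul_self_iff.1 h1 with z | z
      · exact z
      · have h2 : (((x : K) ^ q) ^ q) ^ q = -(x : K) := by rw [z, neg_pow_D4 hq hK, z, neg_neg, z]
        rw [pow_qqq hK] at h2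
        rw [z, ← h2]
    obtain ⟨f0, hf0⟩ := (hj _).1 hfix
    have hf : x = Units.map (j : F →* K) (Units.mk0 f0 fun z => x.ne_zero (by rw [← hf0, z, map_zero])) :=
      Units.ext hf0.symm
    generalize Units.mk0 f0 _ = f at hf
    obtain ⟨X, hX⟩ : ∃ X, X = psi j ((RR F).xe 11 1) := ⟨_, rfl⟩
    have hXU : X ∈ U4 K ⊓ P1 hq hK := hX ▸ psi_U5 hq hK j hj (G2.xe_U5 11 (by decide) (by decide) 1)
    obtain ⟨hX1, hX2⟩ := Subgroup.mem_inf.1 hXU
    have hl := (RD K).HS_le_normalizer_US (posSet chevD4) hh'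
    have hXc : h' * X * h'⁻¹ ∈ (RD K).UP := (Subgroup.mem_normalizer_iff.1 hl X).1 (U4_le_UP hX1)
    obtain ⟨s, u, hu, hs⟩ := UP_split hq hK j hj (u := X * v * (h' * X * h'⁻¹))
      (mul_mem (mul_mem (U4_le_UP hX1) hv) hXc) (mul_mem (mul_mem hX2 hv1) (mul_mem (mul_mem hh1 hX2) (inv_mem hh1)))
    obtain ⟨D0, hD0⟩ : ∃ D0, D0 = G2.dg (a0 * f⁻¹) (a0⁻¹ * (f * f)) := ⟨_, rfl⟩
    have hhD : h' = phiF j D0 := by
      rw [hx, hf, ht_F hq hK j hj, ← map_mul, hD0]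
      refine congrArg (phiF j) (Units.ext ?_)
      rw [Units.val_mul, G2.dg_val, G2.dg_val, G2.dg_val]
      ext i k; fin_cases i <;> fin_cases k <;> simp [mul_apply, Fin.sum_univ_two]
    refine ⟨a0 * f⁻¹, a0⁻¹ * (f * f), s, _,
      ((conj_inf hq hK j hj (show phiF j D0 ∈ _ from phi_normalizer _) (phiF_mem hq hK j hj D0)).1 u hu).2,
      psi j ((RR F).xe 0 (-1)) * X * z, mul_mem (mul_mem (psi_mem hq hK j hj _) hX2) hz, ?_⟩
    have hne : (RD K).ne 23 (-1) = X * psi j ((RR F).xe 0 (-1)) * X := by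
      rw [← hNe, hX, ← map_mul, ← map_mul]
      refine congrArg (psi j) ?_
      show (RR F).xe 11 1 * (RR F).xe (chevG2.neg 11) (-1⁻¹) * (RR F).xe 11 1 = _
      rw [show chevG2.neg 11 = 0 from (G2.simple_one.2.2.2.2 11 :), inv_one]
    have es : X * (v * h') * X = phiF j (G2.T01 s) * u * h' := by
      rw [← hs]; group
    calc psi j ((RR F).xe 0 (-1)) * X * z * g * (psi j ((RR F).xe 0 (-1)) * X * z)⁻¹
        = psi j ((RR F).xe 0 (-1)) * (X * (z * g * z⁻¹) * X⁻¹) * (psi j ((RR F).xe 0 (-1)))⁻¹ := by group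
      _ = psi j ((RR F).xe 0 (-1)) * (X * (v * h') * X) := by rw [e1, hne]; group
      _ = _ := by rw [es, hhD, ← hD0, map_mul (phiF j) (G2.T01 s) D0]; group
  · -- make the component of the orbit of three roots nonzero
    left
    obtain ⟨p, hp, w, hw', rfl, hσp, hσw⟩ := (twD4 hq hK).fixed_factor
      ((twD4 hq hK).hfix _ (sk_mem hq hK j hj 0)) hv ((twD4 hq hK).hfix v hv1)
    obtain ⟨T, rfl⟩ := fixed_class_zero hq hK j hj hw' hσw
    obtain ⟨w, hwv⟩ : ∃ w : K, w = (j a0)⁻¹ * x * x := ⟨_, rfl⟩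
    have hw1 : w ≠ 1 := fun z => hw (by
      have h0 : j (a0 : F) ≠ 0 := fun z0 => a0.ne_zero (j.injective (by rw [z0, map_zero]))
      rw [hwv] at z
      field_simp at z
      linear_combination z)
    obtain ⟨r, hr⟩ : ∃ r : K, r + T + w * -r ≠ 0 := by
      by_cases hT : T = 0
      · exact ⟨1, by rw [hT]; intro z; exact hw1 (by linear_combination -z)⟩
      · exact ⟨0, by simpa using hT⟩
    -- the torus acts on the orbit by the weight
    have hcj : ∀ s : K, h' * xk q s * h'⁻¹ = xk q (w * s) := by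
      intro s
      have hlv : h' = lv q (G2.dg (Units.map (j : F →* K) a0) (Units.map (j : F →* K) a0)⁻¹) x := by
        rw [hx, lv, phiF_def, map_dg, map_inv]
      rw [lv_dg] at hlv
      have m := fun (n : ℕ) (hn : n < 24) (hn' : 12 ≤ n) (c : K) =>
        ((tor_mon (tup q (Units.map (j : F →* K) a0) (Units.map (j : F →* K) a0)⁻¹ x)) (r4 n hn)).2.2.2 c
      have m18 := m 18 (by decide) (by decide) s
      have m13 := m 13 (by decide) (by decide) (s ^ q)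
      have m12 := m 12 (by decide) (by decide) ((s ^ q) ^ q)
      simp only [Equiv.Perm.one_apply, wt_pos q _ _ x (r4 18) (by decide), wt_pos q _ _ x (r4 13) (by decide),
        wt_pos q _ _ x (r4 12) (by decide)] at m18 m13 m12
      simp only [show ((r4 18 : Fin _) : ℕ) = 18 from rfl, show ((r4 13 : Fin _) : ℕ) = 13 from rfl,
        show ((r4 12 : Fin _) : ℕ) = 12 from rfl, show 18 - 12 = 6 from rfl, show 13 - 12 = 1 from rfl,
        Nat.sub_self, List.getD_cons_zero, List.getD_cons_succ] at m18 m13 m12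
      have hwq : w ^ q = (j a0)⁻¹ * (x : K) ^ q * (x : K) ^ q := by
        rw [hwv, mul_pow, mul_pow, inv_pow, (hj _).2 ⟨_, rfl⟩]
      have hwqq : (w ^ q) ^ q = (j a0)⁻¹ * ((x : K) ^ q) ^ q * ((x : K) ^ q) ^ q := by
        rw [hwq, mul_pow, mul_pow, inv_pow, (hj _).2 ⟨_, rfl⟩]
      simp only [Units.val_inv_eq_inv_val, Units.coe_map, MonoidHom.coe_coe] at m18 m13 m12
      rw [← hlv, ← hwv] at m18
      rw [← hlv, ← hwq] at m13
      rw [← hlv, ← hwqq] at m12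
      rw [xk, xk, mul_pow, mul_pow, ← m18, ← m13, ← m12]
      group
    obtain ⟨X, hX⟩ : ∃ X, X = xk q r := ⟨_, rfl⟩
    have hX1 : X ∈ P1 hq hK := hX ▸ xk_mem hq hK r
    have hXinv : X⁻¹ = xk q (-r) := by
      rw [hX]
      refine inv_eq_of_mul_eq_one_right ?_
      rw [xk_add hq hK, add_neg_cancel]
      simp [xk, (RD K).xe_zero, zero_pow hq.pos.ne']
    obtain ⟨c0, c1, c2, c3, c4, c5⟩ := ex_facts.2.2.2.2.1
    have hXN : Commute X ((RD K).ne 23 (-1)) := by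
      have n0 : chevD4.neg 23 = 0 := ex_facts.2.2.2.2.2
      have k : ∀ (a c : K) (i : ℕ), chkNoTerms chevD4 23 i = true → chkNoTerms chevD4 i 0 = true →
          Commute ((RD K).xe i a) ((RD K).ne 23 c) := by
        intro a c i h1 h2
        show Commute _ ((RD K).xe 23 c * (RD K).xe (chevD4.neg 23) (-c⁻¹) * (RD K).xe 23 c)
        rw [n0]
        exact ((xG_commute certD4 h1 c a).symm.mul_right (xG_commute certD4 h2 a (-c⁻¹))).mul_right
          (xG_commute certD4 h1 c a).symm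
      rw [hX, xk]
      exact (k _ _ 18 c0 c3).mul_left ((k _ _ 13 c1 c4).mul_left (k _ _ 12 c2 c5))
    -- the radical of the orbit parabolic
    have hkeep : X * p * X⁻¹ ∈ (RD K).US (keepSet ((RD K).nsPerm (sk K 0))) := by
      have hset : keepSet ((RD K).nsPerm (sk K 0)) = radSet chevD4 auxD4 (orbSet orbD4 0) := by
        ext r
        have h1 : r ∈ invSet ((RD K).nsPerm (sk K 0)) ↔ r ∈ posSub chevD4 auxD4 orbD4 0 := by
          rw [invSet_sk]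
        constructor
        · rintro ⟨h2, h3⟩
          exact ⟨h2, fun h4 => (h1.2 ⟨h2, h4⟩).2 h3⟩
        · rintro ⟨h2, h3⟩
          exact ⟨h2, by_contra fun h4 => h3 (h1.1 ⟨h2, h4⟩).2⟩
      rw [hset] at hp ⊢
      have hXU : X ∈ (RD K).UP := hX ▸ mul_mem ((RD K).xe_mem_US (S := posSet chevD4) (r := r4 18)
          (show half chevD4 ≤ 18 by rw [half_eq.1]; decide) _)
        (mul_mem ((RD K).xe_mem_US (S := posSet chevD4) (r := r4 13)
          (show half chevD4 ≤ 13 by rw [half_eq.1]; decide) _)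
        ((RD K).xe_mem_US (S := posSet chevD4) (r := r4 12)
          (show half chevD4 ≤ 12 by rw [half_eq.1]) _))
      exact (Subgroup.mem_normalizer_iff.1 ((RD K).PJ_le_normalizer (J := orbSet orbD4 0) descD4
        (Subgroup.mem_sup_left ((RD K).UP_le_BS hXU))) p).1 hp
    obtain ⟨T', hT'⟩ : ∃ T', T' = r + T + w * -r := ⟨_, rfl⟩
    have e2 : X * z * g * (X * z)⁻¹ = (X * p * X⁻¹) * xk q T' * h' * (RD K).ne 23 (-1) := by
      calc X * z * g * (X * z)⁻¹ = X * (z * g * z⁻¹) * X⁻¹ := by group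
        _ = (X * p * X⁻¹) * (X * xk q T * (h' * X⁻¹ * h'⁻¹)) * h' * (X * (RD K).ne 23 (-1) * X⁻¹) := by
            rw [e1]; group
        _ = _ := by
            rw [hXN.eq, mul_inv_cancel_right, hXinv, hcj, hX, xk_add hq hK, xk_add hq hK, hT']
    obtain ⟨s, hs⟩ : ∃ s : GD K, s = sk K 0 := ⟨_, rfl⟩
    have hsN : s ∈ (RD K).NS := hs ▸ (sk K 0).2
    obtain ⟨m, hmdef⟩ : ∃ m, m = s * (h' * (RD K).ne 23 (-1)) * s⁻¹ := ⟨_, rfl⟩
    have hmN : m ∈ (RD K).NS := hmdef ▸ mul_mem (mul_mem hsN (mul_mem ((RD K).HS_le_NS hh') hNS)) (inv_mem hsN)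
    obtain ⟨ah, hah⟩ := (RD K).isMon_of_mem_HS hh'
    obtain ⟨as, has⟩ := (RD K).isMon_nsPerm (sk K 0)
    rw [← hs] at has
    have hm := (RD K).isMon_mul ((RD K).isMon_mul has ((RD K).isMon_mul hah hN23)) ((RD K).isMon_inv has)
    rw [← hmdef, one_mul, sk_perm_inv] at hm
    have hπ' : ∀ r : Fin chevD4.nroots,
        (((RD K).nsPerm (sk K 0) * π * (RD K).nsPerm (sk K 0)) r : ℕ) = wNum [1, 0, 2, 3, 1, 3, 2, 0, 1] r := by
      intro r
      rw [Equiv.Perm.mul_apply, Equiv.Perm.mul_apply, sk_perm, hπ, sk_perm]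
      exact ex_facts.2.1 r
    obtain ⟨i0, hi0⟩ : ∃ i : Fin chevD4.rank, (i : ℕ) = 0 := ⟨⟨0, by decide +kernel⟩, rfl⟩
    obtain ⟨i2, hi2⟩ : ∃ i : Fin chevD4.rank, (i : ℕ) = 2 := ⟨⟨2, by decide +kernel⟩, rfl⟩
    obtain ⟨i3, hi3⟩ : ∃ i : Fin chevD4.rank, (i : ℕ) = 3 := ⟨⟨3, by decide +kernel⟩, rfl⟩
    obtain ⟨-, f0, -, s0, s1, s2, s3, w1, w2, w3, w4, w5, w6⟩ := cls_facts
    have hmove : ∀ (i : Fin chevD4.rank), chevD4.simple i ∈ cls 0 → ∀ c : K, c ≠ 0 → ∃ y : K, y ≠ 0 ∧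
        m⁻¹ * (s * (RD K).xe (chevD4.simple i) c * s⁻¹) * m = (RD K).xe ((RD K).negF ((RD K).sroot i)) y := by
      intro i hi c hc
      have hneg : ∀ n : Fin 24, (n : ℕ) ∈ cls 0 → wNum (ow 0) n = 23 - n ∧ 23 - (n : ℕ) ∈ [5, 10, 11, 12, 13, 18] := by
        decide +kernel
      obtain ⟨n1, n2⟩ := hneg ((RD K).sroot i) hi
      obtain ⟨y, hy, ey⟩ := sk_move (K := K) 0 i hi n1 c hc
      rw [← hs] at ey
      rw [ey]
      have hi' := (RD K).isMon_inv hm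
      have hfx : ((RD K).nsPerm (sk K 0) * π * (RD K).nsPerm (sk K 0))⁻¹ ((RD K).negF ((RD K).sroot i)) =
          (RD K).negF ((RD K).sroot i) := by
        refine (Equiv.symm_apply_eq _).2 (Fin.ext ?_)
        rw [hπ']
        refine (ex_facts.2.2.2.1 _ ?_).symm
        rw [neg_val]
        exact n2
      have hc' := (hi' ((RD K).negF ((RD K).sroot i))).2.2.2 y
      rw [hfx, inv_inv] at hc'
      exact ⟨_, mul_ne_zero (hi' ((RD K).negF ((RD K).sroot i))).1 hy, hc'⟩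
    obtain ⟨y0, hy0, e0⟩ := hmove i0 (by rw [hi0, s0]; decide) T' (hT' ▸ hr)
    obtain ⟨y2, hy2, e2'⟩ := hmove i2 (by rw [hi2, s2]; decide) (T' ^ q) (pow_ne_zero _ (hT' ▸ hr))
    obtain ⟨y3, hy3, e3⟩ := hmove i3 (by rw [hi3, s3]; decide) ((T' ^ q) ^ q)
      (pow_ne_zero _ (pow_ne_zero _ (hT' ▸ hr)))
    rw [hi0, s0] at e0
    rw [hi2, s2] at e2'
    rw [hi3, s3] at e3
    obtain ⟨b1, hb1', b2, hb2, m', hm', ha', ep⟩ := CellPush.push (RD K) [(i0, y0), (i2, y2), (i3, y3)]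
      (by simp [hy0, hy2, hy3])
      (by simp [Fin.ext_iff, Rel.wperm_apply, Rel.sroot, hi0, hi2, hi3, s2, s3, w1, w2, w4])
      hmN hm (fun p hp => by
        rw [half_eq.1, hπ']
        have : ∀ n : Fin 24, (n : ℕ) ∈ cls 0 → 12 ≤ wNum [1, 0, 2, 3, 1, 3, 2, 0, 1] n := by decide +kernel
        refine this _ ?_
        simp only [List.mem_cons, List.not_mem_nil, or_false] at hp
        rcases hp with rfl | rfl | rfl <;> simp [Rel.sroot, hi0, hi2, hi3, s0, s2, s3, cls])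
      (one_mem _)
    refine ⟨_, ⟨s * (X * z), mul_mem (hs ▸ sk_mem hq hK j hj 0) (mul_mem hX1 hz),
      s * (X * p * X⁻¹) * s⁻¹ * b1,
      mul_mem ((RD K).UP_le_BS (hs ▸ (RD K).conj_keep hkeep)) hb1', b2, hb2, m', hm', ha', ?_⟩, fun r => ?_⟩
    · calc s * (X * z) * g * (s * (X * z))⁻¹ = s * (X * z * g * (X * z)⁻¹) * s⁻¹ := by group
        _ = (s * (X * p * X⁻¹) * s⁻¹) * (m * ((m⁻¹ * (s * (RD K).xe 18 T' * s⁻¹) * m) *
              ((m⁻¹ * (s * (RD K).xe 13 (T' ^ q) * s⁻¹) * m) *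
                (m⁻¹ * (s * (RD K).xe 12 ((T' ^ q) ^ q) * s⁻¹) * m)))) := by
            rw [e2, hmdef, xk]; group
        _ = _ := by
            rw [e0, e2', e3]
            have := ep
            simp only [List.map_cons, List.map_nil, List.prod_cons, List.prod_nil, mul_one] at this
            rw [this]
            simp only [mul_assoc]
    · simp only [List.map_cons, List.map_nil, List.prod_cons, List.prod_nil, mul_one]
      rw [Equiv.Perm.mul_apply, hπ']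
      simp only [Equiv.Perm.mul_apply, Rel.wperm_apply, hi0, hi2, hi3]
      exact ex_facts.2.2.1 r

theorem mid_sq (a b : Fˣ) (s : F) {u : GD K} (hu : u ∈ U4 K ⊓ P1 hq hK) :
    IsSq hq hK j h ρ (psi j ((RR F).xe 0 (-1)) * phiF j (G2.T01 s * G2.dg a b) * u) := by
  obtain ⟨e, he⟩ : ∃ e : Fˣ, e = a⁻¹ * b⁻¹ := ⟨_, rfl⟩
  obtain ⟨c, hc⟩ : ∃ c : F, c = 1 - (e : F) := ⟨_, rfl⟩
  refine IsSq.conj hq hK j h ρ (z := psi j ((RR F).xe 11 c)) (psi_mem hq hK j hj _) ?_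
  have k := congrArg (psi j) (G2.long_opp c (-1) e (by rw [hc]; ring))
  rw [map_mul (psi j), map_mul (psi j), map_mul (psi j), psi_lev] at k
  obtain ⟨A, hA⟩ : ∃ A, A = G2.dg e 1 * (G2.T01 s * G2.dg a b) := ⟨_, rfl⟩
  obtain ⟨u2, hu2def⟩ : ∃ u2, u2 = (phiF j (G2.T01 s * G2.dg a b))⁻¹ * psi j ((RR F).xe 11 (c / e)) *
      phiF j (G2.T01 s * G2.dg a b) * u * (psi j ((RR F).xe 11 c))⁻¹ := ⟨_, rfl⟩
  have hU : ∀ y : F, psi j ((RR F).xe 11 y) ∈ U4 K ⊓ P1 hq hK := fun y =>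
    psi_U5 hq hK j hj (G2.xe_U5 11 (by decide) (by decide) y)
  have hl : ∀ B : GL (Fin 2) F, ∀ w ∈ U4 K ⊓ P1 hq hK, (phiF j B)⁻¹ * w * phiF j B ∈ U4 K ⊓ P1 hq hK :=
    fun B w hw => ((conj_inf hq hK j hj (show phiF j B ∈ _ from phi_normalizer _) (phiF_mem hq hK j hj B)).1 w hw).2
  have hu2 : u2 ∈ U4 K ⊓ P1 hq hK := hu2def ▸ mul_mem (mul_mem (hl _ _ (hU _)) hu) (inv_mem (hU _))
  obtain ⟨p, hp⟩ : ∃ p, p = -1 / (e : F) := ⟨_, rfl⟩
  have e1 : psi j ((RR F).xe 11 c) * (psi j ((RR F).xe 0 (-1)) * phiF j (G2.T01 s * G2.dg a b) * u) *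
      (psi j ((RR F).xe 11 c))⁻¹ = psi j ((RR F).xe 0 p) * phiF j A * u2 := by
    rw [← mul_assoc, ← mul_assoc, k, hA, map_mul (phiF j) (G2.dg e 1), hu2def, ← hp]
    group
  rw [e1]
  have hp0 : p ≠ 0 := hp ▸ div_ne_zero (neg_ne_zero.2 one_ne_zero) e.ne_zero
  have hAv : A.1 = !![(e : F) * a, (e : F) * (s * b); 0, (b : F)] := by
    rw [hA, Units.val_mul, Units.val_mul, G2.dg_val, G2.dg_val, G2.T01_val]
    ext i k; fin_cases i <;> fin_cases k <;> simp [mul_apply, Fin.sum_univ_two]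
  have hab : (e : F) * a = (b : F)⁻¹ := by rw [he]; simp [mul_comm]
  have hdet : A.1.det = 1 := by
    rw [hAv, det_fin_two]
    simp [hab]
  have hV : psi j ((RR F).xe 0 p) ∈ V4 K ⊓ P1 hq hK := psi_V5 hq hK j hj (G2.xe_V5 0 (by decide) p)
  by_cases hgood : G2.OKMat 1 A.1
  · exact isSq_cell hq hK j hj h ρ hN hρ hgood hV hu2
  refine IsSq.conj hq hK j h ρ (z := psi j ((RR F).xe 10 1)) (psi_mem hq hK j hj _) ?_
  have k2 := congrArg (psi j) (G2.short_opp (1 : F) p)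
  rw [map_mul (psi j), map_mul (psi j), map_mul (psi j), psi_lev, one_mul] at k2
  have e2 : psi j ((RR F).xe 10 1) * (psi j ((RR F).xe 0 p) * phiF j A * u2) * (psi j ((RR F).xe 10 1))⁻¹ =
      psi j ((RR F).xe 0 p) * phiF j (G2.T10 p * A) *
        ((phiF j A)⁻¹ * psi j ((RR F).xe 10 1) * phiF j A * u2 * (psi j ((RR F).xe 10 1))⁻¹) := by
    rw [← mul_assoc, ← mul_assoc, k2, map_mul (phiF j) (G2.T10 p) A]
    group
  rw [e2]
  have hx : psi j ((RR F).xe 10 1) ∈ U4 K ⊓ P1 hq hK := psi_U5 hq hK j hj (G2.xe_U5 10 (by decide) (by decide) 1)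
  refine isSq_cell hq hK j hj h ρ hN hρ ?_ hV (mul_mem (mul_mem (hl _ _ hx) hu2) (inv_mem hx))
  have hM : (G2.T10 p * A).1 = !![(b : F)⁻¹, (e : F) * (s * b); p * (b : F)⁻¹, p * ((e : F) * (s * b)) + b] := by
    rw [Units.val_mul, G2.T10_val, hAv, hab]
    ext i k; fin_cases i <;> fin_cases k <;> simp [mul_apply, Fin.sum_univ_two]
  have hb := b.ne_zero
  refine ⟨by rw [Units.val_mul, det_mul, hdet, G2.T10_val]; simp [det_fin_two], Or.inr ⟨?_, ?_⟩⟩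
  · rintro ⟨c, hc⟩
    rw [hM] at hc
    have := congrFun (congrFun hc 1) 0
    simp [hp0] at this
  rw [hM, trace_fin_two]
  simp only [Matrix.cons_val_zero, Matrix.cons_val_one, Matrix.of_apply, Matrix.cons_val', Matrix.cons_val_fin_one]
  intro htr
  simp only [G2.OKMat, hdet, one_pow, true_and, not_or, not_and, not_not] at hgood
  rw [hAv, hab] at hgood
  -- the failing cases
  by_cases hb1 : (b : F) = 1
  · have hs : s ≠ 0 := by
      intro hs
      apply hgood.1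
      rw [hb1, hs]
      ext i k; fin_cases i <;> fin_cases k <;> simp
    rw [hb1] at htr
    have : p * ((e : F) * s) = 0 := by
      rw [inv_one] at htr
      linear_combination htr
    simp [hp0, hs] at this
  · have hs : s = 0 := by
      by_contra hs
      have h2 := hgood.2 (fun ⟨c, hc⟩ => by
        have := congrFun (congrFun hc 0) 1
        simp [hs] at this)
      rw [trace_fin_two] at h2
      simp at h2
      field_simp at h2
      have h3 : ((b : F) - 1) ^ 2 = 0 := by linear_combination h2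
      exact hb1 (sub_eq_zero.1 (eq_zero_of_pow_eq_zero h3))
    rw [hs] at htr
    simp at htr
    field_simp at htr
    have h3 : ((b : F) - 1) ^ 2 = 0 := by linear_combination htr
    exact hb1 (sub_eq_zero.1 (eq_zero_of_pow_eq_zero h3))

/-- every nontrivial element is a product of two conjugates -/
theorem covers {g : GD K} (hg : g ∈ P1 hq hK) (hne : g ≠ 1) : IsSq hq hK j h ρ g := by
  have far : ∀ τ, Form hq hK g τ → ((∀ r, (τ r : ℕ) = 23 - (r : ℕ)) ∨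
      ∀ r : Fin chevD4.nroots, (τ r : ℕ) = wNum (ow 1) (23 - r)) → IsSq hq hK j h ρ g := by
    intro τ hF hτ
    obtain ⟨A, x, u, hu, z, hz, e⟩ := far_form hq hK j hj hg hF hτ
    exact IsSq.conj hq hK j h ρ hz (e ▸ far_sq hq hK j hj h ρ hN hρ A x hu)
  obtain ⟨τ, hF, h0 | h0 | h0⟩ := exists_cell hq hK j hj hg hne
  · exact far τ hF (Or.inl h0)
  · exact far τ hF (Or.inr h0)
  · rcases mid_form hq hK j hj hg hF h0 with ⟨τ', hF', h1⟩ | ⟨a, b, s, u, hu, z, hz, e⟩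
    · exact far τ' hF' (Or.inl h1)
    · exact IsSq.conj hq hK j h ρ hz (e ▸ mid_sq hq hK j hj h ρ hN hρ a b s hu)

omit hj hN hρ F j t d h ρ in
/-- the class square theorem -/
theorem square (p : ℕ) [Fact p.Prime] [CharP K p] :
    ∃ x : twistedD4 K q, ¬ p ∣ orderOf x ∧
      ∀ g : twistedD4 K q, g ≠ 1 → ∃ u v : twistedD4 K q, g = (u * x * u⁻¹) * (v * x * v⁻¹) := by
  classical
  obtain ⟨F0, hF0⟩ : ∃ F0 : Subfield K, F0 = (frD4 hq hK).eqLocusField (RingHom.id K) := ⟨_, rfl⟩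
  have hj : ∀ a : K, a ^ q = a ↔ a ∈ F0.subtype.range := by
    intro a
    rw [RingHom.mem_range]
    constructor
    · intro ha
      exact ⟨⟨a, by rw [hF0]; show frD4 hq hK a = a; rw [frD4_apply, ha]⟩, rfl⟩
    · rintro ⟨⟨b, hb⟩, rfl⟩
      rw [hF0] at hb
      have : frD4 hq hK b = b := hb
      rw [frD4_apply] at this
      exact this
  haveI : Fintype F0 := Fintype.ofFinite F0
  -- the parameters
  obtain ⟨t, d, h, ρ, hN, hρ⟩ : ∃ (t d : F0) (h : Pre t d) (ρ : Kˣ),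
      nm q ρ = 1 ∧ (ρ : K) ^ 2 ≠ F0.subtype d := by
    by_cases h3 : 3 ≤ Fintype.card F0
    · obtain ⟨t, d, h⟩ := Good.exists_good (F := F0) h3
      refine ⟨t, d, h.toPre, 1, ?_, fun z => h.d_ne_one ?_⟩
      · simp [nm]
      · refine Subtype.ext ?_
        simpa using z.symm
    have hcard : ∀ a : F0, a = 0 ∨ a = 1 := by
      intro a
      by_contra hne
      push Not at hne
      refine h3 ?_
      have : ({0, 1, a} : Finset F0).card = 3 := by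
        rw [Finset.card_eq_three]
        exact ⟨0, 1, a, zero_ne_one, Ne.symm hne.1, Ne.symm hne.2, rfl⟩
      exact this ▸ Finset.card_le_univ _
    have hm1 : (-1 : K) = 1 := by
      rcases hcard (-1) with z | z
      · exact absurd z (neg_ne_zero.2 one_ne_zero)
      · have := congrArg F0.subtype z
        simpa using this
    obtain ⟨r, -, hr⟩ := Finset.exists_mem_notMem_of_card_lt_card (s := ({0, 1} : Finset K)) (t := Finset.univ)
      (lt_of_le_of_lt Finset.card_le_two (by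
        rw [Finset.card_univ, hK]
        exact lt_of_lt_of_le (by decide : 2 < 2 ^ 3) (Nat.pow_le_pow_left hq.two_le 3)))
    simp only [Finset.mem_insert, Finset.mem_singleton, not_or] at hr
    refine ⟨1, 1, ⟨fun a => ?_, one_ne_zero⟩, Units.mk0 r hr.1, ?_, fun z => hr.2 ?_⟩
    · rcases hcard a with rfl | rfl <;> simp
    · obtain ⟨a, ha⟩ := exists_nm hq hK F0.subtype hj (Units.mk0 r hr.1)
      rw [ha, show a = 1 from Units.ext ((hcard a).resolve_left a.ne_zero), map_one]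
    · simp at z
      rcases z with z | z
      · exact z
      · rw [z, hm1]
  obtain ⟨x, hx⟩ : ∃ x, x = xEl (q := q) F0.subtype h ρ := ⟨_, rfl⟩
  have hx1 : x ∈ P1 hq hK := hx ▸ lev_mem hq hK _ hj _ ρ
  let e : P1 hq hK ≃* twistedD4 K q := Subgroup.subgroupOfEquivOfLe twD4_le
  refine ⟨e ⟨x, hx1⟩, ?_, fun g hg => ?_⟩
  · rw [MulEquiv.orderOf_eq, ← Subgroup.orderOf_coe]
    exact hx ▸ not_dvd hq hK _ hj h ρ hN p
  · have hne : ((e.symm g : P1 hq hK) : GD K) ≠ 1 := fun z => hg (by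
      have : e.symm g = 1 := Subtype.ext z
      simpa using this)
    obtain ⟨u, hu, v, hv, euv⟩ := covers hq hK _ hj h ρ hN hρ (e.symm g).2 hne
    refine ⟨e ⟨u, hu⟩, e ⟨v, hv⟩, ?_⟩
    rw [← map_inv, ← map_inv, ← map_mul, ← map_mul, ← map_mul, ← map_mul, ← map_mul]
    refine e.symm_apply_eq.1 (Subtype.ext ?_)
    rw [euv, ← hx]
    rfl

end CfsgLib.Known.SmallSquare.Tri
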