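import Mathlib

/-!
# Products of two matrices with one irreducible characteristic polynomial

For a monic irreducible quadratic `X² - tX + d` over a finite field with `t ≠ 0`, every two by two matrix of
determinant `d²` which is `d • 1`, or is not scalar and has trace different from `2d`, is the product of two
conjugates of the companion matrix.
-/

set_option autoImplicit false

namespace CfsgLib.Known.SmallSquare

open Matrix Polynomial

universe u

variable {F : Type u} [Field F]

/-- the companion matrix -/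
def comp2 (t d : F) : Matrix (Fin 2) (Fin 2) F := !![0, -d; 1, t]

/-- the admissible coefficient pairs -/
structure Pre (t d : F) : Prop where
  irr : ∀ a : F, a ^ 2 - t * a + d ≠ 0
  t_ne : t ≠ 0

/-- the admissible coefficient pairs with nontrivial determinant -/
structure Good (t d : F) : Prop extends Pre t d where
  d_ne_one : d ≠ 1

namespace Good

variable {t d : F}

theorem _root_.CfsgLib.Known.SmallSquare.Pre.d_ne (h : Pre t d) : d ≠ 0 := fun e => h.irr 0 (by rw [e]; ring)

theorem det_comp2 (t d : F) : (comp2 t d).det = d := by simp [comp2, det_fin_two]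

theorem exists_good [Fintype F] (h3 : 3 ≤ Fintype.card F) : ∃ t d : F, Good t d := by
  classical
  obtain ⟨d, -, hd⟩ := Finset.exists_mem_notMem_of_card_lt_card (s := ({0, 1} : Finset F)) (t := Finset.univ)
    (lt_of_le_of_lt Finset.card_le_two (by rw [Finset.card_univ]; omega))
  simp only [Finset.mem_insert, Finset.mem_singleton, not_or] at hd
  by_contra hno
  have hall : ∀ t : F, t ≠ 0 → ∃ a, a ^ 2 - t * a + d = 0 := by
    intro t ht
    by_contra h
    push Not at h
    exact hno ⟨t, d, ⟨h, ht⟩, hd.2⟩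
  choose a ha using hall
  let f : {t : F // t ≠ 0} → {t : F // t ≠ 0} := fun t => ⟨a t.1 t.2, fun e => hd.1 (by
    have := ha t.1 t.2; rw [e] at this; linear_combination this)⟩
  have hf : Function.Injective f := by
    intro s t e
    have e' : a s.1 s.2 = a t.1 t.2 := congrArg Subtype.val e
    have h1 := ha s.1 s.2
    have h2 := ha t.1 t.2
    rw [e'] at h1
    have hne : a t.1 t.2 ≠ 0 := (f t).2
    exact Subtype.ext (mul_right_cancel₀ hne (by linear_combination h2 - h1))
  have hs := Finite.surjective_of_injective hf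
  have hself : ∀ b : F, b ≠ 0 → b ^ 2 = d := by
    intro b hb
    obtain ⟨t, e⟩ := hs ⟨b, hb⟩
    obtain ⟨s, e'⟩ := hs ⟨d / b, div_ne_zero hd.1 hb⟩
    have eb : a t.1 t.2 = b := congrArg Subtype.val e
    have eb' : a s.1 s.2 = d / b := congrArg Subtype.val e'
    have h1 := ha t.1 t.2
    have h2 := ha s.1 s.2
    rw [eb] at h1
    rw [eb'] at h2
    have : s = t := by
      refine Subtype.ext (mul_left_cancel₀ (mul_ne_zero hd.1 hb) ?_)
      field_simp at h2
      linear_combination (d * h1 - h2)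
    rw [this] at eb'
    rw [eb] at eb'
    rw [pow_two]
    field_simp at eb'
    linear_combination eb'
  exact hd.2 (by rw [← hself 1 one_ne_zero, one_pow])

/-- matrices with these invariants are conjugate to the companion matrix -/
theorem _root_.CfsgLib.Known.SmallSquare.Pre.conj_comp2 (h : Pre t d) (A : Matrix (Fin 2) (Fin 2) F) (ht : A.trace = t) (hd : A.det = d) :
    ∃ P : GL (Fin 2) F, A = (P : Matrix (Fin 2) (Fin 2) F) * comp2 t d * ((P⁻¹ : GL (Fin 2) F) : Matrix _ _ F) := by
  rw [trace_fin_two] at ht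
  rw [det_fin_two] at hd
  have hc : A 1 0 ≠ 0 := fun e => h.irr (A 0 0) (by
    rw [e] at hd; linear_combination A 0 0 * ht - hd)
  let P := Matrix.GeneralLinearGroup.mkOfDetNeZero !![1, A 0 0; 0, A 1 0] (by simp [det_fin_two, hc])
  refine ⟨P, ?_⟩
  have key : A * (P : Matrix (Fin 2) (Fin 2) F) = (P : Matrix (Fin 2) (Fin 2) F) * comp2 t d := by
    show A * !![1, A 0 0; 0, A 1 0] = !![1, A 0 0; 0, A 1 0] * comp2 t d
    ext i j
    fin_cases i <;> fin_cases j <;> simp [comp2, mul_apply, Fin.sum_univ_two]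
    · linear_combination A 0 0 * ht - hd
    · linear_combination A 1 0 * ht
  rw [← key, mul_assoc, ← Units.val_mul, mul_inv_cancel, Units.val_one, mul_one]

/-- a nonscalar matrix is conjugate to a companion matrix -/
theorem exists_companion (M : Matrix (Fin 2) (Fin 2) F) (hM : ¬ ∃ c : F, M = c • 1) :
    ∃ P : GL (Fin 2) F,
      M = (P : Matrix (Fin 2) (Fin 2) F) * comp2 M.trace M.det * ((P⁻¹ : GL (Fin 2) F) : Matrix _ _ F) := by
  have hv : ∃ v w : F, v * (M 1 0 * v + M 1 1 * w) - w * (M 0 0 * v + M 0 1 * w) ≠ 0 := by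
    by_contra hno
    push Not at hno
    apply hM
    have h1 := hno 1 0
    have h2 := hno 0 1
    have h3 := hno 1 1
    simp only [mul_zero, add_zero, one_mul, zero_mul, sub_zero, mul_one, zero_add, zero_sub, neg_eq_zero] at h1 h2 h3
    refine ⟨M 0 0, ?_⟩
    have : M 1 1 = M 0 0 := by linear_combination h3 - h1 + h2
    ext i j
    fin_cases i <;> fin_cases j <;> simp [h1, h2, this]
  obtain ⟨v, w, hvw⟩ := hv
  let P := Matrix.GeneralLinearGroup.mkOfDetNeZero
    !![v, M 0 0 * v + M 0 1 * w; w, M 1 0 * v + M 1 1 * w] (by simp [det_fin_two]; contrapose! hvw; linear_combination hvw)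
  refine ⟨P, ?_⟩
  have key : M * (P : Matrix (Fin 2) (Fin 2) F) = (P : Matrix (Fin 2) (Fin 2) F) * comp2 M.trace M.det := by
    show M * !![v, _; w, _] = !![v, _; w, _] * comp2 M.trace M.det
    ext i j
    fin_cases i <;> fin_cases j <;> simp [comp2, mul_apply, Fin.sum_univ_two, trace_fin_two, det_fin_two] <;> ring
  rw [← key, mul_assoc, ← Units.val_mul, mul_inv_cancel, Units.val_one, mul_one]

/-- the point on the conic -/
theorem _root_.CfsgLib.Known.SmallSquare.Pre.exists_point [Fintype F] (h : Pre t d) {T : F} (hT : T ≠ 2 * d) :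
    ∃ a c : F, a ^ 2 + T * a * c + d ^ 2 * c ^ 2 - t * a - d * t * c + d = 0 := by
  by_cases h2 : ringChar F = 2
  · have : CharP F 2 := ringChar.of_eq h2
    have e2 : (2 : F) = 0 := CharP.cast_eq_zero F 2
    have hT0 : T ≠ 0 := by simpa [e2] using hT
    obtain ⟨a, ha⟩ := FiniteField.isSquare_of_char_two h2 (d ^ 2 * (t / T) ^ 2 + d * t * (t / T) + d)
    refine ⟨a, t / T, ?_⟩
    have hc : T * (t / T) = t := by field_simp
    linear_combination (-1 : F) * ha + a * hc +
      (d ^ 2 * (t / T) ^ 2 + d) * e2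
  have h2' : (2 : F) ≠ 0 := Ring.two_ne_zero h2
  -- the discriminant in the first unknown
  suffices ∃ c w : F, (T ^ 2 - 4 * d ^ 2) * c ^ 2 - 2 * t * (T - 2 * d) * c + (t ^ 2 - 4 * d) = w ^ 2 by
    obtain ⟨c, w, hw⟩ := this
    refine ⟨(w - (T * c - t)) / 2, c, ?_⟩
    field_simp
    linear_combination (-1 : F) * hw
  have hlin : -(2 * t * (T - 2 * d)) ≠ 0 := neg_ne_zero.2 (mul_ne_zero (mul_ne_zero h2' h.t_ne) (sub_ne_zero.2 hT))
  by_cases hq : T ^ 2 - 4 * d ^ 2 = 0
  · refine ⟨(t ^ 2 - 4 * d) / (2 * t * (T - 2 * d)), 0, ?_⟩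
    rw [hq]
    rw [neg_ne_zero] at hlin
    rw [show (2 * t * (T - 2 * d)) * ((t ^ 2 - 4 * d) / (2 * t * (T - 2 * d))) = t ^ 2 - 4 * d from
      mul_div_cancel₀ _ hlin]
    ring
  obtain ⟨c, w, hcw⟩ := FiniteField.exists_root_sum_quadratic
    (f := C (T ^ 2 - 4 * d ^ 2) * X ^ 2 + C (-(2 * t * (T - 2 * d))) * X + C (t ^ 2 - 4 * d)) (g := -X ^ 2)
    (Polynomial.degree_quadratic hq) (by rw [Polynomial.degree_neg, Polynomial.degree_X_pow]; rfl)
    (FiniteField.odd_card_of_char_ne_two h2)
  refine ⟨c, w, ?_⟩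
  simp only [eval_add, eval_mul, eval_C, eval_pow, eval_X, eval_neg] at hcw
  linear_combination hcw

/-- the factorisation -/
theorem _root_.CfsgLib.Known.SmallSquare.Pre.exists_factor [Fintype F] (h : Pre t d) (M : Matrix (Fin 2) (Fin 2) F) (hdet : M.det = d ^ 2)
    (hM : M = d • 1 ∨ ((¬ ∃ c : F, M = c • 1) ∧ M.trace ≠ 2 * d)) :
    ∃ P Q : GL (Fin 2) F, M =
      ((P : Matrix (Fin 2) (Fin 2) F) * comp2 t d * ((P⁻¹ : GL (Fin 2) F) : Matrix _ _ F)) *
      ((Q : Matrix (Fin 2) (Fin 2) F) * comp2 t d * ((Q⁻¹ : GL (Fin 2) F) : Matrix _ _ F)) := by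
  rcases hM with rfl | ⟨hM, htr⟩
  · obtain ⟨Q, hQ⟩ := h.conj_comp2 !![t, d; -1, 0] (by simp [trace_fin_two]) (by simp [det_fin_two])
    refine ⟨1, Q, ?_⟩
    rw [← hQ, inv_one, Units.val_one, one_mul, mul_one]
    ext i j
    fin_cases i <;> fin_cases j <;> simp [comp2, mul_apply, Fin.sum_univ_two] <;> ring
  obtain ⟨R, hR⟩ := exists_companion M hM
  set T := M.trace
  obtain ⟨a, c, hac⟩ := h.exists_point htr
  set b := d ^ 2 * c + a * T - d * t
  let A1 : Matrix (Fin 2) (Fin 2) F := !![a, b; c, t - a]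
  have hA1 : A1.det = d := by simp [A1, b, det_fin_two]; linear_combination -hac
  obtain ⟨P, hP⟩ := h.conj_comp2 A1 (by simp [A1, trace_fin_two]) hA1
  let A2 : Matrix (Fin 2) (Fin 2) F := d⁻¹ • (!![t - a, -b; -c, a] * comp2 T (d ^ 2))
  obtain ⟨Q, hQ⟩ := h.conj_comp2 A2 (by
      simp [A2, b, comp2, trace_fin_two, mul_apply, Fin.sum_univ_two]
      have := h.d_ne
      field_simp
      ring) (by
      simp only [A2, det_smul, det_mul, det_comp2, Fintype.card_fin]
      rw [show (!![t - a, -b; -c, a] : Matrix (Fin 2) (Fin 2) F).det = d by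
        rw [← hA1]; simp [A1, det_fin_two]; ring]
      have := h.d_ne
      field_simp)
  have hprod : comp2 T (d ^ 2) = A1 * A2 := by
    have hd := h.d_ne
    have e : A1 * !![t - a, -b; -c, a] = d • 1 := by
      rw [det_fin_two] at hA1
      simp [A1] at hA1
      ext i j
      fin_cases i <;> fin_cases j <;> simp [A1, mul_apply, Fin.sum_univ_two] <;>
        first | linear_combination hA1 | ring
    simp only [A2, Matrix.mul_smul, ← mul_assoc, e, Matrix.smul_mul, one_mul, smul_smul]
    rw [inv_mul_cancel₀ hd, one_smul]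
  refine ⟨R * P, R * Q, ?_⟩
  rw [hR, hdet, hprod, hP, hQ]
  simp only [Units.val_mul, _root_.mul_inv_rev, mul_assoc, Units.inv_mul_cancel_left]

/-- powers of the companion matrix are never exceptional -/
theorem _root_.CfsgLib.Known.SmallSquare.Pre.not_dvd_orderOf [Fintype F] (h : Pre t d) (p : ℕ) [Fact p.Prime] [CharP F p] (Y : GL (Fin 2) F)
    (hY : (Y : Matrix (Fin 2) (Fin 2) F) = comp2 t d) : ¬ p ∣ orderOf Y := by
  rintro ⟨m, hm⟩
  have span : ∀ k : ℕ, ∃ α β : F, comp2 t d ^ k = α • 1 + β • comp2 t d := by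
    intro k
    induction k with
    | zero => exact ⟨1, 0, by simp⟩
    | succ k ih =>
      obtain ⟨α, β, e⟩ := ih
      refine ⟨-(β * d), α + β * t, ?_⟩
      rw [pow_succ, e]
      ext i j
      fin_cases i <;> fin_cases j <;> simp [comp2, mul_apply, Fin.sum_univ_two] <;> ring
  obtain ⟨α, β, e⟩ := span m
  have hp : ((Y : Matrix (Fin 2) (Fin 2) F) ^ m) ^ p = 1 := by
    rw [← pow_mul, mul_comm, ← hm, ← Units.val_pow_eq_pow_val, pow_orderOf_eq_one, Units.val_one]
  have hne : (Y : Matrix (Fin 2) (Fin 2) F) ^ m ≠ 1 := fun e1 => by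
    have h0 : 0 < orderOf Y := orderOf_pos Y
    have : orderOf Y ∣ m := orderOf_dvd_of_pow_eq_one (Units.ext (by rw [Units.val_pow_eq_pow_val, e1]; rfl))
    have hm0 : 0 < m := Nat.pos_of_ne_zero fun z => by rw [z, mul_zero] at hm; omega
    have := Nat.le_of_dvd hm0 this
    have := (Fact.out : p.Prime).two_le
    nlinarith
  have hnil : ((Y : Matrix (Fin 2) (Fin 2) F) ^ m - 1) ^ p = 0 := by
    rw [sub_pow_char_of_commute p (Commute.one_right _), hp, one_pow, sub_self]
  have hdet : ((Y : Matrix (Fin 2) (Fin 2) F) ^ m - 1).det = 0 := by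
    have := congrArg Matrix.det hnil
    rw [det_pow, det_zero] at this
    exact eq_zero_of_pow_eq_zero this
  rw [hY, e] at hdet hne
  simp [comp2, det_fin_two] at hdet
  by_cases hβ : β = 0
  · subst hβ
    simp at hdet
    exact hne (by rw [show α = 1 by linear_combination hdet]; simp)
  · refine h.irr (-(α - 1) / β) ?_
    field_simp
    linear_combination hdet

end Good

end CfsgLib.Known.SmallSquare
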